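import Mathlib
import Cfsg.Prelude.Def_GeometricClasses

set_option autoImplicit false
set_option linter.unusedSectionVars false

namespace Cfsg.Agent.Lib.Helper95

open scoped MatrixGroups Matrix

variable {ι : Type} [Fintype ι] [DecidableEq ι] {F : Type*} [Field F]

/-- The matrix of `x ↦ x + (φ ⬝ᵥ x) • v`. -/
def tvMat (φ v : ι → F) : Matrix ι ι F := 1 + Matrix.vecMulVec v φ

lemma tvMat_mulVec (φ v x : ι → F) : tvMat φ v *ᵥ x = x + (φ ⬝ᵥ x) • v := by
  unfold tvMat
  rw [Matrix.add_mulVec, Matrix.one_mulVec, Matrix.vecMulVec_mulVec]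
  congr 1
  ext i
  simp [mul_comm]

lemma tvMat_mul_tvMat (φ v w : ι → F) (h : φ ⬝ᵥ w = 0) :
    tvMat φ v * tvMat φ w = tvMat φ (v + w) := by
  unfold tvMat
  rw [Matrix.add_mul, Matrix.mul_add, Matrix.mul_add, Matrix.one_mul, Matrix.one_mul,
    Matrix.mul_one, Matrix.vecMulVec_mul_vecMulVec, h, zero_smul, Matrix.add_vecMulVec]
  ext i j
  simp [Matrix.vecMulVec]
  ring

lemma tvMat_zero_right (φ : ι → F) : tvMat φ 0 = 1 := by
  unfold tvMat
  ext i j
  simp [Matrix.vecMulVec]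

lemma det_tvMat (φ v : ι → F) : (tvMat φ v).det = 1 + φ ⬝ᵥ v := by
  have h := Matrix.det_one_add_replicateCol_mul_replicateRow (ι := Unit) v φ
  rw [← h]
  unfold tvMat
  congr 2
  ext i j
  simp [Matrix.vecMulVec, Matrix.mul_apply]

/-- The transvection `x ↦ x + (φ ⬝ᵥ x) • v` as an element of GL, when `φ ⬝ᵥ v = 0`. -/
def tvGL (φ v : ι → F) (h : φ ⬝ᵥ v = 0) : GL ι F where
  val := tvMat φ v
  inv := tvMat φ (-v)
  val_inv := by
    rw [tvMat_mul_tvMat _ _ _ (by simp [h]), add_neg_cancel, tvMat_zero_right]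
  inv_val := by
    rw [tvMat_mul_tvMat _ _ _ h, neg_add_cancel, tvMat_zero_right]

@[simp] lemma tvGL_val (φ v : ι → F) (h : φ ⬝ᵥ v = 0) :
    ((tvGL φ v h : GL ι F) : Matrix ι ι F) = tvMat φ v := rfl

lemma tvGL_mem_specialLinear (φ v : ι → F) (h : φ ⬝ᵥ v = 0) :
    tvGL φ v h ∈ Cfsg.Geo.specialLinear ι F := by
  unfold Cfsg.Geo.specialLinear
  rw [MonoidHom.mem_ker]
  apply Units.ext
  rw [Matrix.GeneralLinearGroup.val_det_apply]
  simp [det_tvMat, h]

lemma mem_subspaceStabilizer_iff (W : Submodule F (ι → F)) (g : GL ι F) :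
    g ∈ Cfsg.Geo.subspaceStabilizer W ↔ ∀ x, x ∈ W ↔ (g : Matrix ι ι F) *ᵥ x ∈ W := Iff.rfl

/-- A transvection with direction `v ∈ W` stabilises `W`. -/
lemma tvGL_mem_stabilizer_of_mem (W : Submodule F (ι → F)) (φ v : ι → F) (h : φ ⬝ᵥ v = 0)
    (hv : v ∈ W) : tvGL φ v h ∈ Cfsg.Geo.subspaceStabilizer W := by
  rw [mem_subspaceStabilizer_iff]
  intro x
  rw [tvGL_val, tvMat_mulVec]
  constructor
  · intro hx
    exact W.add_mem hx (W.smul_mem _ hv)
  · intro hx
    have := W.sub_mem hx (W.smul_mem (φ ⬝ᵥ x) hv)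
    simpa using this

/-- A transvection whose functional vanishes on `W` stabilises `W` (it fixes it pointwise). -/
lemma tvGL_mem_stabilizer_of_ker (W : Submodule F (ι → F)) (φ v : ι → F) (h : φ ⬝ᵥ v = 0)
    (hW : ∀ x ∈ W, φ ⬝ᵥ x = 0) : tvGL φ v h ∈ Cfsg.Geo.subspaceStabilizer W := by
  rw [mem_subspaceStabilizer_iff]
  intro x
  rw [tvGL_val, tvMat_mulVec]
  constructor
  · intro hx
    rw [hW x hx, zero_smul, add_zero]
    exact hx
  · intro hx
    have h1 := hW _ hx
    rw [dotProduct_add, dotProduct_smul, h, smul_zero, add_zero] at h1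
    rw [h1, zero_smul, add_zero] at hx
    exact hx

/-- Separation: for `u ∉ S` there is a functional (as a vector, via the dot product) vanishing
on `S` with value `1` at `u`. -/
lemma exists_dotProduct_separating (S : Submodule F (ι → F)) (u : ι → F) (hu : u ∉ S) :
    ∃ φ : ι → F, (∀ x ∈ S, φ ⬝ᵥ x = 0) ∧ φ ⬝ᵥ u = 1 := by
  obtain ⟨f, hfu, hfS⟩ := Submodule.exists_dual_map_eq_bot_of_notMem hu inferInstance
  have hfS' : ∀ x ∈ S, f x = 0 := by
    intro x hx
    have : f x ∈ S.map f := Submodule.mem_map_of_mem hx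
    rw [hfS] at this
    simpa using this
  refine ⟨fun i => (f u)⁻¹ * f (Pi.single i 1), ?_, ?_⟩
  · intro x hx
    have hx' : f x = ∑ i, x i * f (Pi.single i 1) := by
      conv_lhs => rw [← Finset.univ_sum_single x]
      rw [map_sum]
      refine Finset.sum_congr rfl fun i _ => ?_
      have : (Pi.single i (x i) : ι → F) = x i • Pi.single i 1 := by
        ext j; simp [Pi.single_apply]
      rw [this, map_smul, smul_eq_mul]
    simp only [dotProduct]
    have : ∑ i, (f u)⁻¹ * f (Pi.single i 1) * x i = (f u)⁻¹ * ∑ i, x i * f (Pi.single i 1) := by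
      rw [Finset.mul_sum]
      refine Finset.sum_congr rfl fun i _ => by ring
    rw [this, ← hx', hfS' x hx, mul_zero]
  · have hx' : f u = ∑ i, u i * f (Pi.single i 1) := by
      conv_lhs => rw [← Finset.univ_sum_single u]
      rw [map_sum]
      refine Finset.sum_congr rfl fun i _ => ?_
      have : (Pi.single i (u i) : ι → F) = u i • Pi.single i 1 := by
        ext j; simp [Pi.single_apply]
      rw [this, map_smul, smul_eq_mul]
    simp only [dotProduct]
    have : ∑ i, (f u)⁻¹ * f (Pi.single i 1) * u i = (f u)⁻¹ * ∑ i, u i * f (Pi.single i 1) := by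
      rw [Finset.mul_sum]
      refine Finset.sum_congr rfl fun i _ => by ring
    rw [this, ← hx', inv_mul_cancel₀ hfu]

end Cfsg.Agent.Lib.Helper95

namespace Cfsg.Agent.Lib.Helper95

open scoped MatrixGroups Matrix

variable {ι : Type} [Fintype ι] [DecidableEq ι] {F : Type*} [Field F]

/-- A proper non-zero subspace is moved by some element of SL. -/
lemma exists_specialLinear_not_stabilizing (W : Submodule F (ι → F)) (hW0 : W ≠ ⊥) (hW1 : W ≠ ⊤) :
    ∃ g ∈ Cfsg.Geo.specialLinear ι F, g ∉ Cfsg.Geo.subspaceStabilizer W := by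
  obtain ⟨w, hwW, hw0⟩ := (Submodule.ne_bot_iff W).mp hW0
  obtain ⟨v, hv⟩ : ∃ v, v ∉ W := by
    by_contra hcon
    push Not at hcon
    exact hW1 (eq_top_iff.mpr fun x _ => hcon x)
  have hwS : w ∉ Submodule.span F {v} := by
    intro hmem
    obtain ⟨c, hc⟩ := Submodule.mem_span_singleton.mp hmem
    have hc0 : c ≠ 0 := by
      rintro rfl
      rw [zero_smul] at hc
      exact hw0 hc.symm
    apply hv
    have : v = c⁻¹ • w := by rw [← hc, smul_smul, inv_mul_cancel₀ hc0, one_smul]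
    rw [this]
    exact W.smul_mem _ hwW
  obtain ⟨φ, hφS, hφw⟩ := exists_dotProduct_separating _ w hwS
  have hφv : φ ⬝ᵥ v = 0 := hφS v (Submodule.mem_span_singleton_self v)
  refine ⟨tvGL φ v hφv, tvGL_mem_specialLinear φ v hφv, ?_⟩
  intro hmem
  rw [mem_subspaceStabilizer_iff] at hmem
  have h1 := (hmem w).mp hwW
  rw [tvGL_val, tvMat_mulVec, hφw, one_smul] at h1
  apply hv
  have := W.sub_mem h1 hwW
  simpa using this

/-- An element of SL stabilising `W` but not `U`, from a vector `u ∈ U` outside `W ⊔ span {v}`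
with `v ∉ U`. -/
lemma exists_specialLinear_stabilizing_not_stabilizing (W U : Submodule F (ι → F))
    (u v : ι → F) (hu : u ∈ U) (hv : v ∉ U) (huS : u ∉ W ⊔ Submodule.span F {v}) :
    ∃ g ∈ Cfsg.Geo.specialLinear ι F, g ∈ Cfsg.Geo.subspaceStabilizer W ∧
      g ∉ Cfsg.Geo.subspaceStabilizer U := by
  obtain ⟨φ, hφS, hφu⟩ := exists_dotProduct_separating _ u huS
  have hφv : φ ⬝ᵥ v = 0 :=
    hφS v (Submodule.mem_sup_right (Submodule.mem_span_singleton_self v))
  refine ⟨tvGL φ v hφv, tvGL_mem_specialLinear φ v hφv, ?_, ?_⟩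
  · exact tvGL_mem_stabilizer_of_ker W φ v hφv fun x hx => hφS x (Submodule.mem_sup_left hx)
  · intro hmem
    rw [mem_subspaceStabilizer_iff] at hmem
    have h1 := (hmem u).mp hu
    rw [tvGL_val, tvMat_mulVec, hφu, one_smul] at h1
    apply hv
    have := U.sub_mem h1 hu
    simpa using this

end Cfsg.Agent.Lib.Helper95
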