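import Mathlib
import Cfsg.Agent.Lib.Helper95.Transvection

set_option autoImplicit false
set_option linter.unusedSectionVars false

namespace Cfsg.Agent.Lib.Helper95

open scoped MatrixGroups Matrix

variable {ι : Type} [Fintype ι] [DecidableEq ι] {F : Type*} [Field F]

lemma tvMat_smul_right (φ v : ι → F) (c : F) : tvMat φ (c • v) = tvMat (c • φ) v := by
  unfold tvMat
  congr 1
  ext i j
  simp [Matrix.vecMulVec]
  ring

lemma tvGL_smul_right (φ v : ι → F) (c : F) (h : φ ⬝ᵥ (c • v) = 0) (h' : (c • φ) ⬝ᵥ v = 0) :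
    tvGL φ (c • v) h = tvGL (c • φ) v h' := by
  apply Units.ext
  simp only [tvGL_val]
  exact tvMat_smul_right φ v c

lemma tvGL_apply (φ v : ι → F) (h : φ ⬝ᵥ v = 0) (x : ι → F) :
    ((tvGL φ v h : GL ι F) : Matrix ι ι F) *ᵥ x = x + (φ ⬝ᵥ x) • v := by
  rw [tvGL_val, tvMat_mulVec]

/-- Conjugating a transvection. -/
lemma tvGL_conj (g : GL ι F) (φ v : ι → F) (h : φ ⬝ᵥ v = 0)
    (h' : (φ ᵥ* ((g⁻¹ : GL ι F) : Matrix ι ι F)) ⬝ᵥ ((g : Matrix ι ι F) *ᵥ v) = 0) :
    g * tvGL φ v h * g⁻¹ = tvGL (φ ᵥ* ((g⁻¹ : GL ι F) : Matrix ι ι F)) ((g : Matrix ι ι F) *ᵥ v) h' := by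
  apply Units.ext
  simp only [Units.val_mul, tvGL_val]
  unfold tvMat
  rw [Matrix.mul_add, Matrix.add_mul, Matrix.mul_one, ← Units.val_mul, mul_inv_cancel, Units.val_one,
    Matrix.mul_vecMulVec, Matrix.vecMulVec_mul]

lemma conj_dot_eq (g : GL ι F) (φ v : ι → F) :
    (φ ᵥ* ((g⁻¹ : GL ι F) : Matrix ι ι F)) ⬝ᵥ ((g : Matrix ι ι F) *ᵥ v) = φ ⬝ᵥ v := by
  rw [Matrix.dotProduct_mulVec, Matrix.vecMul_vecMul, ← Units.val_mul, inv_mul_cancel, Units.val_one,
    Matrix.vecMul_one]

/-- If a transvection in direction `v` with functional `φ ∘ g` lies in a subgroup `M`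
and `g ∈ M`, then the transvection in direction `g v` with functional `φ` lies in `M`. -/
lemma tvGL_mem_of_conj (M : Subgroup (GL ι F)) (g : GL ι F) (hg : g ∈ M) (ψ v : ι → F)
    (h : ψ ⬝ᵥ ((g : Matrix ι ι F) *ᵥ v) = 0)
    (h0 : (ψ ᵥ* (g : Matrix ι ι F)) ⬝ᵥ v = 0)
    (hmem : tvGL (ψ ᵥ* (g : Matrix ι ι F)) v h0 ∈ M) :
    tvGL ψ ((g : Matrix ι ι F) *ᵥ v) h ∈ M := by
  have h1 : g * tvGL (ψ ᵥ* (g : Matrix ι ι F)) v h0 * g⁻¹ ∈ M :=
    M.mul_mem (M.mul_mem hg hmem) (M.inv_mem hg)
  have h2 : ((ψ ᵥ* (g : Matrix ι ι F)) ᵥ* ((g⁻¹ : GL ι F) : Matrix ι ι F)) = ψ := by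
    rw [Matrix.vecMul_vecMul, ← Units.val_mul, mul_inv_cancel, Units.val_one, Matrix.vecMul_one]
  have h3 : g * tvGL (ψ ᵥ* (g : Matrix ι ι F)) v h0 * g⁻¹ = tvGL ψ ((g : Matrix ι ι F) *ᵥ v) h := by
    rw [tvGL_conj g _ v h0 (by rw [conj_dot_eq]; exact h0)]
    apply Units.ext
    simp only [tvGL_val]
    rw [h2]
  rw [← h3]
  exact h1

/-- One-step move: if `a ∉ S ⊔ span {b - a}`, a transvection whose functional vanishes on `S`
maps `a` to `b`. -/
lemma exists_tv_move (S : Submodule F (ι → F)) (a b : ι → F)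
    (ha : a ∉ S ⊔ Submodule.span F {b - a}) :
    ∃ (φ : ι → F) (h : φ ⬝ᵥ (b - a) = 0), (∀ x ∈ S, φ ⬝ᵥ x = 0) ∧
      ((tvGL φ (b - a) h : GL ι F) : Matrix ι ι F) *ᵥ a = b := by
  obtain ⟨φ, hφS, hφa⟩ := exists_dotProduct_separating _ a ha
  have h : φ ⬝ᵥ (b - a) = 0 :=
    hφS _ (Submodule.mem_sup_right (Submodule.mem_span_singleton_self _))
  refine ⟨φ, h, fun x hx => hφS x (Submodule.mem_sup_left hx), ?_⟩
  rw [tvGL_apply, hφa, one_smul]
  abel

/-- Two-step move: for `a, b ∉ S` and a third vector `c ∉ S ⊔ span {a}`, some product of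
transvections (each with functional vanishing on `S`, lying in `M`) maps `a` to `b` and fixes
`S` pointwise. -/
lemma exists_move_fixing (M : Subgroup (GL ι F))
    (hM : ∀ (φ v : ι → F) (h : φ ⬝ᵥ v = 0), tvGL φ v h ∈ M)
    (S : Submodule F (ι → F)) (a b c : ι → F) (ha : a ∉ S) (hb : b ∉ S)
    (hc : c ∉ S ⊔ Submodule.span F {a}) :
    ∃ t ∈ M, (∀ x ∈ S, (t : Matrix ι ι F) *ᵥ x = x) ∧ (t : Matrix ι ι F) *ᵥ a = b := by
  have fixS : ∀ (φ v : ι → F) (h : φ ⬝ᵥ v = 0), (∀ x ∈ S, φ ⬝ᵥ x = 0) →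
      ∀ x ∈ S, ((tvGL φ v h : GL ι F) : Matrix ι ι F) *ᵥ x = x := by
    intro φ v h hS x hx
    rw [tvGL_apply, hS x hx, zero_smul, add_zero]
  by_cases h1 : a ∉ S ⊔ Submodule.span F {b - a}
  · obtain ⟨φ, h, hS, hab⟩ := exists_tv_move S a b h1
    exact ⟨tvGL φ (b - a) h, hM _ _ _, fixS φ _ h hS, hab⟩
  · push Not at h1
    -- b lies in S ⊔ span {a}
    obtain ⟨s, hs, y, hy, hsy⟩ := Submodule.mem_sup.mp h1
    obtain ⟨l, rfl⟩ := Submodule.mem_span_singleton.mp hy
    have hl : l ≠ 0 := by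
      rintro rfl
      rw [zero_smul, add_zero] at hsy
      exact ha (hsy ▸ hs)
    have hbSa : b ∈ S ⊔ Submodule.span F {a} := by
      have h2 : l • b = (1 + l) • a - s := by
        linear_combination (norm := module) hsy
      have h3 : b = l⁻¹ • ((1 + l) • a - s) := by
        rw [← h2, smul_smul, inv_mul_cancel₀ hl, one_smul]
      rw [h3]
      apply Submodule.smul_mem
      exact Submodule.sub_mem _
        (Submodule.mem_sup_right (Submodule.smul_mem _ _ (Submodule.mem_span_singleton_self a)))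
        (Submodule.mem_sup_left hs)
    -- a → c
    have hac : a ∉ S ⊔ Submodule.span F {c - a} := by
      intro hmem
      obtain ⟨s', hs', y, hy, hsy'⟩ := Submodule.mem_sup.mp hmem
      obtain ⟨m, rfl⟩ := Submodule.mem_span_singleton.mp hy
      by_cases hm : m = 0
      · subst hm
        rw [zero_smul, add_zero] at hsy'
        exact ha (hsy' ▸ hs')
      · apply hc
        have h2 : m • c = (1 + m) • a - s' := by
          linear_combination (norm := module) hsy'
        have h3 : c = m⁻¹ • ((1 + m) • a - s') := by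
          rw [← h2, smul_smul, inv_mul_cancel₀ hm, one_smul]
        rw [h3]
        apply Submodule.smul_mem
        exact Submodule.sub_mem _
          (Submodule.mem_sup_right (Submodule.smul_mem _ _ (Submodule.mem_span_singleton_self a)))
          (Submodule.mem_sup_left hs')
    -- c → b
    have hcb : c ∉ S ⊔ Submodule.span F {b - c} := by
      intro hmem
      obtain ⟨s', hs', y, hy, hsy'⟩ := Submodule.mem_sup.mp hmem
      obtain ⟨m, rfl⟩ := Submodule.mem_span_singleton.mp hy
      have h2 : (1 + m) • c = s' + m • b := by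
        linear_combination (norm := module) -hsy'
      by_cases hm : 1 + m = 0
      · rw [hm, zero_smul] at h2
        have hm' : m = -1 := eq_neg_of_add_eq_zero_right hm
        rw [hm'] at h2
        apply hb
        have : b = s' := by
          linear_combination (norm := module) h2
        rw [this]; exact hs'
      · apply hc
        have h3 : c = (1 + m)⁻¹ • (s' + m • b) := by
          rw [← h2, smul_smul, inv_mul_cancel₀ hm, one_smul]
        rw [h3]
        apply Submodule.smul_mem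
        exact Submodule.add_mem _ (Submodule.mem_sup_left hs')
          (Submodule.smul_mem _ _ hbSa)
    obtain ⟨φ₁, h₁, hS₁, hab₁⟩ := exists_tv_move S a c hac
    obtain ⟨φ₂, h₂, hS₂, hab₂⟩ := exists_tv_move S c b hcb
    refine ⟨tvGL φ₂ (b - c) h₂ * tvGL φ₁ (c - a) h₁, M.mul_mem (hM _ _ _) (hM _ _ _), ?_, ?_⟩
    · intro x hx
      rw [Units.val_mul, ← Matrix.mulVec_mulVec, fixS φ₁ _ h₁ hS₁ x hx, fixS φ₂ _ h₂ hS₂ x hx]
    · rw [Units.val_mul, ← Matrix.mulVec_mulVec, hab₁, hab₂]

end Cfsg.Agent.Lib.Helper95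

namespace Cfsg.Agent.Lib.Helper95

open scoped MatrixGroups Matrix

variable {ι : Type} [Fintype ι] [DecidableEq ι] {F : Type*} [Field F]

lemma GL_mulVec_inj (h : GL ι F) {x y : ι → F}
    (hxy : (h : Matrix ι ι F) *ᵥ x = (h : Matrix ι ι F) *ᵥ y) : x = y := by
  have := congrArg (fun z => ((h⁻¹ : GL ι F) : Matrix ι ι F) *ᵥ z) hxy
  simpa [Matrix.mulVec_mulVec, ← Units.val_mul] using this

lemma GL_inv_mulVec_mulVec (h : GL ι F) (x : ι → F) :
    ((h⁻¹ : GL ι F) : Matrix ι ι F) *ᵥ ((h : Matrix ι ι F) *ᵥ x) = x := by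
  rw [Matrix.mulVec_mulVec, ← Units.val_mul, inv_mul_cancel, Units.val_one, Matrix.one_mulVec]

lemma GL_mulVec_inv_mulVec (h : GL ι F) (x : ι → F) :
    (h : Matrix ι ι F) *ᵥ (((h⁻¹ : GL ι F) : Matrix ι ι F) *ᵥ x) = x := by
  rw [Matrix.mulVec_mulVec, ← Units.val_mul, mul_inv_cancel, Units.val_one, Matrix.one_mulVec]

/-- A subgroup containing all transvections can correct any `g` to fix a given proper
subspace pointwise. -/
lemma exists_mul_fixing (M : Subgroup (GL ι F))
    (hM : ∀ (φ v : ι → F) (h : φ ⬝ᵥ v = 0), tvGL φ v h ∈ M)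
    (W : Submodule F (ι → F)) (hW : W ≠ ⊤) (g : GL ι F) :
    ∃ t ∈ M, ∀ x ∈ W, ((t * g : GL ι F) : Matrix ι ι F) *ᵥ x = x := by
  classical
  have key : ∀ A : Finset (ι → F), Submodule.span F (A : Set (ι → F)) ≤ W →
      ∃ t ∈ M, ∀ x ∈ Submodule.span F (A : Set (ι → F)),
        ((t * g : GL ι F) : Matrix ι ι F) *ᵥ x = x := by
    intro A
    induction A using Finset.induction_on with
    | empty =>
      intro _
      refine ⟨1, M.one_mem, ?_⟩
      intro x hx
      simp only [Finset.coe_empty, Submodule.span_empty, Submodule.mem_bot] at hx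
      rw [hx, Matrix.mulVec_zero]
    | insert a A haA ih =>
      intro hle
      have hle' : Submodule.span F (A : Set (ι → F)) ≤ W := by
        refine le_trans (Submodule.span_mono ?_) hle
        rw [Finset.coe_insert]
        exact Set.subset_insert _ _
      obtain ⟨t, htM, htfix⟩ := ih hle'
      set S := Submodule.span F (A : Set (ι → F)) with hS
      set h : GL ι F := t * g with hh
      by_cases haS : a ∈ S
      · refine ⟨t, htM, ?_⟩
        intro x hx
        have : Submodule.span F ((insert a A : Finset (ι → F)) : Set (ι → F)) = S := by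
          rw [Finset.coe_insert, Submodule.span_insert, sup_eq_right,
            Submodule.span_singleton_le_iff_mem]
          exact haS
        rw [this] at hx
        exact htfix x hx
      · have haW : a ∈ W := hle (Submodule.subset_span (by simp))
        have hhaS : (h : Matrix ι ι F) *ᵥ a ∉ S := by
          intro hmem
          have := htfix _ hmem
          have := GL_mulVec_inj h this
          exact haS (this ▸ hmem)
        obtain ⟨c', hc'⟩ : ∃ c', c' ∉ S ⊔ Submodule.span F {a} := by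
          by_contra hcon
          push Not at hcon
          apply hW
          rw [eq_top_iff]
          intro x _
          have hx := hcon x
          have hle2 : S ⊔ Submodule.span F {a} ≤ W := by
            rw [sup_le_iff, Submodule.span_singleton_le_iff_mem]
            exact ⟨hle', haW⟩
          exact hle2 hx
        have hc : (h : Matrix ι ι F) *ᵥ c' ∉ S ⊔ Submodule.span F {(h : Matrix ι ι F) *ᵥ a} := by
          intro hmem
          obtain ⟨s, hs, y, hy, hsy⟩ := Submodule.mem_sup.mp hmem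
          obtain ⟨l, rfl⟩ := Submodule.mem_span_singleton.mp hy
          apply hc'
          have h1 : (h : Matrix ι ι F) *ᵥ (s + l • a) = (h : Matrix ι ι F) *ᵥ c' := by
            rw [Matrix.mulVec_add, Matrix.mulVec_smul, htfix s hs, hsy]
          rw [← GL_mulVec_inj h h1]
          exact Submodule.add_mem _ (Submodule.mem_sup_left hs)
            (Submodule.mem_sup_right (Submodule.smul_mem _ _ (Submodule.mem_span_singleton_self a)))
        obtain ⟨t', ht'M, ht'fix, ht'a⟩ :=
          exists_move_fixing M hM S ((h : Matrix ι ι F) *ᵥ a) a ((h : Matrix ι ι F) *ᵥ c') hhaS haS hc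
        refine ⟨t' * t, M.mul_mem ht'M htM, ?_⟩
        have hmul : ∀ x, ((t' * t * g : GL ι F) : Matrix ι ι F) *ᵥ x
            = (t' : Matrix ι ι F) *ᵥ ((h : Matrix ι ι F) *ᵥ x) := by
          intro x
          rw [mul_assoc, Units.val_mul, ← Matrix.mulVec_mulVec]
        intro x hx
        induction hx using Submodule.span_induction with
        | mem y hy =>
          rw [Finset.coe_insert, Set.mem_insert_iff] at hy
          rcases hy with rfl | hy
          · rw [hmul, ht'a]
          · have hyS : y ∈ S := Submodule.subset_span hy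
            rw [hmul, htfix y hyS, ht'fix y hyS]
        | zero => rw [Matrix.mulVec_zero]
        | add y z _ _ hy hz => rw [Matrix.mulVec_add, hy, hz]
        | smul r y _ hy => rw [Matrix.mulVec_smul, hy]
  obtain ⟨A, hA⟩ := (IsNoetherian.noetherian W : W.FG)
  obtain ⟨t, htM, htfix⟩ := key A (le_of_eq hA)
  exact ⟨t, htM, fun x hx => htfix x (hA ▸ hx)⟩

end Cfsg.Agent.Lib.Helper95
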