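import Cfsg.Agent.Lib.Helper92.M24Invol
import Cfsg.Agent.Lib.Helper35.OctadSplit
import Cfsg.Agent.Lib.Helper36.Idx253d
import Cfsg.Agent.S0367

/-!
Involutions of `M24` and `M23` and the pointwise stabiliser of the base octad.
-/

set_option autoImplicit false

namespace Cfsg.Agent.Lib.Helper95.M24InvolN

open Cfsg Cfsg.Agent.Lib.Helper10 Cfsg.Agent.Lib.Helper92 Cfsg.Agent.Lib.Helper35
open scoped Pointwise

theorem bO_mem_octads : bO ∈ octads :=
  fs_mem_octads octO_lt octO_enc octO_pc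

/-- an involution fixing exactly the points of a finset lies in the pointwise stabiliser. -/
theorem mem_octFix_filter {g : Equiv.Perm GolayPt} (hg : g ∈ M24) :
    g ∈ octFix (Finset.univ.filter fun p => g p = p) := by
  rw [mem_octFix]
  refine ⟨hg, ?_⟩
  intro y hy
  exact (Finset.mem_filter.mp hy).2

/-- fixed points of a conjugate. -/
theorem filter_fix_conj (k g : Equiv.Perm GolayPt) :
    (Finset.univ.filter fun p => (k * g * k⁻¹) p = p) =
      k • (Finset.univ.filter fun p => g p = p) := by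
  ext p
  rw [Finset.mem_filter, Finset.mem_smul_finset]
  constructor
  · rintro ⟨-, hp⟩
    refine ⟨k⁻¹ p, ?_, ?_⟩
    · rw [Finset.mem_filter]
      refine ⟨Finset.mem_univ _, ?_⟩
      have h3 : k (g (k⁻¹ p)) = p := hp
      have h4 : k⁻¹ (k (g (k⁻¹ p))) = k⁻¹ p := by rw [h3]
      simpa using h4
    · simp
  · rintro ⟨q, hq, rfl⟩
    refine ⟨Finset.mem_univ _, ?_⟩
    have hq' : g q = q := (Finset.mem_filter.mp hq).2
    simp [hq']

/-- every involution of `M24` is conjugate into the pointwise stabiliser of the base octad, or to the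
fixed-point-free standard involution. -/
theorem invol_M24_cases (τ : Equiv.Perm GolayPt) (hτ : τ ∈ M24) (h2 : τ * τ = 1) (h1 : τ ≠ 1) :
    (∃ k ∈ M24, k * τ * k⁻¹ ∈ octFix bO) ∨ (∃ k ∈ M24, k * τ * k⁻¹ = wordPerm z2w) := by
  have ho : orderOf τ = 2 := orderOf_eq_two_of ⟨h2, h1⟩
  obtain ⟨k, hk, h | h⟩ := invol_conj τ hτ ho
  · left
    have hz1 : wordPerm z1w ∈ octFix (Finset.univ.filter fun p => wordPerm z1w p = p) :=
      mem_octFix_filter (wordPerm_mem_M24 _)
    obtain ⟨⟨a, ha⟩, hao⟩ := Cfsg.Agent.S0367.result _ bO z1_fixed_mem_octads bO_mem_octads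
    have hao' : a • (Finset.univ.filter fun p => wordPerm z1w p = p) = bO := hao
    have h3 := conj_mem_octFix ha hz1
    rw [hao'] at h3
    refine ⟨a * k, M24.mul_mem ha hk, ?_⟩
    have : a * k * τ * (a * k)⁻¹ = a * (k * τ * k⁻¹) * a⁻¹ := by group
    rw [this, h]
    exact h3
  · right
    exact ⟨k, hk, h⟩

/-- every involution of `M23` is conjugate in `M23` into the pointwise stabiliser of the base octad. -/
theorem invol_M23_into_octFix (hn : (none : GolayPt) ∈ bO) (τ : Equiv.Perm GolayPt)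
    (hτ : τ ∈ Spor.M23) (h2 : τ * τ = 1) (h1 : τ ≠ 1) :
    ∃ k ∈ Spor.M23, k * τ * k⁻¹ ∈ octFix bO := by
  have hτ24 : τ ∈ M24 := (Subgroup.mem_inf.mp hτ).1
  have hτn : τ none = none := (Subgroup.mem_inf.mp hτ).2
  have ho : orderOf τ = 2 := orderOf_eq_two_of ⟨h2, h1⟩
  obtain ⟨k, hk, h | h⟩ := invol_conj τ hτ24 ho
  · -- the fixed points of `τ` form an octad containing `none`
    have hfix : (Finset.univ.filter fun p => τ p = p) ∈ octads := by
      have h3 : τ = k⁻¹ * wordPerm z1w * k⁻¹⁻¹ := by rw [← h]; group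
      rw [h3, filter_fix_conj]
      exact Cfsg.Agent.Lib.Helper10.smul_mem_octads (M24.inv_mem hk) z1_fixed_mem_octads
    have hnf : (none : GolayPt) ∈ (Finset.univ.filter fun p => τ p = p) := by
      rw [Finset.mem_filter]
      exact ⟨Finset.mem_univ _, hτn⟩
    obtain ⟨σ, hσ, hσn, hσo⟩ := Cfsg.Agent.Lib.Helper36.Idx253.octad_trans none _ bO hfix
      bO_mem_octads hnf hn
    have h3 := conj_mem_octFix hσ (mem_octFix_filter hτ24)
    rw [hσo] at h3
    exact ⟨σ, Subgroup.mem_inf.mpr ⟨hσ, hσn⟩, h3⟩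
  · exfalso
    have h3 : (k * τ * k⁻¹) (k none) = k none := by
      simp [hτn]
    rw [h] at h3
    exact z2_fixed _ h3

end Cfsg.Agent.Lib.Helper95.M24InvolN
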