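import Mathlib

set_option autoImplicit false
set_option linter.unusedSectionVars false

namespace Cfsg.Agent.Lib.Helper95

variable {ι : Type*} [Fintype ι] [DecidableEq ι]

/-- Support of a binary word. -/
def bsupp (w : ι → ZMod 2) : Finset ι := Finset.univ.filter fun i => w i ≠ 0

/-- Indicator word of a finset. -/
def bind (S : Finset ι) : ι → ZMod 2 := fun i => if i ∈ S then 1 else 0

lemma zmod2_ne_zero_iff (a : ZMod 2) : a ≠ 0 ↔ a = 1 := by
  revert a; decide

lemma mem_bsupp (w : ι → ZMod 2) (i : ι) : i ∈ bsupp w ↔ w i = 1 := by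
  simp [bsupp, zmod2_ne_zero_iff]

lemma notMem_bsupp (w : ι → ZMod 2) (i : ι) : i ∉ bsupp w ↔ w i = 0 := by
  simp [bsupp]

lemma hammingNorm_eq_card_bsupp (w : ι → ZMod 2) : hammingNorm w = (bsupp w).card := by
  unfold hammingNorm bsupp
  congr 1

lemma bsupp_bind (S : Finset ι) : bsupp (bind S) = S := by
  ext i
  simp [mem_bsupp, bind]

lemma bind_bsupp (w : ι → ZMod 2) : bind (bsupp w) = w := by
  ext i
  by_cases h : i ∈ bsupp w
  · simp only [bind, h, if_true]
    exact ((mem_bsupp w i).mp h).symm
  · simp only [bind, h, if_false]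
    exact ((notMem_bsupp w i).mp h).symm

lemma bsupp_injective : Function.Injective (bsupp : (ι → ZMod 2) → Finset ι) := by
  intro u v h
  rw [← bind_bsupp u, ← bind_bsupp v, h]

lemma bsupp_eq_empty_iff (w : ι → ZMod 2) : bsupp w = ∅ ↔ w = 0 := by
  constructor
  · intro h
    rw [← bind_bsupp w, h]
    ext i
    simp [bind]
  · rintro rfl
    ext i
    simp [bsupp]

lemma hammingNorm_bind (S : Finset ι) : hammingNorm (bind S) = S.card := by
  rw [hammingNorm_eq_card_bsupp, bsupp_bind]

lemma bsupp_add (u v : ι → ZMod 2) : bsupp (u + v) = symmDiff (bsupp u) (bsupp v) := by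
  ext i
  rw [Finset.mem_symmDiff, mem_bsupp, mem_bsupp, mem_bsupp, Pi.add_apply]
  generalize u i = a
  generalize v i = b
  revert a b
  decide

lemma sub_eq_add_zmod2 (u v : ι → ZMod 2) : u - v = u + v := by
  ext i
  simp only [Pi.sub_apply, Pi.add_apply]
  generalize u i = a
  generalize v i = b
  revert a b
  decide

lemma add_self_zmod2 (u : ι → ZMod 2) : u + u = 0 := by
  ext i
  simp only [Pi.add_apply, Pi.zero_apply]
  generalize u i = a
  revert a
  decide

/-- `wt (u+v) + 2 |supp u ∩ supp v| = wt u + wt v`. -/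
lemma hammingNorm_add_zmod2 (u v : ι → ZMod 2) :
    hammingNorm (u + v) + 2 * (bsupp u ∩ bsupp v).card = hammingNorm u + hammingNorm v := by
  rw [hammingNorm_eq_card_bsupp, hammingNorm_eq_card_bsupp, hammingNorm_eq_card_bsupp, bsupp_add]
  have h1 : (symmDiff (bsupp u) (bsupp v)).card = (bsupp u \ bsupp v).card + (bsupp v \ bsupp u).card := by
    rw [symmDiff_def, Finset.sup_eq_union, Finset.card_union_of_disjoint]
    exact disjoint_sdiff_sdiff
  have h2 := Finset.card_sdiff_add_card_inter (bsupp u) (bsupp v)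
  have h3 := Finset.card_sdiff_add_card_inter (bsupp v) (bsupp u)
  rw [Finset.inter_comm (bsupp v) (bsupp u)] at h3
  omega

/-- The dot product of two binary words is the parity of the size of the common support. -/
lemma sum_mul_eq_card_inter (u v : ι → ZMod 2) :
    ∑ i, u i * v i = ((bsupp u ∩ bsupp v).card : ZMod 2) := by
  have : ∀ i, u i * v i = if i ∈ bsupp u ∩ bsupp v then 1 else 0 := by
    intro i
    have hm : i ∈ bsupp u ∩ bsupp v ↔ (u i = 1 ∧ v i = 1) := by
      rw [Finset.mem_inter, mem_bsupp, mem_bsupp]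
    by_cases h : u i = 1 ∧ v i = 1
    · rw [if_pos (hm.mpr h), h.1, h.2, mul_one]
    · rw [if_neg (fun h' => h (hm.mp h'))]
      have : u i = 0 ∨ v i = 0 := by
        revert h
        generalize u i = a
        generalize v i = b
        revert a b
        decide
      rcases this with h0 | h0 <;> simp [h0]
  simp_rw [this]
  rw [Finset.sum_ite_mem, Finset.univ_inter, Finset.sum_const, nsmul_eq_mul, mul_one]

lemma even_card_inter_of_orth (u v : ι → ZMod 2) (h : ∑ i, u i * v i = 0) :
    Even (bsupp u ∩ bsupp v).card := by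
  rw [sum_mul_eq_card_inter] at h
  have := (ZMod.natCast_eq_zero_iff _ 2).mp h
  exact even_iff_two_dvd.mpr this

/-- The number of binary words of weight `k`. -/
lemma card_filter_hammingNorm_eq (k : ℕ) :
    (Finset.univ.filter fun w : ι → ZMod 2 => hammingNorm w = k).card
      = (Fintype.card ι).choose k := by
  rw [← Finset.card_univ, ← Finset.card_powersetCard]
  apply Finset.card_nbij' (fun w => bsupp w) (fun S => bind S)
  · intro w hw
    rw [Finset.mem_coe, Finset.mem_filter] at hw
    rw [Finset.mem_coe, Finset.mem_powersetCard]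
    refine ⟨Finset.subset_univ _, ?_⟩
    rw [← hammingNorm_eq_card_bsupp, hw.2]
  · intro S hS
    rw [Finset.mem_coe, Finset.mem_powersetCard] at hS
    rw [Finset.mem_coe, Finset.mem_filter]
    refine ⟨Finset.mem_univ _, ?_⟩
    rw [hammingNorm_bind, hS.2]
  · intro w _
    exact bind_bsupp w
  · intro S _
    exact bsupp_bind S

end Cfsg.Agent.Lib.Helper95
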