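import Mathlib
import Cfsg.Agent.Lib.Helper95.GolayCode

set_option autoImplicit false
set_option linter.unusedSectionVars false
set_option linter.unusedVariables false

/-! Generalisation of `GolayCode.lean` from `Fin 24` to an arbitrary index type with 24 elements. -/

namespace Cfsg.Agent.Lib.Helper95

section Gen

variable {ι : Type*} [Fintype ι] [DecidableEq ι] (hι : Fintype.card ι = 24)

include hι in
/-- Total weighted count over all binary words of length 24. -/
lemma g24_sum_psi_total :
    ∑ u : ι → ZMod 2, golayPsi (hammingNorm u) = 24576 := by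
  classical
  have hmaps : ∀ u ∈ (Finset.univ : Finset (ι → ZMod 2)), hammingNorm u ∈ Finset.range 25 := by
    intro u _
    rw [Finset.mem_range]
    have := hammingNorm_le_card_fintype (x := u)
    rw [hι] at this
    omega
  rw [← Finset.sum_fiberwise_of_maps_to hmaps]
  have : ∀ k ∈ Finset.range 25,
      ∑ u ∈ (Finset.univ : Finset (ι → ZMod 2)).filter (fun u => hammingNorm u = k),
        golayPsi (hammingNorm u) = golayPsi k * Nat.choose 24 k := by
    intro k _
    have h1 : ∀ u ∈ (Finset.univ : Finset (ι → ZMod 2)).filter (fun u => hammingNorm u = k),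
        golayPsi (hammingNorm u) = golayPsi k := by
      intro u hu
      rw [(Finset.mem_filter.mp hu).2]
    rw [Finset.sum_congr rfl h1, Finset.sum_const, smul_eq_mul, card_filter_hammingNorm_eq,
      hι, mul_comm]
  rw [Finset.sum_congr rfl this]
  decide

section Code

variable (C : Submodule (ZMod 2) (ι → ZMod 2))
  (hdim : Module.finrank (ZMod 2) C = 12)
  (hmin : ∀ w ∈ C, w ≠ 0 → 8 ≤ hammingNorm w)

include hι in
include hdim in
lemma g24_card_quotient : Nat.card ((ι → ZMod 2) ⧸ C) = 4096 := by
  classical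
  have h1 := Submodule.card_eq_card_quotient_mul_card C
  have h2 : Nat.card (ι → ZMod 2) = 2 ^ 24 := by
    rw [Nat.card_eq_fintype_card, Fintype.card_fun, ZMod.card, hι]
  have h3 : Nat.card C = 2 ^ 12 := by
    rw [Nat.card_eq_fintype_card, Module.card_eq_pow_finrank (K := ZMod 2), ZMod.card, hdim]
  rw [h2, h3] at h1
  have : (2 : ℕ) ^ 24 = 2 ^ 12 * 4096 := by norm_num
  rw [this] at h1
  exact (Nat.eq_of_mul_eq_mul_left (by norm_num) h1).symm

include hmin in
/-- Two distinct words of weight at most 4 in the same coset have weight exactly 4 and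
disjoint supports. -/
lemma g24_light_pair (u u' : ι → ZMod 2) (hu : hammingNorm u ≤ 4) (hu' : hammingNorm u' ≤ 4)
    (hne : u ≠ u') (hC : u - u' ∈ C) :
    hammingNorm u = 4 ∧ hammingNorm u' = 4 ∧ Disjoint (bsupp u) (bsupp u') := by
  rw [sub_eq_add_zmod2] at hC
  have hne0 : u + u' ≠ 0 := by
    intro h
    apply hne
    have : u = u + (u' + u') := by rw [add_self_zmod2, add_zero]
    rw [this, ← add_assoc, h, zero_add]
  have h8 := hmin _ hC hne0
  have hw := hammingNorm_add_zmod2 u u'
  have hcard : (bsupp u ∩ bsupp u').card = 0 := by omega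
  refine ⟨by omega, by omega, ?_⟩
  rw [Finset.disjoint_iff_inter_eq_empty]
  exact Finset.card_eq_zero.mp hcard

include hι in
/-- At most six pairwise disjoint 4-subsets of `ι`; if six, they cover. -/
lemma g24_disjoint_family (A : Finset (ι → ZMod 2))
    (h4 : ∀ u ∈ A, hammingNorm u = 4)
    (hdisj : ∀ u ∈ A, ∀ u' ∈ A, u ≠ u' → Disjoint (bsupp u) (bsupp u')) :
    A.card ≤ 6 ∧ (A.card = 6 → ∀ p : ι, ∃ u ∈ A, p ∈ bsupp u) := by
  classical
  have hcard : (A.biUnion bsupp).card = 4 * A.card := by
    rw [Finset.card_biUnion hdisj]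
    have : ∀ u ∈ A, (bsupp u).card = 4 := by
      intro u hu
      rw [← hammingNorm_eq_card_bsupp, h4 u hu]
    rw [Finset.sum_congr rfl this, Finset.sum_const, smul_eq_mul, mul_comm]
  have hle : (A.biUnion bsupp).card ≤ 24 := by
    have := Finset.card_le_univ (A.biUnion bsupp)
    rw [hι] at this
    exact this
  refine ⟨by omega, ?_⟩
  intro h6 p
  have huniv : A.biUnion bsupp = Finset.univ := by
    apply Finset.eq_univ_of_card
    rw [hcard, h6, hι]
  have : p ∈ A.biUnion bsupp := by rw [huniv]; exact Finset.mem_univ p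
  obtain ⟨u, hu, hp⟩ := Finset.mem_biUnion.mp this
  exact ⟨u, hu, hp⟩

include hι in
include hmin in
/-- The weighted count of each coset is at most six. -/
lemma g24_coset_sum_le (c : (ι → ZMod 2) ⧸ C) [DecidableEq ((ι → ZMod 2) ⧸ C)] :
    ∑ u ∈ (Finset.univ : Finset (ι → ZMod 2)).filter (fun u => C.mkQ u = c),
      golayPsi (hammingNorm u) ≤ 6 := by
  classical
  set A := (Finset.univ : Finset (ι → ZMod 2)).filter (fun u => C.mkQ u = c) with hA
  have hsame : ∀ u ∈ A, ∀ u' ∈ A, u - u' ∈ C := by
    intro u hu u' hu'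
    rw [hA, Finset.mem_filter] at hu hu'
    have : C.mkQ u = C.mkQ u' := by rw [hu.2, hu'.2]
    rw [Submodule.mkQ_apply, Submodule.mkQ_apply] at this
    exact (Submodule.Quotient.eq C).mp this
  -- restrict to light words
  set A4 := A.filter (fun u => hammingNorm u ≤ 4) with hA4
  have hsum : ∑ u ∈ A, golayPsi (hammingNorm u) = ∑ u ∈ A4, golayPsi (hammingNorm u) := by
    symm
    apply Finset.sum_filter_of_ne
    intro u _ hne
    by_contra h
    exact hne (golayPsi_of_gt (by omega))
  rw [hsum]
  by_cases hex : ∃ u₀ ∈ A4, hammingNorm u₀ ≤ 3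
  · obtain ⟨u₀, hu₀, hw₀⟩ := hex
    have hsing : A4 = {u₀} := by
      ext u
      rw [Finset.mem_singleton]
      constructor
      · intro hu
        by_contra hne
        have h0 := Finset.mem_filter.mp hu₀
        have h1 := Finset.mem_filter.mp hu
        have := g24_light_pair C hmin u₀ u h0.2 h1.2 (fun h => hne h.symm)
          (hsame u₀ h0.1 u h1.1)
        omega
      · rintro rfl
        exact hu₀
    rw [hsing, Finset.sum_singleton, golayPsi_of_le_three hw₀]
  · push Not at hex
    have h4 : ∀ u ∈ A4, hammingNorm u = 4 := by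
      intro u hu
      have := hex u hu
      have := (Finset.mem_filter.mp hu).2
      omega
    have hdisj : ∀ u ∈ A4, ∀ u' ∈ A4, u ≠ u' → Disjoint (bsupp u) (bsupp u') := by
      intro u hu u' hu' hne
      have h0 := Finset.mem_filter.mp hu
      have h1 := Finset.mem_filter.mp hu'
      exact (g24_light_pair C hmin u u' h0.2 h1.2 hne (hsame u h0.1 u' h1.1)).2.2
    have hle := (g24_disjoint_family hι A4 h4 hdisj).1
    have : ∀ u ∈ A4, golayPsi (hammingNorm u) = 1 := by
      intro u hu
      rw [h4 u hu, golayPsi_four]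
    rw [Finset.sum_congr rfl this, Finset.sum_const, smul_eq_mul, mul_one]
    exact hle

include hι in
include hdim hmin in
/-- The weighted count of each coset is exactly six. -/
lemma g24_coset_sum_eq (c : (ι → ZMod 2) ⧸ C) [DecidableEq ((ι → ZMod 2) ⧸ C)] :
    ∑ u ∈ (Finset.univ : Finset (ι → ZMod 2)).filter (fun u => C.mkQ u = c),
      golayPsi (hammingNorm u) = 6 := by
  classical
  let _ : Fintype ((ι → ZMod 2) ⧸ C) := Fintype.ofFinite _
  have hle : ∀ c ∈ (Finset.univ : Finset ((ι → ZMod 2) ⧸ C)),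
      ∑ u ∈ (Finset.univ : Finset (ι → ZMod 2)).filter (fun u => C.mkQ u = c),
        golayPsi (hammingNorm u) ≤ 6 := fun c _ => g24_coset_sum_le hι C hmin c
  have htot : ∑ c : (ι → ZMod 2) ⧸ C,
      ∑ u ∈ (Finset.univ : Finset (ι → ZMod 2)).filter (fun u => C.mkQ u = c),
        golayPsi (hammingNorm u) = ∑ c : (ι → ZMod 2) ⧸ C, 6 := by
    rw [Finset.sum_fiberwise, g24_sum_psi_total hι, Finset.sum_const, Finset.card_univ,
      ← Nat.card_eq_fintype_card, g24_card_quotient hι C hdim]
    rfl
  exact (Finset.sum_eq_sum_iff_of_le hle).mp htot c (Finset.mem_univ c)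

include hι in
include hdim hmin in
/-- The dichotomy for the light words of a coset. -/
lemma g24_coset_dichotomy (w : ι → ZMod 2) :
    (∃ u : ι → ZMod 2, (∀ x : ι → ZMod 2, (x - w ∈ C ∧ hammingNorm x ≤ 4) ↔ x = u) ∧
        hammingNorm u ≤ 3) ∨
    (∃ A : Finset (ι → ZMod 2), (∀ x : ι → ZMod 2, (x - w ∈ C ∧ hammingNorm x ≤ 4) ↔ x ∈ A) ∧
        A.card = 6 ∧ (∀ u ∈ A, hammingNorm u = 4) ∧
        (∀ u ∈ A, ∀ u' ∈ A, u ≠ u' → Disjoint (bsupp u) (bsupp u')) ∧
        ∀ p : ι, ∃ u ∈ A, p ∈ bsupp u) := by
  classical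
  have hsix := g24_coset_sum_eq hι C hdim hmin (C.mkQ w)
  set A := (Finset.univ : Finset (ι → ZMod 2)).filter (fun u => C.mkQ u = C.mkQ w) with hA
  have hmemA : ∀ x, x ∈ A ↔ x - w ∈ C := by
    intro x
    rw [hA, Finset.mem_filter, Submodule.mkQ_apply, Submodule.mkQ_apply, Submodule.Quotient.eq]
    simp
  have hsame : ∀ u ∈ A, ∀ u' ∈ A, u - u' ∈ C := by
    intro u hu u' hu'
    have h1 := (hmemA u).mp hu
    have h2 := (hmemA u').mp hu'
    have : u - u' = (u - w) - (u' - w) := by abel
    rw [this]
    exact C.sub_mem h1 h2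
  set A4 := A.filter (fun u => hammingNorm u ≤ 4) with hA4
  have hmemA4 : ∀ x, (x - w ∈ C ∧ hammingNorm x ≤ 4) ↔ x ∈ A4 := by
    intro x
    rw [hA4, Finset.mem_filter, hmemA]
  have hsum : ∑ u ∈ A, golayPsi (hammingNorm u) = ∑ u ∈ A4, golayPsi (hammingNorm u) := by
    symm
    apply Finset.sum_filter_of_ne
    intro u _ hne
    by_contra h
    exact hne (golayPsi_of_gt (by omega))
  rw [hsum] at hsix
  by_cases hex : ∃ u₀ ∈ A4, hammingNorm u₀ ≤ 3
  · left
    obtain ⟨u₀, hu₀, hw₀⟩ := hex
    refine ⟨u₀, ?_, hw₀⟩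
    intro x
    rw [hmemA4]
    constructor
    · intro hu
      by_contra hne
      have h0 := Finset.mem_filter.mp hu₀
      have h1 := Finset.mem_filter.mp hu
      have := g24_light_pair C hmin u₀ x h0.2 h1.2 (fun h => hne h.symm)
        (hsame u₀ h0.1 x h1.1)
      omega
    · rintro rfl
      exact hu₀
  · right
    push Not at hex
    have h4 : ∀ u ∈ A4, hammingNorm u = 4 := by
      intro u hu
      have := hex u hu
      have := (Finset.mem_filter.mp hu).2
      omega
    have hdisj : ∀ u ∈ A4, ∀ u' ∈ A4, u ≠ u' → Disjoint (bsupp u) (bsupp u') := by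
      intro u hu u' hu' hne
      have h0 := Finset.mem_filter.mp hu
      have h1 := Finset.mem_filter.mp hu'
      exact (g24_light_pair C hmin u u' h0.2 h1.2 hne (hsame u h0.1 u' h1.1)).2.2
    have hfam := g24_disjoint_family hι A4 h4 hdisj
    have : ∀ u ∈ A4, golayPsi (hammingNorm u) = 1 := by
      intro u hu
      rw [h4 u hu, golayPsi_four]
    rw [Finset.sum_congr rfl this, Finset.sum_const, smul_eq_mul, mul_one] at hsix
    exact ⟨A4, hmemA4, hsix, h4, hdisj, hfam.2 hsix⟩

include hι in
include hdim hmin in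
/-- Every 5-set lies in the support of a codeword of weight 8. -/
lemma g24_octad_exists (s : Finset (ι)) (hs : s.card = 5) :
    ∃ c ∈ C, hammingNorm c = 8 ∧ s ⊆ bsupp c := by
  classical
  obtain ⟨p, hp⟩ : s.Nonempty := by
    rw [← Finset.card_pos, hs]; norm_num
  set s' := s.erase p with hs'
  have hs'card : s'.card = 4 := by rw [hs', Finset.card_erase_of_mem hp, hs]
  set u := bind s' with hu
  have huw : hammingNorm u = 4 := by rw [hu, hammingNorm_bind, hs'card]
  rcases g24_coset_dichotomy hι C hdim hmin u with ⟨u₀, hu₀, hw₀⟩ | ⟨A, hA, hA6, hA4, hAdisj, hAcov⟩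
  · exfalso
    have : u = u₀ := (hu₀ u).mp ⟨by rw [sub_self]; exact C.zero_mem, by omega⟩
    rw [← this] at hw₀
    omega
  · have huA : u ∈ A := (hA u).mp ⟨by rw [sub_self]; exact C.zero_mem, by omega⟩
    obtain ⟨u'', hu''A, hpu''⟩ := hAcov p
    have hne : u ≠ u'' := by
      rintro rfl
      rw [hu, bsupp_bind, hs'] at hpu''
      exact (Finset.notMem_erase p s) hpu''
    have hd := hAdisj u huA u'' hu''A hne
    have hmem : u + u'' ∈ C := by
      have h1 := ((hA u'').mpr hu''A).1
      have : u + u'' = u'' - u := by rw [sub_eq_add_zmod2, add_comm]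
      rw [this]
      exact h1
    refine ⟨u + u'', hmem, ?_, ?_⟩
    · have hw := hammingNorm_add_zmod2 u u''
      rw [Finset.disjoint_iff_inter_eq_empty.mp hd, Finset.card_empty, huw, hA4 u'' hu''A] at hw
      omega
    · intro x hx
      rw [bsupp_add, Finset.mem_symmDiff]
      by_cases hxp : x = p
      · right
        subst hxp
        refine ⟨hpu'', ?_⟩
        rw [hu, bsupp_bind, hs']
        exact Finset.notMem_erase x s
      · left
        have hxu : x ∈ bsupp u := by
          rw [hu, bsupp_bind, hs']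
          exact Finset.mem_erase.mpr ⟨hxp, hx⟩
        exact ⟨hxu, fun h => (Finset.disjoint_left.mp hd hxu) h⟩

include hmin in
/-- Two codewords of weight 8 whose supports share five points are equal. -/
lemma g24_octad_unique (c c' : ι → ZMod 2) (hc : c ∈ C) (hc' : c' ∈ C)
    (hw : hammingNorm c = 8) (hw' : hammingNorm c' = 8) (s : Finset (ι)) (hs : s.card = 5)
    (hsc : s ⊆ bsupp c) (hsc' : s ⊆ bsupp c') : c = c' := by
  by_contra hne
  have hne0 : c + c' ≠ 0 := by
    intro h
    apply hne
    have : c = c + (c' + c') := by rw [add_self_zmod2, add_zero]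
    rw [this, ← add_assoc, h, zero_add]
  have h8 := hmin _ (C.add_mem hc hc') hne0
  have hadd := hammingNorm_add_zmod2 c c'
  have : s.card ≤ (bsupp c ∩ bsupp c').card :=
    Finset.card_le_card (Finset.subset_inter hsc hsc')
  omega

include hι in
include hdim hmin in
/-- Every nonzero codeword `c` admits a weight-8 codeword `o` with `wt (c + o) < wt c`
and `|supp c ∩ supp o| ≥ 5`. -/
lemma g24_reduce (c : ι → ZMod 2) (hc : c ∈ C) (hc0 : c ≠ 0) :
    ∃ o ∈ C, hammingNorm o = 8 ∧ hammingNorm (c + o) < hammingNorm c ∧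
      hammingNorm (c + o) + 2 * (bsupp c ∩ bsupp o).card = hammingNorm c + 8 := by
  have h8 := hmin c hc hc0
  rw [hammingNorm_eq_card_bsupp] at h8
  obtain ⟨s, hsc, hs⟩ := Finset.exists_subset_card_eq (s := bsupp c) (n := 5) (by omega)
  obtain ⟨o, ho, hwo, hso⟩ := g24_octad_exists hι C hdim hmin s hs
  have hadd := hammingNorm_add_zmod2 c o
  have : s.card ≤ (bsupp c ∩ bsupp o).card :=
    Finset.card_le_card (Finset.subset_inter hsc hso)
  refine ⟨o, ho, hwo, by omega, by omega⟩

include hι in
include hdim hmin in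
/-- The code is spanned by its words of weight 8. -/
lemma g24_span_octads :
    Submodule.span (ZMod 2) {w : ι → ZMod 2 | w ∈ C ∧ hammingNorm w = 8} = C := by
  apply le_antisymm
  · rw [Submodule.span_le]
    intro w hw
    exact hw.1
  · have key : ∀ n : ℕ, ∀ c ∈ C, hammingNorm c = n →
        c ∈ Submodule.span (ZMod 2) {w : ι → ZMod 2 | w ∈ C ∧ hammingNorm w = 8} := by
      intro n
      induction n using Nat.strong_induction_on with
      | _ n ih =>
        intro c hc hn
        by_cases hc0 : c = 0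
        · rw [hc0]; exact Submodule.zero_mem _
        · obtain ⟨o, ho, hwo, hlt, -⟩ := g24_reduce hι C hdim hmin c hc hc0
          have h1 := ih (hammingNorm (c + o)) (by omega) (c + o) (C.add_mem hc ho) rfl
          have h2 : o ∈ Submodule.span (ZMod 2)
              {w : ι → ZMod 2 | w ∈ C ∧ hammingNorm w = 8} :=
            Submodule.subset_span ⟨ho, hwo⟩
          have : c = (c + o) + o := by rw [add_assoc, add_self_zmod2, add_zero]
          rw [this]
          exact Submodule.add_mem _ h1 h2
    intro c hc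
    exact key _ c hc rfl

include hι in
include hdim hmin in
/-- The code is doubly even. -/
lemma g24_doubly_even (horth : ∀ v ∈ C, ∀ w ∈ C, ∑ i, v i * w i = 0) :
    ∀ c ∈ C, 4 ∣ hammingNorm c := by
  have key : ∀ n : ℕ, ∀ c ∈ C, hammingNorm c = n → 4 ∣ n := by
    intro n
    induction n using Nat.strong_induction_on with
    | _ n ih =>
      intro c hc hn
      by_cases hc0 : c = 0
      · rw [← hn, hc0, hammingNorm_zero]; exact dvd_zero 4
      · obtain ⟨o, ho, hwo, hlt, heq⟩ := g24_reduce hι C hdim hmin c hc hc0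
        have h1 := ih (hammingNorm (c + o)) (by omega) (c + o) (C.add_mem hc ho) rfl
        have h2 := even_card_inter_of_orth c o (horth c hc o ho)
        obtain ⟨k, hk⟩ := h2
        obtain ⟨j, hj⟩ := h1
        omega
  intro c hc
  exact key _ c hc rfl

end Code



end Gen

end Cfsg.Agent.Lib.Helper95
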