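import Mathlib
import Cfsg.Prelude.Def_Sporadic_a
import Cfsg.Agent.Lib.Helper95.GolayCodeGen

set_option autoImplicit false
set_option linter.unusedSectionVars false
set_option linter.unusedVariables false

/-! Consequences of `GolayCodeGen.lean` phrased with the Prelude's definitions
(`Cfsg.IsSteinerSystem`, `Cfsg.wordsOfWeight`, `Cfsg.support₂`), for any 12-dimensional binary code
of length 24 (index type `ι` with 24 elements) with no non-zero word of weight below 8. -/

namespace Cfsg.Agent.Lib.Helper95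

variable {ι : Type*} [Fintype ι] [DecidableEq ι]

lemma support₂_eq_bsupp (w : ι → ZMod 2) : Cfsg.support₂ w = bsupp w := by
  unfold Cfsg.support₂ bsupp
  congr

/-- The weight-8 words of a 12-dimensional length-24 binary code of minimum weight at least 8
form a Steiner system S(5, 8, 24). -/
theorem g24_isSteinerSystem (hι : Fintype.card ι = 24) (C : Submodule (ZMod 2) (ι → ZMod 2))
    (hdim : Module.finrank (ZMod 2) C = 12)
    (hmin : ∀ w ∈ C, w ≠ 0 → 8 ≤ hammingNorm w) :
    Cfsg.IsSteinerSystem 5 8 (Cfsg.wordsOfWeight (C : Set (ι → ZMod 2)) 8) := by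
  classical
  refine ⟨?_, ?_⟩
  · intro b hb
    exact hb.2
  · intro s hs
    obtain ⟨c, hc, hw, hsc⟩ := g24_octad_exists hι C hdim hmin s hs
    refine ⟨bsupp c, ⟨⟨⟨c, hc, support₂_eq_bsupp c⟩, ?_⟩, hsc⟩, ?_⟩
    · rw [← hammingNorm_eq_card_bsupp, hw]
    · rintro b ⟨⟨⟨c', hc', rfl⟩, hb8⟩, hsb⟩
      rw [support₂_eq_bsupp] at hb8 hsb ⊢
      have hw' : hammingNorm c' = 8 := by rw [hammingNorm_eq_card_bsupp, hb8]
      rw [g24_octad_unique C hmin c' c hc' hc hw' hw s hs hsb hsc]

/-- Such a code has a word of weight 8. -/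
theorem g24_exists_weight_eight (hι : Fintype.card ι = 24) (C : Submodule (ZMod 2) (ι → ZMod 2))
    (hdim : Module.finrank (ZMod 2) C = 12)
    (hmin : ∀ w ∈ C, w ≠ 0 → 8 ≤ hammingNorm w) : ∃ w ∈ C, hammingNorm w = 8 := by
  classical
  obtain ⟨s, -, hs⟩ := Finset.exists_subset_card_eq (s := (Finset.univ : Finset ι)) (n := 5)
    (by rw [Finset.card_univ, hι]; norm_num)
  obtain ⟨c, hc, hw, -⟩ := g24_octad_exists hι C hdim hmin s hs
  exact ⟨c, hc, hw⟩

/-- If moreover the code is self-orthogonal and contains the all-ones word, every weight is one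
of 0, 8, 12, 16, 24. -/
theorem g24_weights (hι : Fintype.card ι = 24) (C : Submodule (ZMod 2) (ι → ZMod 2))
    (hdim : Module.finrank (ZMod 2) C = 12)
    (hmin : ∀ w ∈ C, w ≠ 0 → 8 ≤ hammingNorm w)
    (horth : ∀ v ∈ C, ∀ w ∈ C, ∑ i, v i * w i = 0)
    (hone : (1 : ι → ZMod 2) ∈ C) (w : ι → ZMod 2) (hw : w ∈ C) :
    hammingNorm w = 0 ∨ hammingNorm w = 8 ∨ hammingNorm w = 12 ∨ hammingNorm w = 16 ∨
      hammingNorm w = 24 := by
  classical
  have h4 := g24_doubly_even hι C hdim hmin horth w hw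
  have hle : hammingNorm w ≤ 24 := by
    have := hammingNorm_le_card_fintype (x := w)
    rw [hι] at this
    exact this
  -- complement
  have hcompl : hammingNorm (1 + w) + hammingNorm w = 24 := by
    have h := hammingNorm_add_zmod2 (1 : ι → ZMod 2) w
    have h1 : bsupp (1 : ι → ZMod 2) = Finset.univ := by
      ext i; simp [mem_bsupp]
    rw [h1, Finset.univ_inter, ← hammingNorm_eq_card_bsupp] at h
    have h2 : hammingNorm (1 : ι → ZMod 2) = 24 := by
      rw [hammingNorm_eq_card_bsupp, h1, Finset.card_univ, hι]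
    omega
  have h4' := g24_doubly_even hι C hdim hmin horth (1 + w) (C.add_mem hone hw)
  have hmin1 : w ≠ 0 → 8 ≤ hammingNorm w := hmin w hw
  have hmin2 : 1 + w ≠ 0 → 8 ≤ hammingNorm (1 + w) := hmin _ (C.add_mem hone hw)
  by_cases hw0 : w = 0
  · left; rw [hw0, hammingNorm_zero]
  · by_cases hw1 : 1 + w = 0
    · right; right; right; right
      rw [hw1, hammingNorm_zero] at hcompl
      omega
    · have := hmin1 hw0
      have := hmin2 hw1
      obtain ⟨k, hk⟩ := h4
      omega

end Cfsg.Agent.Lib.Helper95
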