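import Mathlib
import Cfsg.Agent.S0350
import Cfsg.Agent.Lib.Helper95.GolayCodeCfsg

set_option autoImplicit false
set_option linter.unusedSectionVars false
set_option linter.unusedVariables false

/-! Word counts (weight enumerator) of a 12-dimensional self-orthogonal binary code of length 24
with minimum weight at least 8 that contains the all-ones word: 759 words of weight 8,
2576 of weight 12, 759 of weight 16. -/

namespace Cfsg.Agent.Lib.Helper95

variable {ι : Type*} [Fintype ι] [DecidableEq ι]

/-- The set of supports of weight-`k` words has as many elements as there are such words. -/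
lemma ncard_wordsOfWeight (C : Submodule (ZMod 2) (ι → ZMod 2)) (k : ℕ) :
    (Cfsg.wordsOfWeight (C : Set (ι → ZMod 2)) k).ncard
      = {w : ι → ZMod 2 | w ∈ C ∧ hammingNorm w = k}.ncard := by
  classical
  have : Cfsg.wordsOfWeight (C : Set (ι → ZMod 2)) k
      = bsupp '' {w : ι → ZMod 2 | w ∈ C ∧ hammingNorm w = k} := by
    ext b
    simp only [Cfsg.wordsOfWeight, Cfsg.supports, Set.mem_ofPred_eq, Set.mem_image, SetLike.mem_coe]
    constructor
    · rintro ⟨⟨w, hw, rfl⟩, hk⟩
      refine ⟨w, ⟨hw, ?_⟩, (support₂_eq_bsupp w).symm⟩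
      rw [hammingNorm_eq_card_bsupp, ← support₂_eq_bsupp, hk]
    · rintro ⟨w, ⟨hw, hk⟩, rfl⟩
      refine ⟨⟨w, hw, support₂_eq_bsupp w⟩, ?_⟩
      rw [← hammingNorm_eq_card_bsupp, hk]
  rw [this, Set.ncard_image_of_injective _ bsupp_injective]

theorem g24_octads_ncard (hι : Fintype.card ι = 24) (C : Submodule (ZMod 2) (ι → ZMod 2))
    (hdim : Module.finrank (ZMod 2) C = 12)
    (hmin : ∀ w ∈ C, w ≠ 0 → 8 ≤ hammingNorm w) :
    (Cfsg.wordsOfWeight (C : Set (ι → ZMod 2)) 8).ncard = 759 := by
  have h := Cfsg.Agent.S0350.result (g24_isSteinerSystem hι C hdim hmin)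
  rw [hι] at h
  have h1 : Nat.choose 8 5 = 56 := by decide
  have h2 : Nat.choose 24 5 = 42504 := by decide
  rw [h1, h2] at h
  omega

theorem g24_dodecads_ncard (hι : Fintype.card ι = 24) (C : Submodule (ZMod 2) (ι → ZMod 2))
    (hdim : Module.finrank (ZMod 2) C = 12)
    (hmin : ∀ w ∈ C, w ≠ 0 → 8 ≤ hammingNorm w)
    (horth : ∀ v ∈ C, ∀ w ∈ C, ∑ i, v i * w i = 0)
    (hone : (1 : ι → ZMod 2) ∈ C) :
    (Cfsg.wordsOfWeight (C : Set (ι → ZMod 2)) 12).ncard = 2576 ∧
    (Cfsg.wordsOfWeight (C : Set (ι → ZMod 2)) 16).ncard = 759 := by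
  classical
  set A : ℕ → Finset (ι → ZMod 2) := fun k =>
    (Finset.univ : Finset (ι → ZMod 2)).filter (fun w => w ∈ C ∧ hammingNorm w = k) with hA
  have hAk : ∀ k, {w : ι → ZMod 2 | w ∈ C ∧ hammingNorm w = k}.ncard = (A k).card := by
    intro k
    have : {w : ι → ZMod 2 | w ∈ C ∧ hammingNorm w = k} = ↑(A k) := by
      ext w; simp [hA]
    rw [this, Set.ncard_coe_finset]
  have h8 : (A 8).card = 759 := by
    rw [← hAk, ← ncard_wordsOfWeight]; exact g24_octads_ncard hι C hdim hmin
  -- complement bijection between weight 8 and weight 16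
  have hcompl : ∀ w : ι → ZMod 2, hammingNorm (1 + w) + hammingNorm w = 24 := by
    intro w
    have h := hammingNorm_add_zmod2 (1 : ι → ZMod 2) w
    have h1 : bsupp (1 : ι → ZMod 2) = Finset.univ := by
      ext i; simp [mem_bsupp]
    rw [h1, Finset.univ_inter, ← hammingNorm_eq_card_bsupp] at h
    have h2 : hammingNorm (1 : ι → ZMod 2) = 24 := by
      rw [hammingNorm_eq_card_bsupp, h1, Finset.card_univ, hι]
    omega
  have hinv : ∀ w : ι → ZMod 2, 1 + (1 + w) = w := by
    intro w
    rw [← add_assoc, add_self_zmod2, zero_add]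
  have h16 : (A 16).card = (A 8).card := by
    apply Finset.card_nbij' (fun w => 1 + w) (fun w => 1 + w)
    · intro w hw
      simp only [hA, Finset.coe_filter, Finset.mem_univ, true_and, Set.mem_ofPred_eq] at hw ⊢
      refine ⟨C.add_mem hone hw.1, ?_⟩
      have := hcompl w
      omega
    · intro w hw
      simp only [hA, Finset.coe_filter, Finset.mem_univ, true_and, Set.mem_ofPred_eq] at hw ⊢
      refine ⟨C.add_mem hone hw.1, ?_⟩
      have := hcompl w
      omega
    · intro w _; exact hinv w
    · intro w _; exact hinv w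
  have h0 : (A 0).card = 1 := by
    rw [Finset.card_eq_one]
    refine ⟨0, ?_⟩
    ext w
    simp only [hA, Finset.mem_filter, Finset.mem_univ, true_and, Finset.mem_singleton,
      hammingNorm_eq_zero]
    constructor
    · rintro ⟨_, h⟩; exact h
    · rintro rfl; exact ⟨C.zero_mem, rfl⟩
  have h24 : (A 24).card = 1 := by
    rw [Finset.card_eq_one]
    refine ⟨1, ?_⟩
    ext w
    simp only [hA, Finset.mem_filter, Finset.mem_univ, true_and, Finset.mem_singleton]
    constructor
    · rintro ⟨_, h⟩
      have := hcompl w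
      have h0 : hammingNorm (1 + w) = 0 := by omega
      rw [hammingNorm_eq_zero] at h0
      have := hinv w
      rw [h0, add_zero] at this
      exact this.symm
    · rintro rfl
      refine ⟨hone, ?_⟩
      have := hcompl 0
      rw [hammingNorm_zero, add_zero] at this
      exact this
  -- total
  set Cf : Finset (ι → ZMod 2) := (Finset.univ : Finset (ι → ZMod 2)).filter (fun w => w ∈ C) with hCf
  have hCcard : Cf.card = 4096 := by
    have h3 : Nat.card C = 2 ^ 12 := by
      rw [Nat.card_eq_fintype_card, Module.card_eq_pow_finrank (K := ZMod 2), ZMod.card, hdim]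
    have h4 : Nat.card C = Cf.card := by
      rw [Nat.card_eq_fintype_card, ← Fintype.card_coe]
      apply Fintype.card_congr
      exact Equiv.subtypeEquivRight (fun w => by simp [hCf])
    rw [← h4, h3]; norm_num
  have hmaps : ∀ w ∈ Cf, hammingNorm w ∈ ({0, 8, 12, 16, 24} : Finset ℕ) := by
    intro w hw
    have hwC : w ∈ C := by simpa [hCf] using hw
    have := g24_weights hι C hdim hmin horth hone w hwC
    simp only [Finset.mem_insert, Finset.mem_singleton]
    exact this
  have hsum := Finset.card_eq_sum_card_fiberwise hmaps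
  have hfib : ∀ k, (Cf.filter (fun w => hammingNorm w = k)) = A k := by
    intro k
    ext w
    simp [hCf, hA]
  simp only [hfib] at hsum
  rw [hCcard] at hsum
  have hsum' : 4096 = (A 0).card + (A 8).card + (A 12).card + (A 16).card + (A 24).card := by
    rw [hsum]
    simp [Finset.sum_insert, add_assoc]
  rw [ncard_wordsOfWeight, ncard_wordsOfWeight, hAk, hAk]
  refine ⟨?_, ?_⟩
  · omega
  · omega

end Cfsg.Agent.Lib.Helper95
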