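import Mathlib
import Cfsg.Agent.S0362
import Cfsg.Agent.Lib.Helper10.Octad
import Cfsg.Agent.Lib.Helper95.GolayCodeCount

set_option autoImplicit false
set_option linter.unusedSectionVars false
set_option linter.unusedVariables false

/-! The concrete length-24 code `Cfsg.golayCode` satisfies the hypotheses of the abstract
development (`GolayCodeGen`, `GolayCodeCfsg`, `GolayCodeCount`): 24 points, dimension 12,
minimum weight 8, self-orthogonal, contains the all-ones word. Built on helper10's bitmask model. -/

namespace Cfsg.Agent.Lib.Helper95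

open Cfsg.Agent.Lib.Helper10

theorem golayPt_card : Fintype.card Cfsg.GolayPt = 24 := by
  simp [Cfsg.GolayPt, Fintype.card_option, ZMod.card]

theorem enc_low_bits : ∀ k < 4096, enc k % 4096 = k := by
  have h : (List.range 4096).all (fun k => decide (enc k % 4096 = k)) = true := by decide +kernel
  intro k hk
  have := forall_lt_of_all 4096 _ h k hk
  simpa using this

theorem golayCode_card : Nat.card Cfsg.golayCode = 4096 := by
  have hmem : ∀ k : Fin 4096, vec (enc k) ∈ Cfsg.golayCode := by
    intro k
    rw [vec_mem_golayCode_iff (enc_lt _)]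
    have := enc_low_bits k k.2
    calc enc (enc k) = enc (enc k % 4096) := (enc_mod _).symm
      _ = enc k := by rw [this]
  let f : Fin 4096 → Cfsg.golayCode := fun k => ⟨vec (enc k), hmem k⟩
  have hinj : Function.Injective f := by
    intro a b hab
    have h1 : vec (enc a) = vec (enc b) := congrArg Subtype.val hab
    have h2 : enc a = enc b := vec_injOn (enc_lt _) (enc_lt _) h1
    have ha := enc_low_bits a a.2
    have hb := enc_low_bits b b.2
    apply Fin.ext
    rw [← ha, ← hb, h2]
  have hsurj : Function.Surjective f := by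
    rintro ⟨w, hw⟩
    obtain ⟨k, hk, e⟩ := exists_enc_of_mem hw
    refine ⟨⟨k, hk⟩, ?_⟩
    apply Subtype.ext
    show vec (enc k) = w
    rw [← e, vec_wmask]
  rw [← Nat.card_congr (Equiv.ofBijective f ⟨hinj, hsurj⟩)]
  simp

theorem golayCode_finrank : Module.finrank (ZMod 2) Cfsg.golayCode = 12 := by
  classical
  let _ : Fintype Cfsg.golayCode := Fintype.ofFinite _
  have h := golayCode_card
  rw [Nat.card_eq_fintype_card, Module.card_eq_pow_finrank (K := ZMod 2), ZMod.card] at h
  have : (2 : ℕ) ^ Module.finrank (ZMod 2) Cfsg.golayCode = 2 ^ 12 := by rw [h]; norm_num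
  exact Nat.pow_right_injective (le_refl 2) this

theorem golayCode_hmin : ∀ w ∈ Cfsg.golayCode, w ≠ 0 → 8 ≤ hammingNorm w := by
  intro w hw hw0
  by_contra hlt
  push Not at hlt
  apply hw0
  apply eq_zero_of_card_lt w hw
  rw [support₂_eq_bsupp, ← hammingNorm_eq_card_bsupp]
  exact hlt

theorem golayCode_horth : ∀ v ∈ Cfsg.golayCode, ∀ w ∈ Cfsg.golayCode, ∑ i, v i * w i = 0 :=
  fun v hv w hw => Cfsg.Agent.S0362.result v w hv hw

theorem golayCode_one_mem : (1 : Cfsg.GolayPt → ZMod 2) ∈ Cfsg.golayCode := by
  unfold Cfsg.golayCode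
  apply Submodule.subset_span
  right
  rfl

end Cfsg.Agent.Lib.Helper95
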