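import Cfsg.Agent.Lib.Helper95.St24Canon
import Cfsg.Agent.S0356
import Mathlib

set_option autoImplicit false

/-! # Steiner systems S(3,6,22) on `Fin 1 ⊕ Fin 21`: canonical form and uniqueness

Every Steiner system S(3,6,22) can be moved, by a permutation of the 21 right points, to the
system consisting of the 21 blocks `left point + line of the model plane` and the 56 hyperovals of
class 0. -/

namespace Cfsg.Agent.Lib.Helper95.St22

open Cfsg Finset
open Cfsg.Agent.Lib.Helper09 Cfsg.Agent.Lib.Helper35 Cfsg.Agent.Lib.Helper95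
open Cfsg.Agent.Lib.Helper95.Pg24 Cfsg.Agent.Lib.Helper95.St24

/-- the standard point set. -/
abbrev Y : Type := Fin 1 ⊕ Fin 21

theorem card_Y : Fintype.card Y = 22 := by
  simp [Y]

/-- the left point, as a set. -/
def U1 : Finset (Fin 1) := Finset.univ

theorem card_U1 : U1.card = 1 := by decide

theorem left_cases1 : ∀ s : Finset (Fin 1), s = ∅ ∨ s = U1 := by decide

theorem U1_ne_empty : U1 ≠ ∅ := by decide

/-! ### The permutations fixing the left point -/

/-- a permutation of the right points, acting on all points. -/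
def sc1 (e : Equiv.Perm (Fin 21)) : Y ≃ Y := Equiv.sumCongr (Equiv.refl (Fin 1)) e

theorem sc1_symm (e : Equiv.Perm (Fin 21)) : (sc1 e).symm = sc1 e.symm := rfl

theorem sc1_trans (e f : Equiv.Perm (Fin 21)) : (sc1 e).trans (sc1 f) = sc1 (e.trans f) := by
  apply Equiv.ext
  rintro (a | b) <;> rfl

theorem image_sc1 (e : Equiv.Perm (Fin 21)) (A : Finset (Fin 1)) (H : Finset (Fin 21)) :
    (A.disjSum H).image (sc1 e) = A.disjSum (H.image e) := by
  ext x
  rcases x with a | b
  · simp only [Finset.mem_image, Finset.inl_mem_disjSum]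
    constructor
    · rintro ⟨y, hy, hxy⟩
      rcases y with a' | b'
      · have : a' = a := Sum.inl.inj hxy
        rw [← this]
        exact Finset.inl_mem_disjSum.mp hy
      · exact absurd hxy (by simp [sc1])
    · intro ha
      exact ⟨Sum.inl a, Finset.inl_mem_disjSum.mpr ha, rfl⟩
  · simp only [Finset.mem_image, Finset.inr_mem_disjSum]
    constructor
    · rintro ⟨y, hy, hxy⟩
      rcases y with a' | b'
      · exact absurd hxy (by simp [sc1])
      · have : e b' = b := Sum.inr.inj hxy
        exact ⟨b', Finset.inr_mem_disjSum.mp hy, this⟩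
    · rintro ⟨b', hb', rfl⟩
      exact ⟨Sum.inr b', Finset.inr_mem_disjSum.mpr hb', rfl⟩

theorem disj_mem_imgSys1 {e : Equiv.Perm (Fin 21)} {B : Set (Finset Y)} {A : Finset (Fin 1)}
    {H : Finset (Fin 21)} : A.disjSum H ∈ imgSys (sc1 e) B ↔ A.disjSum (H.image e.symm) ∈ B := by
  rw [mem_imgSys, sc1_symm, image_sc1]

/-! ### Blocks -/

section blocks

variable {B : Set (Finset Y)}

theorem card_lr1 (hB : IsSteinerSystem 3 6 B) {b : Finset Y} (hb : b ∈ B) :
    b.toLeft.card + b.toRight.card = 6 := by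
  rw [Finset.card_toLeft_add_card_toRight]
  exact hB.1 b hb

theorem block_eq_of_parts1 (hB : IsSteinerSystem 3 6 B) {b c : Finset Y} (hb : b ∈ B)
    (hc : c ∈ B) {A : Finset (Fin 1)} {S : Finset (Fin 21)} (h3 : 3 ≤ A.card + S.card)
    (hAb : A ⊆ b.toLeft) (hAc : A ⊆ c.toLeft) (hSb : S ⊆ b.toRight) (hSc : S ⊆ c.toRight) :
    b = c := by
  by_contra hne
  have h1 := card_inter_lt hB hb hc hne
  have h2 : A.disjSum S ⊆ b ∩ c := by
    rw [Finset.subset_inter_iff, Finset.disjSum_subset, Finset.disjSum_subset]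
    exact ⟨⟨hAb, hSb⟩, ⟨hAc, hSc⟩⟩
  have h3' := Finset.card_le_card h2
  rw [Finset.card_disjSum] at h3'
  omega

theorem card_inter_disjSum1 (A A' : Finset (Fin 1)) (H H' : Finset (Fin 21)) :
    (A.disjSum H ∩ A'.disjSum H').card = (A ∩ A').card + (H ∩ H').card := by
  rw [← Finset.card_toLeft_add_card_toRight, Finset.toLeft_inter, Finset.toRight_inter,
    Finset.toLeft_disjSum, Finset.toLeft_disjSum, Finset.toRight_disjSum, Finset.toRight_disjSum]

theorem inter22 (hB : IsSteinerSystem 3 6 B) {b c : Finset Y} (hb : b ∈ B) (hc : c ∈ B)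
    (hne : b ≠ c) : (b ∩ c).card = 0 ∨ (b ∩ c).card = 2 :=
  Cfsg.Agent.S0356.result card_Y hB hb hc hne

/-- the system contains the blocks `left point + line`. -/
def HasLines1 (B : Set (Finset Y)) : Prop := ∀ l ∈ L0, U1.disjSum l ∈ B

/-- the system contains the hyperovals of class 0. -/
def HasOvals1 (B : Set (Finset Y)) : Prop :=
  ∀ H : Finset (Fin 21), m21 H ∈ cls 0 → (∅ : Finset (Fin 1)).disjSum H ∈ B

/-- the blocks without left point are hyperovals of class 0. -/
def OvalsInClass1 (B : Set (Finset Y)) : Prop :=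
  ∀ H : Finset (Fin 21), (∅ : Finset (Fin 1)).disjSum H ∈ B → m21 H ∈ cls 0

/-- the canonical system. -/
def C22 : Set (Finset Y) :=
  {b | (b.toLeft = U1 ∧ b.toRight ∈ L0) ∨ (b.toLeft = ∅ ∧ m21 b.toRight ∈ cls 0)}

theorem line_of_block1 (hB : IsSteinerSystem 3 6 B) (hL : HasLines1 B) {b : Finset Y}
    (hb : b ∈ B) (h3 : b.toLeft = U1) : b.toRight ∈ L0 := by
  have hc := card_lr1 hB hb
  rw [h3, card_U1] at hc
  have h5 : 1 < b.toRight.card := by omega
  obtain ⟨p, hp, q, hq, hpq⟩ := Finset.one_lt_card.mp h5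
  obtain ⟨l, ⟨hl, hsl⟩, -⟩ := L0_steiner.2 {p, q} (Finset.card_pair hpq)
  have hcB := hL l hl
  have heq : b = U1.disjSum l := by
    apply block_eq_of_parts1 hB hb hcB (A := U1) (S := {p, q})
    · rw [card_U1, Finset.card_pair hpq]
    · rw [h3]
    · rw [Finset.toLeft_disjSum]
    · exact pair_subset hp hq
    · rw [Finset.toRight_disjSum]
      exact hsl
  rw [heq, Finset.toRight_disjSum]
  exact hl

theorem card_of_block1 (hB : IsSteinerSystem 3 6 B) {H : Finset (Fin 21)}
    (hb : (∅ : Finset (Fin 1)).disjSum H ∈ B) : H.card = 6 := by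
  have := hB.1 _ hb
  rw [Finset.card_disjSum, Finset.card_empty] at this
  omega

theorem oval_of_block1 (hB : IsSteinerSystem 3 6 B) (hL : HasLines1 B) {H : Finset (Fin 21)}
    (hb : (∅ : Finset (Fin 1)).disjSum H ∈ B) : IsOval L0 H := by
  refine ⟨?_, card_of_block1 hB hb⟩
  intro l hl
  have hc := hL l hl
  have hne : (∅ : Finset (Fin 1)).disjSum H ≠ U1.disjSum l := by
    intro h
    have := congrArg Finset.toLeft h
    rw [Finset.toLeft_disjSum, Finset.toLeft_disjSum] at this
    exact U1_ne_empty this.symm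
  have h1 := inter22 hB hb hc hne
  rw [card_inter_disjSum1, Finset.empty_inter, Finset.card_empty, Finset.inter_comm] at h1
  omega

theorem same_class1 (hB : IsSteinerSystem 3 6 B) {H H' : Finset (Fin 21)}
    (hb : (∅ : Finset (Fin 1)).disjSum H ∈ B) (hb' : (∅ : Finset (Fin 1)).disjSum H' ∈ B)
    {a a' : ℕ} (ha : a < 3) (ha' : a' < 3) (hHa : m21 H ∈ cls a) (hHa' : m21 H' ∈ cls a') :
    a = a' := by
  by_contra hne
  have h1 := cls_diff ha ha' hne hHa hHa'
  rw [← card_inter_eq_popc21] at h1
  by_cases hHH : H = H'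
  · rw [← hHH, Finset.inter_self, card_of_block1 hB hb] at h1
    omega
  · have hbb : (∅ : Finset (Fin 1)).disjSum H ≠ (∅ : Finset (Fin 1)).disjSum H' := by
      intro h
      exact hHH (Finset.disjSum_inj.mp h).2
    have h2 := inter22 hB hb hb' hbb
    rw [card_inter_disjSum1, Finset.inter_self, Finset.card_empty] at h2
    omega

theorem left_cases_block (b : Finset Y) :
    b = (∅ : Finset (Fin 1)).disjSum b.toRight ∨ b = U1.disjSum b.toRight := by
  rcases left_cases1 b.toLeft with h | h
  · left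
    conv_lhs => rw [← Finset.toLeft_disjSum_toRight (u := b), h]
  · right
    conv_lhs => rw [← Finset.toLeft_disjSum_toRight (u := b), h]

theorem exists_oval_block1 (hB : IsSteinerSystem 3 6 B) (hL : HasLines1 B) :
    ∃ H : Finset (Fin 21), (∅ : Finset (Fin 1)).disjSum H ∈ B := by
  have hT : ((∅ : Finset (Fin 1)).disjSum ({0, 1, 5} : Finset (Fin 21))).card = 3 := by
    rw [Finset.card_disjSum, Finset.card_empty]
    rfl
  obtain ⟨b, ⟨hb, hTb⟩, -⟩ := hB.2 _ hT
  rw [Finset.disjSum_subset] at hTb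
  rcases left_cases_block b with h | h
  · exact ⟨b.toRight, h ▸ hb⟩
  · exfalso
    have h3 : b.toLeft = U1 := by
      rw [h, Finset.toLeft_disjSum]
    have hl := line_of_block1 hB hL hb h3
    rw [mem_L0] at hl
    apply noncollinear_015 _ hl
    have e0 := testBit_m21 b.toRight 0
    have e1 := testBit_m21 b.toRight 1
    have e5 := testBit_m21 b.toRight 5
    have m0 : (0 : Fin 21) ∈ b.toRight := hTb.2 (by simp)
    have m1 : (1 : Fin 21) ∈ b.toRight := hTb.2 (by simp)
    have m5 : (5 : Fin 21) ∈ b.toRight := hTb.2 (by simp)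
    rw [decide_eq_true m0] at e0
    rw [decide_eq_true m1] at e1
    rw [decide_eq_true m5] at e5
    exact ⟨e0, e1, e5⟩

theorem hasOvals_of_inClass1 (hB : IsSteinerSystem 3 6 B) (hL : HasLines1 B)
    (hC : OvalsInClass1 B) : HasOvals1 B := by
  intro H hH
  have hall : m21 H ∈ hypAll := mem_hypAll.mpr ⟨0, by norm_num, hH⟩
  have hov : IsOval L0 H := by
    have := isOval_f21 hall
    rwa [f21_m21] at this
  have h6 : 2 < H.card := by rw [hov.card]; norm_num
  obtain ⟨p, hp, q, hq, r, hr, hpq, hpr, hqr⟩ := Finset.two_lt_card.mp h6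
  have hT : ((∅ : Finset (Fin 1)).disjSum ({p, q, r} : Finset (Fin 21))).card = 3 := by
    rw [Finset.card_disjSum, Finset.card_empty, card_triple hpq hpr hqr]
  obtain ⟨b, ⟨hb, hTb⟩, -⟩ := hB.2 _ hT
  rw [Finset.disjSum_subset] at hTb
  have h3 : 3 ≤ (b.toRight ∩ H).card := by
    have hsub : ({p, q, r} : Finset (Fin 21)) ⊆ b.toRight ∩ H :=
      Finset.subset_inter hTb.2 (triple_subset hp hq hr)
    have := Finset.card_le_card hsub
    rwa [card_triple hpq hpr hqr] at this
  rcases left_cases_block b with h | h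
  · have hb' : (∅ : Finset (Fin 1)).disjSum b.toRight ∈ B := h ▸ hb
    have hcl := hC _ hb'
    by_cases hm : m21 b.toRight = m21 H
    · have : b.toRight = H := by rw [← f21_m21 b.toRight, hm, f21_m21]
      rw [← this]
      exact hb'
    · exfalso
      have h1 := cls_same (by norm_num : 0 < 3) hcl hH hm
      rw [← card_inter_eq_popc21] at h1
      omega
  · exfalso
    have h3' : b.toLeft = U1 := by
      rw [h, Finset.toLeft_disjSum]
    have hl := line_of_block1 hB hL hb h3'
    have := hov.arc _ hl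
    omega

/-- a system with the lines and the class-0 ovals, whose blocks without left point are of class 0,
is the canonical system. -/
theorem eq_C22 (hB : IsSteinerSystem 3 6 B) (hL : HasLines1 B) (hC : OvalsInClass1 B) :
    B = C22 := by
  have hO := hasOvals_of_inClass1 hB hL hC
  ext b
  constructor
  · intro hb
    rcases left_cases_block b with h | h
    · right
      have hl : b.toLeft = ∅ := by rw [h, Finset.toLeft_disjSum]
      exact ⟨hl, hC _ (h ▸ hb)⟩
    · left
      have hl : b.toLeft = U1 := by rw [h, Finset.toLeft_disjSum]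
      exact ⟨hl, line_of_block1 hB hL hb hl⟩
  · rintro (⟨h1, h2⟩ | ⟨h1, h2⟩)
    · have := hL _ h2
      rwa [← h1, Finset.toLeft_disjSum_toRight] at this
    · have := hO _ h2
      rwa [← h1, Finset.toLeft_disjSum_toRight] at this

end blocks

/-! ### Existence of the canonical form -/

section exist

variable {B : Set (Finset Y)}

/-- the lines of a Steiner system: right parts of the blocks containing the left point. -/
def linesOf1 (B : Set (Finset Y)) : Set (Finset (Fin 21)) := {l | U1.disjSum l ∈ B}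

theorem linesOf1_steiner (hB : IsSteinerSystem 3 6 B) : IsSteinerSystem 2 5 (linesOf1 B) := by
  refine ⟨?_, ?_⟩
  · intro l hl
    have := hB.1 _ hl
    rw [Finset.card_disjSum, card_U1] at this
    omega
  · intro s hs
    have hT : (U1.disjSum s).card = 3 := by
      rw [Finset.card_disjSum, card_U1, hs]
    obtain ⟨b, ⟨hb, hTb⟩, huniq⟩ := hB.2 _ hT
    rw [Finset.disjSum_subset] at hTb
    have hu : b.toLeft = U1 := Finset.univ_subset_iff.mp hTb.1
    have hbe : U1.disjSum b.toRight = b := by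
      rw [← hu, Finset.toLeft_disjSum_toRight]
    refine ⟨b.toRight, ⟨?_, hTb.2⟩, ?_⟩
    · show U1.disjSum b.toRight ∈ B
      rw [hbe]
      exact hb
    · rintro l ⟨hl, hsl⟩
      have := huniq _ ⟨hl, Finset.disjSum_mono (Finset.Subset.refl _) hsl⟩
      rw [← this, Finset.toRight_disjSum]

theorem exists_hasLines1 (hB : IsSteinerSystem 3 6 B) :
    ∃ e : Equiv.Perm (Fin 21), HasLines1 (imgSys (sc1 e) B) := by
  obtain ⟨e, he⟩ := Cfsg.Agent.S5626.result card_fin21 card_fin21 (linesOf1_steiner hB) L0_steiner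
  refine ⟨e, ?_⟩
  intro l hl
  rw [← he] at hl
  obtain ⟨l', hl', rfl⟩ := hl
  have := image_mem_imgSys (e := sc1 e) hl'
  rwa [image_sc1] at this

theorem exists_col0 : ∀ a : Fin 3, ∃ j : Fin 6, sig j.val a.val = 0 := by decide

theorem exists_inClass1 (hB : IsSteinerSystem 3 6 B) (hL : HasLines1 B) :
    ∃ j : Fin 6, HasLines1 (imgSys (sc1 (colPerm j)) B) ∧
      OvalsInClass1 (imgSys (sc1 (colPerm j)) B) := by
  obtain ⟨H0, hH0⟩ := exists_oval_block1 hB hL
  obtain ⟨a0, ha0, hm0⟩ := mem_hypAll.mp (oval_mem_hypAll (oval_of_block1 hB hL hH0))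
  obtain ⟨j, hj⟩ := exists_col0 ⟨a0, ha0⟩
  refine ⟨j, ?_, ?_⟩
  · intro l hl
    rw [disj_mem_imgSys1]
    exact hL _ (colsymm_lines j hl)
  · intro H hH
    rw [disj_mem_imgSys1] at hH
    have hov := oval_of_block1 hB hL hH
    obtain ⟨a, ha, hm⟩ := mem_hypAll.mp (oval_mem_hypAll hov)
    have haa : a = a0 := same_class1 hB hH hH0 ha ha0 hm hm0
    have := col_cls j ha hm
    rw [image_image_symm, haa, hj] at this
    exact this

/-- every Steiner system S(3,6,22) on `Y` can be moved to the canonical one. -/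
theorem exists_canon1 (hB : IsSteinerSystem 3 6 B) :
    ∃ e : Equiv.Perm (Fin 21), imgSys (sc1 e) B = C22 := by
  obtain ⟨e0, h0⟩ := exists_hasLines1 hB
  have hB1 := imgSys_steiner hB (sc1 e0)
  obtain ⟨j, hj1, hj2⟩ := exists_inClass1 hB1 h0
  have hB2 := imgSys_steiner hB1 (sc1 (colPerm j))
  refine ⟨e0.trans (colPerm j), ?_⟩
  rw [← sc1_trans, ← imgSys_trans]
  exact eq_C22 hB2 hj1 hj2

/-- uniqueness of the Steiner system S(3,6,22), over arbitrary point types. -/
theorem steiner22_unique {α β : Type*} [Fintype α] [DecidableEq α] [Fintype β] [DecidableEq β]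
    (hα : Fintype.card α = 22) (hβ : Fintype.card β = 22) {B : Set (Finset α)}
    {B' : Set (Finset β)} (hB : IsSteinerSystem 3 6 B) (hB' : IsSteinerSystem 3 6 B') :
    ∃ e : α ≃ β, imgSys e B = B' := by
  have eα : α ≃ Y := Fintype.equivOfCardEq (by rw [hα, card_Y])
  have eβ : β ≃ Y := Fintype.equivOfCardEq (by rw [hβ, card_Y])
  have h1 := imgSys_steiner hB eα
  have h2 := imgSys_steiner hB' eβ
  obtain ⟨e1, c1⟩ := exists_canon1 h1
  obtain ⟨e2, c2⟩ := exists_canon1 h2
  have heq : imgSys (sc1 e1) (imgSys eα B) = imgSys (sc1 e2) (imgSys eβ B') := by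
    rw [c1, c2]
  rw [imgSys_trans, imgSys_trans] at heq
  refine ⟨(eα.trans (sc1 e1)).trans (eβ.trans (sc1 e2)).symm, ?_⟩
  rw [← imgSys_trans, heq]
  ext c
  rw [mem_imgSys, mem_imgSys, Equiv.symm_symm, image_symm_image]

end exist

end Cfsg.Agent.Lib.Helper95.St22
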