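import Cfsg.Agent.Lib.Helper95.AutTransport
import Cfsg.Agent.Lib.Helper35.GolayMask
import Cfsg.Agent.S0363
import Cfsg.Agent.S0366
import Mathlib

set_option autoImplicit false

/-! # The Steiner system S(3,6,22) derived from the octads at two points, and the action of the
two-point stabiliser of the group of the code on it -/

namespace Cfsg.Agent.Lib.Helper95.St22G

open Cfsg Finset MulAction
open Cfsg.Agent.Lib.Helper09 Cfsg.Agent.Lib.Helper95.St24
open scoped Pointwise

/-- the first removed point. -/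
def p0 : GolayPt := none

/-- the second removed point. -/
def q0 : GolayPt := some 0

theorem p0_ne_q0 : p0 ≠ q0 := by decide

/-- the remaining 22 points. -/
def P (x : GolayPt) : Prop := x ≠ p0 ∧ x ≠ q0

instance : DecidablePred P := fun x => inferInstanceAs (Decidable (x ≠ p0 ∧ x ≠ q0))

theorem not_P_iff {x : GolayPt} : ¬ P x ↔ x = p0 ∨ x = q0 := by
  unfold P
  tauto

theorem not_P_p0 : ¬ P p0 := fun h => h.1 rfl

theorem not_P_q0 : ¬ P q0 := fun h => h.2 rfl

/-- the type of the remaining 22 points. -/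
abbrev Z : Type := {x : GolayPt // P x}

theorem card_Z : Fintype.card Z = 22 := by
  rw [Fintype.card_subtype]
  decide

/-- a set of the 22 points, completed by the two removed points. -/
def lift (c : Finset Z) : Finset GolayPt :=
  insert p0 (insert q0 (c.map (Function.Embedding.subtype P)))

theorem mem_lift {c : Finset Z} {x : GolayPt} :
    x ∈ lift c ↔ ¬ P x ∨ ∃ h : P x, (⟨x, h⟩ : Z) ∈ c := by
  unfold lift
  rw [Finset.mem_insert, Finset.mem_insert, Finset.mem_map]
  constructor
  · rintro (h | h | ⟨a, ha, hax⟩)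
    · left; rw [h]; exact not_P_p0
    · left; rw [h]; exact not_P_q0
    · right
      have : a.1 = x := hax
      subst this
      exact ⟨a.2, ha⟩
  · rintro (h | ⟨h, hc⟩)
    · rcases not_P_iff.mp h with h | h
      · exact Or.inl h
      · exact Or.inr (Or.inl h)
    · exact Or.inr (Or.inr ⟨⟨x, h⟩, hc, rfl⟩)

theorem p0_mem_lift (c : Finset Z) : p0 ∈ lift c := mem_lift.mpr (Or.inl not_P_p0)

theorem q0_mem_lift (c : Finset Z) : q0 ∈ lift c := mem_lift.mpr (Or.inl not_P_q0)

theorem card_lift (c : Finset Z) : (lift c).card = c.card + 2 := by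
  unfold lift
  have h1 : q0 ∉ c.map (Function.Embedding.subtype P) := by
    intro h
    obtain ⟨a, -, ha⟩ := Finset.mem_map.mp h
    exact a.2.2 ha
  have h2 : p0 ∉ insert q0 (c.map (Function.Embedding.subtype P)) := by
    intro h
    rcases Finset.mem_insert.mp h with h | h
    · exact p0_ne_q0 h
    · obtain ⟨a, -, ha⟩ := Finset.mem_map.mp h
      exact a.2.1 ha
  rw [Finset.card_insert_of_notMem h2, Finset.card_insert_of_notMem h1, Finset.card_map]

theorem lift_subtype {o : Finset GolayPt} (hp : p0 ∈ o) (hq : q0 ∈ o) :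
    lift (o.subtype P) = o := by
  ext x
  rw [mem_lift]
  constructor
  · rintro (h | ⟨h, hc⟩)
    · rcases not_P_iff.mp h with h | h
      · rw [h]; exact hp
      · rw [h]; exact hq
    · exact Finset.mem_subtype.mp hc
  · intro hx
    by_cases h : P x
    · exact Or.inr ⟨h, Finset.mem_subtype.mpr hx⟩
    · exact Or.inl h

theorem subtype_lift (c : Finset Z) : (lift c).subtype P = c := by
  ext ⟨x, h⟩
  rw [Finset.mem_subtype, mem_lift]
  constructor
  · rintro (h' | ⟨_, hc⟩)
    · exact absurd h h'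
    · exact hc
  · intro hc
    exact Or.inr ⟨h, hc⟩

theorem lift_mono {s c : Finset Z} (h : s ⊆ c) : lift s ⊆ lift c := by
  intro x hx
  rw [mem_lift] at hx ⊢
  rcases hx with hx | ⟨hP, hx⟩
  · exact Or.inl hx
  · exact Or.inr ⟨hP, h hx⟩

/-- the derived system. -/
def D22 : Set (Finset Z) := {c | lift c ∈ octads}

theorem D22_steiner : IsSteinerSystem 3 6 D22 := by
  have hS := Cfsg.Agent.S0363.result
  refine ⟨?_, ?_⟩
  · intro c hc
    have := hS.1 _ hc
    rw [card_lift] at this
    omega
  · intro s hs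
    have h5 : (lift s).card = 5 := by rw [card_lift, hs]
    obtain ⟨o, ⟨ho, hso⟩, huniq⟩ := hS.2 _ h5
    have hp : p0 ∈ o := hso (p0_mem_lift s)
    have hq : q0 ∈ o := hso (q0_mem_lift s)
    refine ⟨o.subtype P, ⟨?_, ?_⟩, ?_⟩
    · show lift (o.subtype P) ∈ octads
      rw [lift_subtype hp hq]
      exact ho
    · rw [← subtype_lift s]
      exact Finset.subtype_mono hso
    · rintro c ⟨hc, hsc⟩
      have := huniq _ ⟨hc, lift_mono hsc⟩
      rw [← this, subtype_lift]

/-! ### Restriction of permutations -/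

/-- the permutation preserves the pair of removed points. -/
def Pres (g : Equiv.Perm GolayPt) : Prop := ∀ x, P (g x) ↔ P x

theorem Pres.symm {g : Equiv.Perm GolayPt} (hg : Pres g) : Pres g.symm := by
  intro x
  have := hg (g.symm x)
  rw [Equiv.apply_symm_apply] at this
  exact this.symm

theorem pres_of_fix {g : Equiv.Perm GolayPt} (hp : g p0 = p0) (hq : g q0 = q0) : Pres g := by
  intro x
  unfold P
  have h1 : g x = p0 ↔ x = p0 := by
    constructor
    · intro h; exact g.injective (h.trans hp.symm)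
    · intro h; rw [h, hp]
  have h2 : g x = q0 ↔ x = q0 := by
    constructor
    · intro h; exact g.injective (h.trans hq.symm)
    · intro h; rw [h, hq]
  rw [Ne, Ne, Ne, Ne, h1, h2]

theorem pres_of_swap {g : Equiv.Perm GolayPt} (hp : g p0 = q0) (hq : g q0 = p0) : Pres g := by
  intro x
  unfold P
  have h1 : g x = p0 ↔ x = q0 := by
    constructor
    · intro h; exact g.injective (h.trans hq.symm)
    · intro h; rw [h, hq]
  have h2 : g x = q0 ↔ x = p0 := by
    constructor
    · intro h; exact g.injective (h.trans hp.symm)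
    · intro h; rw [h, hp]
  rw [Ne, Ne, Ne, Ne, h1, h2]
  exact and_comm

/-- restriction to the 22 points. -/
def resZ (g : Equiv.Perm GolayPt) (hg : Pres g) : Equiv.Perm Z := g.subtypePerm hg

theorem resZ_apply (g : Equiv.Perm GolayPt) (hg : Pres g) (z : Z) : (resZ g hg z).1 = g z.1 := rfl

theorem resZ_symm (g : Equiv.Perm GolayPt) (hg : Pres g) :
    (resZ g hg).symm = resZ g.symm hg.symm := by
  apply Equiv.ext
  intro z
  apply (resZ g hg).injective
  rw [Equiv.apply_symm_apply]
  apply Subtype.ext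
  rw [resZ_apply, resZ_apply, Equiv.apply_symm_apply]

theorem lift_resZ (g : Equiv.Perm GolayPt) (hg : Pres g) (c : Finset Z) :
    lift (c.image (resZ g hg)) = (lift c).image g := by
  ext x
  rw [mem_lift, Finset.mem_image]
  constructor
  · rintro (h | ⟨h, hc⟩)
    · refine ⟨g.symm x, mem_lift.mpr (Or.inl ?_), Equiv.apply_symm_apply _ _⟩
      intro h'
      exact h ((hg.symm x).mp h')
    · obtain ⟨z, hz, hzx⟩ := Finset.mem_image.mp hc
      refine ⟨z.1, mem_lift.mpr (Or.inr ⟨z.2, hz⟩), ?_⟩
      have := congrArg Subtype.val hzx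
      rwa [resZ_apply] at this
  · rintro ⟨y, hy, rfl⟩
    rcases mem_lift.mp hy with h | ⟨h, hc⟩
    · left
      intro h'
      exact h ((hg y).mp h')
    · right
      refine ⟨(hg y).mpr h, ?_⟩
      rw [Finset.mem_image]
      exact ⟨⟨y, h⟩, hc, Subtype.ext (resZ_apply g hg _)⟩

theorem image_mem_octads {g : Equiv.Perm GolayPt} (hg : g ∈ M24) {o : Finset GolayPt}
    (ho : o ∈ octads) : o.image g ∈ octads :=
  Cfsg.Agent.Lib.Helper35.smul_mem_octads hg ho

theorem resZ_mem {g : Equiv.Perm GolayPt} (hgM : g ∈ M24) (hg : Pres g) :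
    resZ g hg ∈ setSystemAut D22 := by
  rw [mem_aut_iff]
  ext c
  rw [mem_imgSys, resZ_symm]
  show lift (c.image (resZ g.symm hg.symm)) ∈ octads ↔ lift c ∈ octads
  rw [lift_resZ]
  constructor
  · intro h
    have := image_mem_octads hgM h
    rwa [image_image_symm] at this
  · intro h
    exact image_mem_octads (M24.inv_mem hgM) h

/-! ### The two-point stabiliser -/

/-- the two-point stabiliser. -/
abbrev G0 : Subgroup M24 := stabilizer M24 p0 ⊓ stabilizer M24 q0

theorem fix_p0 (g : G0) : (g.1.1 : Equiv.Perm GolayPt) p0 = p0 :=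
  MulAction.mem_stabilizer_iff.mp (Subgroup.mem_inf.mp g.2).1

theorem fix_q0 (g : G0) : (g.1.1 : Equiv.Perm GolayPt) q0 = q0 :=
  MulAction.mem_stabilizer_iff.mp (Subgroup.mem_inf.mp g.2).2

/-- the action of the two-point stabiliser on the derived system. -/
def rho0 : G0 →* setSystemAut D22 where
  toFun g := ⟨resZ g.1.1 (pres_of_fix (fix_p0 g) (fix_q0 g)), resZ_mem g.1.2 _⟩
  map_one' := by
    apply Subtype.ext
    apply Equiv.ext
    intro z
    rfl
  map_mul' g h := by
    apply Subtype.ext
    apply Equiv.ext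
    intro z
    rfl

theorem rho0_apply (g : G0) (z : Z) : ((rho0 g).1 z).1 = g.1.1 z.1 := rfl

theorem rho0_injective : Function.Injective rho0 := by
  intro g h hgh
  apply Subtype.ext
  apply Subtype.ext
  apply Equiv.ext
  intro x
  by_cases hx : P x
  · have := rho0_apply g ⟨x, hx⟩
    rw [hgh, rho0_apply] at this
    exact this.symm
  · rcases not_P_iff.mp hx with rfl | rfl
    · rw [fix_p0, fix_p0]
    · rw [fix_q0, fix_q0]

/-- extension of a triple of the 22 points by the two removed points. -/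
def ext5fun (x : Fin 3 → Z) (i : Fin 5) : GolayPt :=
  if h : i.val < 3 then (x ⟨i.val, h⟩).1 else if i.val = 3 then p0 else q0

theorem ext5fun_injective (x : Fin 3 ↪ Z) : Function.Injective (ext5fun x) := by
  intro i j hij
  unfold ext5fun at hij
  by_cases hi : i.val < 3 <;> by_cases hj : j.val < 3
  · rw [dif_pos hi, dif_pos hj] at hij
    have := x.injective (Subtype.ext hij)
    exact Fin.ext (Fin.mk.inj_iff.mp this)
  · rw [dif_pos hi, dif_neg hj] at hij
    exfalso
    have hP := (x ⟨i.val, hi⟩).2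
    by_cases h3 : j.val = 3
    · rw [if_pos h3] at hij; exact hP.1 hij
    · rw [if_neg h3] at hij; exact hP.2 hij
  · rw [dif_neg hi, dif_pos hj] at hij
    exfalso
    have hP := (x ⟨j.val, hj⟩).2
    by_cases h3 : i.val = 3
    · rw [if_pos h3] at hij; exact hP.1 hij.symm
    · rw [if_neg h3] at hij; exact hP.2 hij.symm
  · rw [dif_neg hi, dif_neg hj] at hij
    by_cases h3 : i.val = 3 <;> by_cases h3' : j.val = 3
    · exact Fin.ext (h3.trans h3'.symm)
    · rw [if_pos h3, if_neg h3'] at hij; exact absurd hij p0_ne_q0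
    · rw [if_neg h3, if_pos h3'] at hij; exact absurd hij.symm p0_ne_q0
    · apply Fin.ext
      have := i.isLt
      have := j.isLt
      omega

/-- the extension, as an embedding. -/
def ext5 (x : Fin 3 ↪ Z) : Fin 5 ↪ GolayPt := ⟨ext5fun x, ext5fun_injective x⟩

theorem ext5_lt (x : Fin 3 ↪ Z) (i : Fin 3) : ext5 x ⟨i.val, by omega⟩ = (x i).1 := by
  show ext5fun x _ = _
  unfold ext5fun
  rw [dif_pos i.isLt]

theorem ext5_three (x : Fin 3 ↪ Z) : ext5 x ⟨3, by omega⟩ = p0 := rfl

theorem ext5_four (x : Fin 3 ↪ Z) : ext5 x ⟨4, by omega⟩ = q0 := rfl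

/-- the image of the two-point stabiliser is 3-transitive on the 22 points. -/
theorem exists_rho0_smul (x y : Fin 3 ↪ Z) : ∃ g : G0, ∀ i, (rho0 g).1 (x i) = y i := by
  haveI := Cfsg.Agent.S0366.result
  obtain ⟨g, hg⟩ := MulAction.exists_smul_eq M24 (ext5 x) (ext5 y)
  have hval : ∀ i : Fin 5, (g.1 : Equiv.Perm GolayPt) (ext5 x i) = ext5 y i := fun i =>
    DFunLike.congr_fun hg i
  have hp : (g.1 : Equiv.Perm GolayPt) p0 = p0 := hval ⟨3, by omega⟩
  have hq : (g.1 : Equiv.Perm GolayPt) q0 = q0 := hval ⟨4, by omega⟩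
  have hg0 : g ∈ G0 := Subgroup.mem_inf.mpr
    ⟨MulAction.mem_stabilizer_iff.mpr hp, MulAction.mem_stabilizer_iff.mpr hq⟩
  refine ⟨⟨g, hg0⟩, fun i => ?_⟩
  apply Subtype.ext
  rw [rho0_apply]
  have := hval ⟨i.val, by omega⟩
  rw [ext5_lt, ext5_lt] at this
  exact this

/-! ### An automorphism outside the image of the two-point stabiliser -/

theorem exists_octad_p0_not_q0 : ∃ o ∈ octads, p0 ∈ o ∧ q0 ∉ o := by
  have hS := Cfsg.Agent.S0363.result
  let T1 : Finset GolayPt := {p0, some 1, some 2, some 3, some 4}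
  have hT1 : T1.card = 5 := by decide
  obtain ⟨o1, ⟨ho1, hT1o⟩, -⟩ := hS.2 T1 hT1
  by_cases hq : q0 ∈ o1
  · have hlt : o1.card < (Finset.univ : Finset GolayPt).card := by
      rw [hS.1 o1 ho1, Finset.card_univ]
      decide
    obtain ⟨x, -, hx⟩ := Finset.exists_mem_notMem_of_card_lt_card hlt
    have hsub : ({p0, some 1, some 2, some 3} : Finset GolayPt) ⊆ o1 := by
      intro y hy
      apply hT1o
      simp only [T1, Finset.mem_insert, Finset.mem_singleton] at hy ⊢
      tauto
    have hxn : x ∉ ({p0, some 1, some 2, some 3} : Finset GolayPt) := fun h => hx (hsub h)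
    let T2 : Finset GolayPt := insert x {p0, some 1, some 2, some 3}
    have hT2 : T2.card = 5 := by
      show (insert x ({p0, some 1, some 2, some 3} : Finset GolayPt)).card = 5
      rw [Finset.card_insert_of_notMem hxn]
      decide
    obtain ⟨o2, ⟨ho2, hT2o⟩, -⟩ := hS.2 T2 hT2
    refine ⟨o2, ho2, hT2o (by simp [T2]), ?_⟩
    intro hq2
    have h5 : 5 ≤ (o1 ∩ o2).card := by
      have hsub2 : ({q0, p0, some 1, some 2, some 3} : Finset GolayPt) ⊆ o1 ∩ o2 := by
        intro y hy
        rw [Finset.mem_inter]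
        simp only [Finset.mem_insert, Finset.mem_singleton] at hy
        rcases hy with rfl | hy
        · exact ⟨hq, hq2⟩
        · constructor
          · apply hsub
            simp only [Finset.mem_insert, Finset.mem_singleton]
            exact hy
          · apply hT2o
            simp only [T2, Finset.mem_insert, Finset.mem_singleton]
            tauto
      have := Finset.card_le_card hsub2
      have hc : ({q0, p0, some 1, some 2, some 3} : Finset GolayPt).card = 5 := by decide
      rwa [hc] at this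
    have heq : o1 = o2 := by
      by_contra hne
      have := card_inter_lt hS ho1 ho2 hne
      omega
    apply hx
    rw [heq]
    exact hT2o (by simp [T2])
  · exact ⟨o1, ho1, hT1o (by simp [T1]), hq⟩

/-- the transposition of the two removed points is not in the group of the code. -/
theorem swap_not_mem : Equiv.swap p0 q0 ∉ M24 := by
  intro h
  obtain ⟨o, ho, hp, hq⟩ := exists_octad_p0_not_q0
  have hS := Cfsg.Agent.S0363.result
  have ho' := image_mem_octads h ho
  have hne : o ≠ o.image (Equiv.swap p0 q0) := by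
    intro he
    apply hq
    rw [he]
    exact Finset.mem_image.mpr ⟨p0, hp, Equiv.swap_apply_left _ _⟩
  have hlt := card_inter_lt hS ho ho' hne
  have hsub : o.erase p0 ⊆ o ∩ o.image (Equiv.swap p0 q0) := by
    intro y hy
    rw [Finset.mem_erase] at hy
    rw [Finset.mem_inter]
    refine ⟨hy.2, Finset.mem_image.mpr ⟨y, hy.2, ?_⟩⟩
    apply Equiv.swap_apply_of_ne_of_ne hy.1
    intro h
    exact hq (h ▸ hy.2)
  have := Finset.card_le_card hsub
  rw [Finset.card_erase_of_mem hp, hS.1 o ho] at this
  omega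

theorem exists_swap : ∃ g : M24, (g.1 : Equiv.Perm GolayPt) p0 = q0 ∧
    (g.1 : Equiv.Perm GolayPt) q0 = p0 := by
  haveI := Cfsg.Agent.S0366.result
  let x : Fin 5 ↪ GolayPt := ⟨![p0, q0, some 1, some 2, some 3], by decide⟩
  let y : Fin 5 ↪ GolayPt := ⟨![q0, p0, some 1, some 2, some 3], by decide⟩
  obtain ⟨g, hg⟩ := MulAction.exists_smul_eq M24 x y
  have hval : ∀ i : Fin 5, (g.1 : Equiv.Perm GolayPt) (x i) = y i := fun i =>
    DFunLike.congr_fun hg i
  exact ⟨g, hval 0, hval 1⟩

/-- an automorphism of the derived system outside the image of the two-point stabiliser. -/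
theorem exists_not_mem_range : ∃ τ : setSystemAut D22, τ ∉ rho0.range := by
  obtain ⟨g, hp, hq⟩ := exists_swap
  refine ⟨⟨resZ g.1 (pres_of_swap hp hq), resZ_mem g.2 _⟩, ?_⟩
  rintro ⟨h, hh⟩
  apply swap_not_mem
  have hagree : ∀ x, P x → (h.1.1 : Equiv.Perm GolayPt) x = (g.1 : Equiv.Perm GolayPt) x := by
    intro x hx
    have := rho0_apply h ⟨x, hx⟩
    rw [hh] at this
    exact this.symm
  have heq : Equiv.swap p0 q0 = (h.1.1 : Equiv.Perm GolayPt)⁻¹ * g.1 := by
    apply Equiv.ext
    intro x
    show _ = (h.1.1 : Equiv.Perm GolayPt)⁻¹ ((g.1 : Equiv.Perm GolayPt) x)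
    rw [Equiv.Perm.eq_inv_iff_eq]
    by_cases hx : P x
    · rw [Equiv.swap_apply_of_ne_of_ne hx.1 hx.2]
      exact hagree x hx
    · rcases not_P_iff.mp hx with rfl | rfl
      · rw [Equiv.swap_apply_left, fix_q0, hp]
      · rw [Equiv.swap_apply_right, fix_p0, hq]
  rw [heq]
  exact M24.mul_mem (M24.inv_mem h.1.2) g.2

end Cfsg.Agent.Lib.Helper95.St22G
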