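import Cfsg.Agent.Lib.Helper95.St22Aut
import Cfsg.Agent.Lib.Helper95.St22Golay
import Cfsg.Agent.S0378
import Cfsg.Agent.S0379
import Cfsg.Prelude.Def_Sporadic
import Mathlib

set_option autoImplicit false

/-! # The automorphism group of a Steiner system S(3,6,22) -/

namespace Cfsg.Agent.Lib.Helper95.St22G

open Cfsg Finset MulAction
open Cfsg.Agent.Lib.Helper95.St24 Cfsg.Agent.Lib.Helper95.St22

theorem card_aut_D22_le : Nat.card (setSystemAut D22) ≤ 887040 := by
  have ψ : Z ≃ Y := Fintype.equivOfCardEq (by rw [card_Z, card_Y])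
  have h1 := imgSys_steiner D22_steiner ψ
  obtain ⟨e, he⟩ := exists_canon1 h1
  rw [imgSys_trans] at he
  rw [Nat.card_congr (autIso _ he).toEquiv]
  exact card_A22_le

theorem card_range : Nat.card rho0.range = 443520 := by
  rw [← Nat.card_congr (MonoidHom.ofInjective rho0_injective).toEquiv]
  exact Cfsg.Agent.S0378.result p0 q0 p0_ne_q0

theorem simple_range : IsSimpleGroup rho0.range := by
  haveI := Cfsg.Agent.S0379.result p0 q0 p0_ne_q0
  exact MulEquiv.isSimpleGroup (MonoidHom.ofInjective rho0_injective).symm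

theorem index_range : rho0.range.index = 2 ∧ Nat.card (setSystemAut D22) = 887040 := by
  have h1 := Subgroup.card_mul_index rho0.range
  rw [card_range] at h1
  have h2 := card_aut_D22_le
  have hne1 : rho0.range.index ≠ 1 := by
    rw [Ne, Subgroup.index_eq_one]
    intro htop
    obtain ⟨τ, hτ⟩ := exists_not_mem_range
    exact hτ (htop ▸ Subgroup.mem_top τ)
  have hne0 : rho0.range.index ≠ 0 := Subgroup.index_ne_zero_of_finite
  have h3 : 443520 * rho0.range.index ≤ 887040 := h1 ▸ h2
  have h4 : rho0.range.index = 2 := by omega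
  refine ⟨h4, ?_⟩
  rw [← h1, h4]

theorem pretrans_D22 : IsMultiplyPretransitive (setSystemAut D22) Z 3 := by
  refine ⟨fun x y => ?_⟩
  obtain ⟨g, hg⟩ := exists_rho0_smul x y
  refine ⟨rho0 g, ?_⟩
  apply DFunLike.ext
  intro i
  exact hg i

/-- the automorphism group of a Steiner system S(3,6,22). -/
theorem aut22_general {α : Type*} [Fintype α] [DecidableEq α] (hα : Fintype.card α = 22)
    {B : Set (Finset α)} (hB : IsSteinerSystem 3 6 B) :
    Nat.card (setSystemAut B) = 887040 ∧ IsMultiplyPretransitive (setSystemAut B) α 3 ∧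
      ∃ H : Subgroup (setSystemAut B), H.index = 2 ∧ IsM22 H := by
  obtain ⟨e, he⟩ := steiner22_unique hα card_Z hB D22_steiner
  refine ⟨?_, pretransitive_of_iso e he 3 pretrans_D22, ?_⟩
  · rw [Nat.card_congr (autIso e he).toEquiv]
    exact index_range.2
  · refine ⟨rho0.range.map ((autIso e he).symm : setSystemAut D22 →* setSystemAut B), ?_, ?_, ?_⟩
    · rw [Subgroup.index_map_equiv]
      exact index_range.1
    · haveI := simple_range
      exact MulEquiv.isSimpleGroup ((autIso e he).symm.subgroupMap rho0.range).symm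
    · rw [← Nat.card_congr ((autIso e he).symm.subgroupMap rho0.range).toEquiv]
      exact card_range

end Cfsg.Agent.Lib.Helper95.St22G
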