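import Mathlib
import Cfsg.Agent.Lib.Helper95.GolayCodeCfsg

set_option autoImplicit false
set_option linter.unusedSectionVars false
set_option linter.unusedVariables false

/-! Sextets of a 12-dimensional binary code of length 24 with minimum weight at least 8:
every 4-set is a tetrad of exactly one sextet, and there are 1771 sextets. -/

namespace Cfsg.Agent.Lib.Helper95

variable {ι : Type*} [Fintype ι] [DecidableEq ι]

/-- Families of six 4-sets, the union of any two distinct members being the support of a
weight-8 codeword. -/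
def sextetsOf (C : Submodule (ZMod 2) (ι → ZMod 2)) : Set (Finset (Finset ι)) :=
  {S | S.card = 6 ∧ (∀ t ∈ S, t.card = 4) ∧
    ∀ t ∈ S, ∀ u ∈ S, t ≠ u → t ∪ u ∈ Cfsg.wordsOfWeight (C : Set (ι → ZMod 2)) 8}

section Code

variable (hι : Fintype.card ι = 24) (C : Submodule (ZMod 2) (ι → ZMod 2))
  (hdim : Module.finrank (ZMod 2) C = 12)
  (hmin : ∀ w ∈ C, w ≠ 0 → 8 ≤ hammingNorm w)

include hι hdim hmin in
theorem g24_sextet_existsUnique (t : Finset ι) (ht : t.card = 4) :
    ∃! S : Finset (Finset ι), S ∈ sextetsOf C ∧ t ∈ S := by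
  classical
  set v := bind t with hv
  have hv4 : hammingNorm v = 4 := by rw [hv, hammingNorm_bind, ht]
  rcases g24_coset_dichotomy hι C hdim hmin v with ⟨u, hu, hu3⟩ | ⟨A, hA, hA6, hA4, hdisj, hcov⟩
  · exfalso
    have : v = u := (hu v).mp ⟨by rw [sub_self]; exact C.zero_mem, by omega⟩
    rw [← this] at hu3
    omega
  · have hvA : v ∈ A := (hA v).mp ⟨by rw [sub_self]; exact C.zero_mem, by omega⟩
    have htA : t ∈ A.image bsupp := Finset.mem_image.mpr ⟨v, hvA, bsupp_bind t⟩
    have hcard : (A.image bsupp).card = 6 := by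
      rw [Finset.card_image_of_injective _ bsupp_injective, hA6]
    refine ⟨A.image bsupp, ⟨⟨hcard, ?_, ?_⟩, htA⟩, ?_⟩
    · intro s hs
      obtain ⟨a, ha, rfl⟩ := Finset.mem_image.mp hs
      rw [← hammingNorm_eq_card_bsupp, hA4 a ha]
    · intro s hs s' hs' hne
      obtain ⟨a, ha, rfl⟩ := Finset.mem_image.mp hs
      obtain ⟨a', ha', rfl⟩ := Finset.mem_image.mp hs'
      have hne' : a ≠ a' := fun h => hne (by rw [h])
      have hd := hdisj a ha a' ha' hne'
      have hmem : a + a' ∈ C := by
        have h1 := ((hA a).mpr ha).1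
        have h2 := ((hA a').mpr ha').1
        have : a + a' = (a - v) - (a' - v) := by
          rw [sub_sub_sub_cancel_right, sub_eq_add_zmod2]
        rw [this]
        exact C.sub_mem h1 h2
      have hsupp : bsupp (a + a') = bsupp a ∪ bsupp a' := by
        rw [bsupp_add]
        exact Disjoint.symmDiff_eq_sup hd
      refine ⟨⟨a + a', hmem, ?_⟩, ?_⟩
      · rw [support₂_eq_bsupp, hsupp]
      · rw [Finset.card_union_of_disjoint hd, ← hammingNorm_eq_card_bsupp,
          ← hammingNorm_eq_card_bsupp, hA4 a ha, hA4 a' ha']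
    · rintro S' ⟨⟨hS6, hS4, hSoct⟩, htS⟩
      have hsub : S' ⊆ A.image bsupp := by
        intro t' ht'
        by_cases hEq : t' = t
        · rw [hEq]; exact htA
        · obtain ⟨⟨c, hc, hsc⟩, h8⟩ := hSoct t htS t' ht' (Ne.symm hEq)
          have hd : Disjoint t t' := by
            rw [Finset.disjoint_iff_inter_eq_empty, ← Finset.card_eq_zero]
            have := Finset.card_union_add_card_inter t t'
            rw [h8, ht, hS4 t' ht'] at this
            omega
          have hc' : c = bind t + bind t' := by
            apply bsupp_injective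
            rw [bsupp_add, bsupp_bind, bsupp_bind, Disjoint.symmDiff_eq_sup hd,
              ← support₂_eq_bsupp, hsc]
            rfl
          have hmem : bind t' ∈ A := by
            rw [← hA]
            refine ⟨?_, by rw [hammingNorm_bind, hS4 t' ht']⟩
            have : bind t' - v = c := by rw [hc', sub_eq_add_zmod2, add_comm]
            rw [this]
            exact hc
          exact Finset.mem_image.mpr ⟨bind t', hmem, bsupp_bind t'⟩
      exact Finset.eq_of_subset_of_card_le hsub (by rw [hS6, hcard])

include hι hdim hmin in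
theorem g24_sextets_ncard : (sextetsOf C).ncard = 1771 := by
  classical
  set sx : Finset (Finset (Finset ι)) := (Set.toFinite (sextetsOf C)).toFinset with hsx
  have hmem : ∀ S, S ∈ sx ↔ S ∈ sextetsOf C := fun S => Set.Finite.mem_toFinset _
  have hunion : sx.biUnion id = Finset.powersetCard 4 (Finset.univ : Finset ι) := by
    ext t
    rw [Finset.mem_biUnion, Finset.mem_powersetCard]
    constructor
    · rintro ⟨S, hS, htS⟩
      exact ⟨Finset.subset_univ _, ((hmem S).mp hS).2.1 t htS⟩
    · rintro ⟨-, ht⟩
      obtain ⟨S, ⟨hS, htS⟩, -⟩ := g24_sextet_existsUnique hι C hdim hmin t ht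
      exact ⟨S, (hmem S).mpr hS, htS⟩
  have hdisj : ∀ S ∈ sx, ∀ S' ∈ sx, S ≠ S' → Disjoint (id S) (id S') := by
    intro S hS S' hS' hne
    rw [Finset.disjoint_left]
    intro t htS htS'
    apply hne
    have ht : t.card = 4 := ((hmem S).mp hS).2.1 t htS
    exact (g24_sextet_existsUnique hι C hdim hmin t ht).unique
      ⟨(hmem S).mp hS, htS⟩ ⟨(hmem S').mp hS', htS'⟩
  have hcard := Finset.card_biUnion hdisj
  rw [hunion, Finset.card_powersetCard, Finset.card_univ, hι] at hcard
  have h6 : ∀ S ∈ sx, (id S).card = 6 := fun S hS => ((hmem S).mp hS).1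
  rw [Finset.sum_congr rfl h6, Finset.sum_const, smul_eq_mul] at hcard
  have hch : Nat.choose 24 4 = 10626 := by decide
  rw [hch] at hcard
  have hfin : (sextetsOf C).ncard = sx.card :=
    Set.ncard_eq_toFinset_card (sextetsOf C) (Set.toFinite _)
  omega

end Code

end Cfsg.Agent.Lib.Helper95
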