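import Cfsg.Agent.Lib.Helper95.SextetTripleTrans
import Cfsg.Agent.Lib.Helper10.M12c

set_option autoImplicit false

/-! Seven-point transitivity of the group of the length-24 code along helper10's base, and the
orders of pointwise stabilisers of six points. -/

namespace Cfsg.Agent.Lib.Helper95

open Cfsg MulAction
open scoped Pointwise
open Cfsg.Agent.Lib.Helper10

theorem octads_steiner' : Cfsg.IsSteinerSystem 5 8 Cfsg.octads :=
  g24_isSteinerSystem golayPt_card Cfsg.golayCode golayCode_finrank golayCode_hmin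

/-- the octad through five distinct points. -/
theorem exists_octad_five (p0 p1 p2 p3 p4 : GolayPt) (h : [p0, p1, p2, p3, p4].Nodup) :
    ∃ o ∈ Cfsg.octads, p0 ∈ o ∧ p1 ∈ o ∧ p2 ∈ o ∧ p3 ∈ o ∧ p4 ∈ o := by
  have hc : ({p0, p1, p2, p3, p4} : Finset GolayPt).card = 5 := by
    have := List.toFinset_card_of_nodup h
    simpa using this
  obtain ⟨o, ⟨ho, hsub⟩, -⟩ := octads_steiner'.2 _ hc
  refine ⟨o, ho, hsub (by simp), hsub (by simp), hsub (by simp), hsub (by simp), hsub (by simp)⟩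

theorem smul_octO_eq {k : Equiv.Perm GolayPt} (hk : k ∈ M24) {p0 p1 p2 p3 p4 : GolayPt}
    (h : [p0, p1, p2, p3, p4].Nodup)
    (e0 : k (bpt 0) = p0) (e1 : k (bpt 1) = p1) (e2 : k (bpt 2) = p2) (e3 : k (bpt 3) = p3)
    (e4 : k (bpt 4) = p4)
    {o : Finset GolayPt} (ho : o ∈ Cfsg.octads) (h0 : p0 ∈ o) (h1 : p1 ∈ o) (h2 : p2 ∈ o)
    (h3 : p3 ∈ o) (h4 : p4 ∈ o) : k • fs octO = o := by
  apply octads_inter_le (smul_mem_octads hk fs_octO_mem) ho
  have hsub : ({p0, p1, p2, p3, p4} : Finset GolayPt) ⊆ k • fs octO ∩ o := by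
    intro x hx
    simp only [Finset.mem_insert, Finset.mem_singleton] at hx
    rw [Finset.mem_inter]
    rcases hx with rfl | rfl | rfl | rfl | rfl
    · exact ⟨by rw [← e0]; exact Finset.smul_mem_smul_finset (bpt_mem_octO 0 (by omega)), h0⟩
    · exact ⟨by rw [← e1]; exact Finset.smul_mem_smul_finset (bpt_mem_octO 1 (by omega)), h1⟩
    · exact ⟨by rw [← e2]; exact Finset.smul_mem_smul_finset (bpt_mem_octO 2 (by omega)), h2⟩
    · exact ⟨by rw [← e3]; exact Finset.smul_mem_smul_finset (bpt_mem_octO 3 (by omega)), h3⟩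
    · exact ⟨by rw [← e4]; exact Finset.smul_mem_smul_finset (bpt_mem_octO 4 (by omega)), h4⟩
  have hc : ({p0, p1, p2, p3, p4} : Finset GolayPt).card = 5 := by
    have := List.toFinset_card_of_nodup h
    simpa using this
  rw [← hc]
  exact Finset.card_le_card hsub

/-- Five distinct points of an octad, a point off the octad and a further point of the octad
can be reached from the seven base points. -/
theorem exists_seven (p0 p1 p2 p3 p4 p5 p6 : GolayPt) (h : [p0, p1, p2, p3, p4].Nodup)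
    (o : Finset GolayPt) (ho : o ∈ Cfsg.octads) (h0 : p0 ∈ o) (h1 : p1 ∈ o) (h2 : p2 ∈ o)
    (h3 : p3 ∈ o) (h4 : p4 ∈ o) (h5 : p5 ∉ o) (h6 : p6 ∈ o)
    (hne : p6 ≠ p0 ∧ p6 ≠ p1 ∧ p6 ≠ p2 ∧ p6 ≠ p3 ∧ p6 ≠ p4) :
    ∃ k ∈ M24, k (bpt 0) = p0 ∧ k (bpt 1) = p1 ∧ k (bpt 2) = p2 ∧ k (bpt 3) = p3 ∧
      k (bpt 4) = p4 ∧ k (bpt 5) = p5 ∧ k (bpt 6) = p6 := by
  obtain ⟨k, hk, e0, e1, e2, e3, e4, e5⟩ := exists_six p0 p1 p2 p3 p4 p5 h o ho h0 h1 h2 h3 h4 h5
  have hko : k • fs octO = o := smul_octO_eq hk h e0 e1 e2 e3 e4 ho h0 h1 h2 h3 h4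
  have hmem : k⁻¹ p6 ∈ fs octO := by
    rw [← hko] at h6
    obtain ⟨y, hy, hy'⟩ := Finset.mem_smul_finset.mp h6
    have : k⁻¹ p6 = y := by
      rw [← hy']; simp
    rw [this]; exact hy
  have hok : okTarget 6 (idx (k⁻¹ p6)) = true := by
    apply target6 ⟨idx (k⁻¹ p6), idx_lt _⟩
    · rw [mem_fs] at hmem; exact hmem
    · intro i hi
      have hb : k⁻¹ p6 = bpt i := by
        show k⁻¹ p6 = pt (base.getD i 0)
        rw [← hi, pt_idx]
      have hp : p6 = k (bpt i) := by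
        rw [← hb]; simp
      obtain ⟨n0, n1, n2, n3, n4⟩ := hne
      have hi5 := i.isLt
      have : (i : ℕ) = 0 ∨ (i : ℕ) = 1 ∨ (i : ℕ) = 2 ∨ (i : ℕ) = 3 ∨ (i : ℕ) = 4 := by omega
      rcases this with h | h | h | h | h <;> rw [h] at hp
      · exact n0 (hp.trans e0)
      · exact n1 (hp.trans e1)
      · exact n2 (hp.trans e2)
      · exact n3 (hp.trans e3)
      · exact n4 (hp.trans e4)
  obtain ⟨u, hu, hu1, hu2⟩ := level 6 (by decide) (k⁻¹ p6) hok
  refine ⟨k * u, M24.mul_mem hk (H_le_M24 hu), ?_, ?_, ?_, ?_, ?_, ?_, ?_⟩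
  · show k (u (bpt 0)) = p0
    rw [hu1 0 (by omega), e0]
  · show k (u (bpt 1)) = p1
    rw [hu1 1 (by omega), e1]
  · show k (u (bpt 2)) = p2
    rw [hu1 2 (by omega), e2]
  · show k (u (bpt 3)) = p3
    rw [hu1 3 (by omega), e3]
  · show k (u (bpt 4)) = p4
    rw [hu1 4 (by omega), e4]
  · show k (u (bpt 5)) = p5
    rw [hu1 5 (by omega), e5]
  · show k (u (bpt 6)) = p6
    rw [hu2]
    simp

/-! ### conjugating pointwise stabilisers -/

theorem card_fixL_map {k : Equiv.Perm GolayPt} (hk : k ∈ M24) (bs : List GolayPt) :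
    Nat.card (fixL M24 (bs.map k)) = Nat.card (fixL M24 bs) := by
  apply Nat.card_congr
  refine ⟨fun g => ⟨k⁻¹ * g.1 * k, ?_⟩, fun g => ⟨k * g.1 * k⁻¹, ?_⟩, ?_, ?_⟩
  · have hg := (mem_fixL M24 _ g.1).mp g.2
    rw [mem_fixL]
    refine ⟨M24.mul_mem (M24.mul_mem (M24.inv_mem hk) hg.1) hk, ?_⟩
    intro b hb
    show k⁻¹ (g.1 (k b)) = b
    rw [hg.2 (k b) (List.mem_map.mpr ⟨b, hb, rfl⟩)]
    simp
  · have hg := (mem_fixL M24 _ g.1).mp g.2
    rw [mem_fixL]
    refine ⟨M24.mul_mem (M24.mul_mem hk hg.1) (M24.inv_mem hk), ?_⟩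
    intro b hb
    obtain ⟨b0, hb0, rfl⟩ := List.mem_map.mp hb
    show k (g.1 (k⁻¹ (k b0))) = k b0
    have : k⁻¹ (k b0) = b0 := by simp
    rw [this, hg.2 b0 hb0]
  · intro g
    apply Subtype.ext
    show k * (k⁻¹ * g.1 * k) * k⁻¹ = g.1
    group
  · intro g
    apply Subtype.ext
    show k⁻¹ * (k * g.1 * k⁻¹) * k = g.1
    group

theorem card_chain5 : Nat.card (chain M24 5) = 48 := by
  have h5 := chain_step M24 H_le_M24 le_rfl 5 (by decide)
  have h6 := chain_step M24 H_le_M24 le_rfl 6 (by decide)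
  have h7 : Nat.card (chain M24 7) = 1 := by
    rw [chain_seven M24 le_rfl]; exact Subgroup.card_bot
  simp only [List.getD_cons_zero, List.getD_cons_succ] at h5 h6
  rw [h5, h6, h7]

theorem card_chain6 : Nat.card (chain M24 6) = 3 := by
  have h6 := chain_step M24 H_le_M24 le_rfl 6 (by decide)
  have h7 : Nat.card (chain M24 7) = 1 := by
    rw [chain_seven M24 le_rfl]; exact Subgroup.card_bot
  simp only [List.getD_cons_zero, List.getD_cons_succ] at h6
  rw [h6, h7]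

/-- the stabiliser of the first five base points and the seventh has order 16. -/
theorem card_chain5_stab6 :
    Nat.card ↥(chain M24 5 ⊓ stabilizer (Equiv.Perm GolayPt) (bpt 6)) = 16 := by
  have h := card_eq_orbit_mul (chain M24 5) (bpt 6) (targets 6) ?_ ?_
  · rw [card_chain5, card_targets 6 (by decide)] at h
    simp only [List.getD_cons_zero, List.getD_cons_succ] at h
    omega
  · intro σ hσ
    rw [mem_chain] at hσ
    rw [mem_targets]
    have hP := pres_octO hσ.1 hσ.2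
    have hPk := hP (bpt 6)
    apply target6 ⟨idx (σ (bpt 6)), idx_lt _⟩
    · show octO.testBit (idx (σ (bpt 6))) = true
      rw [hPk]
      unfold bpt
      rw [idx_pt (base_lt ⟨6, by decide⟩), bpt6_mem]
    · intro i e
      have h1 : σ (bpt 6) = bpt i := by
        show σ (bpt 6) = pt (base.getD i 0)
        rw [← e, pt_idx]
      rw [← hσ.2 i i.isLt] at h1
      have := bpt_injective (by decide) (by have := i.isLt; omega) (σ.injective h1)
      have := i.isLt
      omega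
  · intro c hc
    rw [mem_targets] at hc
    obtain ⟨u, hu, hu1, hu2⟩ := level 6 (by decide) c hc
    refine ⟨u, ?_, hu2⟩
    rw [mem_chain]
    exact ⟨H_le_M24 hu, fun i hi => hu1 i (by omega)⟩

theorem fixL_base6 : fixL M24 [bpt 0, bpt 1, bpt 2, bpt 3, bpt 4, bpt 5] = chain M24 6 := by
  ext σ
  rw [mem_fixL, mem_chain]
  constructor
  · rintro ⟨h1, h2⟩
    refine ⟨h1, fun i hi => ?_⟩
    apply h2
    have : i = 0 ∨ i = 1 ∨ i = 2 ∨ i = 3 ∨ i = 4 ∨ i = 5 := by omega
    rcases this with rfl | rfl | rfl | rfl | rfl | rfl <;> simp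
  · rintro ⟨h1, h2⟩
    refine ⟨h1, fun b hb => ?_⟩
    simp only [List.mem_cons, List.not_mem_nil, or_false] at hb
    rcases hb with rfl | rfl | rfl | rfl | rfl | rfl
    · exact h2 0 (by omega)
    · exact h2 1 (by omega)
    · exact h2 2 (by omega)
    · exact h2 3 (by omega)
    · exact h2 4 (by omega)
    · exact h2 5 (by omega)

theorem fixL_base5_6 : fixL M24 [bpt 0, bpt 1, bpt 2, bpt 3, bpt 4, bpt 6] =
    chain M24 5 ⊓ stabilizer (Equiv.Perm GolayPt) (bpt 6) := by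
  ext σ
  rw [mem_fixL, Subgroup.mem_inf, mem_chain, mem_stabilizer_iff]
  constructor
  · rintro ⟨h1, h2⟩
    refine ⟨⟨h1, fun i hi => ?_⟩, h2 _ (by simp)⟩
    apply h2
    have : i = 0 ∨ i = 1 ∨ i = 2 ∨ i = 3 ∨ i = 4 := by omega
    rcases this with rfl | rfl | rfl | rfl | rfl <;> simp
  · rintro ⟨⟨h1, h2⟩, h3⟩
    refine ⟨h1, fun b hb => ?_⟩
    simp only [List.mem_cons, List.not_mem_nil, or_false] at hb
    rcases hb with rfl | rfl | rfl | rfl | rfl | rfl
    · exact h2 0 (by omega)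
    · exact h2 1 (by omega)
    · exact h2 2 (by omega)
    · exact h2 3 (by omega)
    · exact h2 4 (by omega)
    · exact h3

end Cfsg.Agent.Lib.Helper95
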