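import Mathlib
import Cfsg.Agent.Lib.Helper95.GolayCodeCount

set_option autoImplicit false
set_option linter.unusedSectionVars false
set_option linter.unusedVariables false

/-! Octads against a fixed dodecad, for a 12-dimensional self-orthogonal binary code of length 24
with minimum weight at least 8 containing the all-ones word: 132 octads meet the dodecad in
6 points, 132 in 2 points and 495 in 4 points. -/

namespace Cfsg.Agent.Lib.Helper95

open Cfsg.Agent.Lib.Helper09

variable {α : Type*} [Fintype α] [DecidableEq α]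

/-- Double counting of (`i`-subset of `d`, block containing it). -/
theorem sum_choose_inter_any (B : Set (Finset α)) (d : Finset α) (i L : ℕ)
    (hL : ∀ I : Finset α, I.card = i → ((blocks B).filter (I ⊆ ·)).card = L) :
    ∑ c ∈ blocks B, Nat.choose (d ∩ c).card i = Nat.choose d.card i * L := by
  classical
  have h1 : ∀ c ∈ blocks B, Nat.choose (d ∩ c).card i
      = ∑ I ∈ Finset.powersetCard i d, if I ⊆ c then 1 else 0 := by
    intro c _
    rw [← Finset.card_powersetCard, ← Finset.card_filter]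
    congr 1
    ext I
    simp only [Finset.mem_powersetCard, Finset.mem_filter, Finset.subset_inter_iff]
    tauto
  rw [Finset.sum_congr rfl h1, Finset.sum_comm]
  have h2 : ∀ I ∈ Finset.powersetCard i d, (∑ c ∈ blocks B, if I ⊆ c then 1 else 0) = L := by
    intro I hI
    rw [Finset.mem_powersetCard] at hI
    rw [← Finset.card_filter, hL I hI.2]
  rw [Finset.sum_congr rfl h2, Finset.sum_const, Finset.card_powersetCard, smul_eq_mul]

variable {ι : Type*} [Fintype ι] [DecidableEq ι]

section Code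

variable (hι : Fintype.card ι = 24) (C : Submodule (ZMod 2) (ι → ZMod 2))
  (hdim : Module.finrank (ZMod 2) C = 12)
  (hmin : ∀ w ∈ C, w ≠ 0 → 8 ≤ hammingNorm w)
  (horth : ∀ v ∈ C, ∀ w ∈ C, ∑ i, v i * w i = 0) (hone : (1 : ι → ZMod 2) ∈ C)

lemma mem_wordsOfWeight_iff (k : ℕ) (b : Finset ι) :
    b ∈ Cfsg.wordsOfWeight (C : Set (ι → ZMod 2)) k ↔ ∃ c ∈ C, bsupp c = b ∧ hammingNorm c = k := by
  constructor
  · rintro ⟨⟨c, hc, rfl⟩, hk⟩
    rw [support₂_eq_bsupp] at hk ⊢
    exact ⟨c, hc, rfl, by rw [hammingNorm_eq_card_bsupp, hk]⟩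
  · rintro ⟨c, hc, rfl, hk⟩
    refine ⟨⟨c, hc, support₂_eq_bsupp c⟩, ?_⟩
    rw [← hammingNorm_eq_card_bsupp, hk]

include hι hdim hmin horth hone in
/-- A weight-8 word meets a weight-12 word in 2, 4 or 6 points. -/
lemma g24_octad_inter_dodecad (c w : ι → ZMod 2) (hc : c ∈ C) (hw : w ∈ C)
    (hc8 : hammingNorm c = 8) (hw12 : hammingNorm w = 12) :
    (bsupp c ∩ bsupp w).card = 2 ∨ (bsupp c ∩ bsupp w).card = 4 ∨ (bsupp c ∩ bsupp w).card = 6 := by
  have hadd := hammingNorm_add_zmod2 c w
  have hwt := g24_weights hι C hdim hmin horth hone (c + w) (C.add_mem hc hw)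
  have hle : (bsupp c ∩ bsupp w).card ≤ 8 := by
    have := Finset.card_le_card (Finset.inter_subset_left (s₁ := bsupp c) (s₂ := bsupp w))
    rw [← hammingNorm_eq_card_bsupp, hc8] at this
    exact this
  omega

include hι hdim hmin horth hone in
theorem g24_octads_vs_dodecad (d : Finset ι)
    (hd : d ∈ Cfsg.wordsOfWeight (C : Set (ι → ZMod 2)) 12) :
    {o : Finset ι | o ∈ Cfsg.wordsOfWeight (C : Set (ι → ZMod 2)) 8 ∧ (o ∩ d).card = 6}.ncard = 132 ∧
    {o : Finset ι | o ∈ Cfsg.wordsOfWeight (C : Set (ι → ZMod 2)) 8 ∧ (o ∩ d).card = 2}.ncard = 132 ∧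
    {o : Finset ι | o ∈ Cfsg.wordsOfWeight (C : Set (ι → ZMod 2)) 8 ∧ (o ∩ d).card = 4}.ncard = 495 := by
  classical
  obtain ⟨w, hw, rfl, hw12⟩ := (mem_wordsOfWeight_iff C 12 d).mp hd
  have hS := g24_isSteinerSystem hι C hdim hmin
  set B := Cfsg.wordsOfWeight (C : Set (ι → ZMod 2)) 8 with hB
  set n : ℕ → ℕ := fun k => ((blocks B).filter (fun o => (bsupp w ∩ o).card = k)).card with hn
  have hset : ∀ k, {o : Finset ι | o ∈ B ∧ (o ∩ bsupp w).card = k}.ncard = n k := by
    intro k
    show _ = ((blocks B).filter (fun o => (bsupp w ∩ o).card = k)).card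
    rw [← Set.ncard_coe_finset]
    congr 1
    ext o
    simp only [Set.mem_ofPred_eq, Finset.coe_filter, mem_blocks, Finset.inter_comm]
  have hmaps : ∀ o ∈ blocks B, (bsupp w ∩ o).card ∈ ({2, 4, 6} : Finset ℕ) := by
    intro o ho
    rw [mem_blocks] at ho
    obtain ⟨c, hc, rfl, hc8⟩ := (mem_wordsOfWeight_iff C 8 o).mp ho
    have := g24_octad_inter_dodecad hι C hdim hmin horth hone c w hc hw hc8 hw12
    rw [Finset.inter_comm] at this
    simp only [Finset.mem_insert, Finset.mem_singleton]
    exact this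
  have hsum : ∀ i : ℕ, ∑ o ∈ blocks B, Nat.choose (bsupp w ∩ o).card i
      = n 2 * Nat.choose 2 i + n 4 * Nat.choose 4 i + n 6 * Nat.choose 6 i := by
    intro i
    rw [← Finset.sum_fiberwise_of_maps_to hmaps]
    have : ∀ k ∈ ({2, 4, 6} : Finset ℕ),
        ∑ o ∈ (blocks B).filter (fun o => (bsupp w ∩ o).card = k), Nat.choose (bsupp w ∩ o).card i
          = n k * Nat.choose k i := by
      intro k _
      have h1 : ∀ o ∈ (blocks B).filter (fun o => (bsupp w ∩ o).card = k),
          Nat.choose (bsupp w ∩ o).card i = Nat.choose k i := by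
        intro o ho
        rw [(Finset.mem_filter.mp ho).2]
      rw [Finset.sum_congr rfl h1, Finset.sum_const, smul_eq_mul]
    rw [Finset.sum_congr rfl this]
    simp [Finset.sum_insert, add_assoc]
  have hd12 : (bsupp w).card = 12 := by rw [← hammingNorm_eq_card_bsupp, hw12]
  have e0 := sum_choose_inter_any B (bsupp w) 0 759
    (card_blocks_through_eq hS 0 759 (by norm_num) (by decide) (by rw [hι]; decide))
  have e1 := sum_choose_inter_any B (bsupp w) 1 253
    (card_blocks_through_eq hS 1 253 (by norm_num) (by decide) (by rw [hι]; decide))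
  have e2 := sum_choose_inter_any B (bsupp w) 2 77
    (card_blocks_through_eq hS 2 77 (by norm_num) (by decide) (by rw [hι]; decide))
  rw [hsum, hd12] at e0 e1 e2
  have c1 : Nat.choose 12 2 = 66 := by decide
  have c2 : Nat.choose 4 2 = 6 := by decide
  have c3 : Nat.choose 6 2 = 15 := by decide
  simp only [Nat.choose_zero_right, Nat.choose_one_right, Nat.choose_self, c1, c2, c3] at e0 e1 e2
  rw [hset, hset, hset]
  refine ⟨?_, ?_, ?_⟩ <;> omega

end Code

end Cfsg.Agent.Lib.Helper95
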