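import Mathlib
import Cfsg.Agent.Lib.Helper09.Steiner

set_option autoImplicit false
set_option linter.unusedSectionVars false
set_option linter.unusedVariables false

/-! The "Leech triangle" recursion for a family of blocks: the number of blocks meeting a fixed
block `b` exactly in a given subset `s ⊆ b` is determined, by downward recursion on `|s|`, by
the numbers of blocks through the subsets of `b`. -/

namespace Cfsg.Agent.Lib.Helper95

open Cfsg.Agent.Lib.Helper09

variable {α : Type*} [Fintype α] [DecidableEq α]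

/-- The number of blocks meeting `b` exactly in `s`. -/
noncomputable def meetCount (B : Set (Finset α)) (b s : Finset α) : ℕ :=
  ((blocks B).filter (fun c => b ∩ c = s)).card

lemma ncard_eq_meetCount (B : Set (Finset α)) (b s : Finset α) :
    {c : Finset α | c ∈ B ∧ b ∩ c = s}.ncard = meetCount B b s := by
  classical
  unfold meetCount
  rw [← Set.ncard_coe_finset]
  congr 1
  ext c
  simp only [Set.mem_ofPred_eq, Finset.coe_filter, mem_blocks]

lemma meetCount_pos_of_mem (B : Set (Finset α)) (b c : Finset α) (hc : c ∈ B) :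
    0 < meetCount B b (b ∩ c) := by
  unfold meetCount
  rw [Finset.card_pos]
  exact ⟨c, Finset.mem_filter.mpr ⟨mem_blocks.mpr hc, rfl⟩⟩

/-- One step of the recursion. -/
theorem leech_step (B : Set (Finset α)) (b s : Finset α) (hsb : s ⊆ b) (L : ℕ)
    (hL : ((blocks B).filter (s ⊆ ·)).card = L) (g : ℕ → ℕ)
    (hg : ∀ s' : Finset α, s ⊆ s' → s' ⊆ b → s' ≠ s → meetCount B b s' = g s'.card) :
    meetCount B b s
      + ∑ j ∈ Finset.Ioc s.card b.card, Nat.choose (b.card - s.card) (j - s.card) * g j = L := by
  classical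
  set F := (blocks B).filter (s ⊆ ·) with hF
  set P := b.powerset.filter (s ⊆ ·) with hP
  have hmaps : ∀ c ∈ F, b ∩ c ∈ P := by
    intro c hc
    rw [hF, Finset.mem_filter] at hc
    rw [hP, Finset.mem_filter, Finset.mem_powerset]
    exact ⟨Finset.inter_subset_left, Finset.subset_inter hsb hc.2⟩
  have h1 := Finset.card_eq_sum_card_fiberwise hmaps
  have h2 : ∀ s' ∈ P, (F.filter (fun c => b ∩ c = s')).card = meetCount B b s' := by
    intro s' hs'
    rw [hP, Finset.mem_filter] at hs'
    unfold meetCount
    congr 1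
    ext c
    simp only [hF, Finset.mem_filter]
    constructor
    · rintro ⟨⟨hc, _⟩, h⟩
      exact ⟨hc, h⟩
    · rintro ⟨hc, h⟩
      refine ⟨⟨hc, ?_⟩, h⟩
      have := hs'.2
      rw [← h] at this
      exact this.trans Finset.inter_subset_right
  rw [Finset.sum_congr rfl h2, hL] at h1
  have hsP : s ∈ P := by
    rw [hP, Finset.mem_filter, Finset.mem_powerset]
    exact ⟨hsb, subset_rfl⟩
  rw [← Finset.add_sum_erase P _ hsP] at h1
  have h3 : ∀ s' ∈ P.erase s, meetCount B b s' = g s'.card := by
    intro s' hs'
    rw [Finset.mem_erase, hP, Finset.mem_filter, Finset.mem_powerset] at hs'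
    exact hg s' hs'.2.2 hs'.2.1 hs'.1
  rw [Finset.sum_congr rfl h3] at h1
  have hmaps2 : ∀ s' ∈ P.erase s, s'.card ∈ Finset.Ioc s.card b.card := by
    intro s' hs'
    rw [Finset.mem_erase, hP, Finset.mem_filter, Finset.mem_powerset] at hs'
    rw [Finset.mem_Ioc]
    refine ⟨?_, Finset.card_le_card hs'.2.1⟩
    exact Finset.card_lt_card (Finset.ssubset_iff_subset_ne.mpr ⟨hs'.2.2, Ne.symm hs'.1⟩)
  rw [← Finset.sum_fiberwise_of_maps_to hmaps2] at h1
  have h4 : ∀ j ∈ Finset.Ioc s.card b.card,
      ∑ s' ∈ (P.erase s).filter (fun s' => s'.card = j), g s'.card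
        = Nat.choose (b.card - s.card) (j - s.card) * g j := by
    intro j hj
    rw [Finset.mem_Ioc] at hj
    have : ∀ s' ∈ (P.erase s).filter (fun s' => s'.card = j), g s'.card = g j := by
      intro s' hs'
      rw [(Finset.mem_filter.mp hs').2]
    rw [Finset.sum_congr rfl this, Finset.sum_const, smul_eq_mul]
    congr 1
    rw [← Finset.card_filter_powersetCard_subset s b j hsb hj.1.le]
    congr 1
    ext s'
    simp only [hP, Finset.mem_filter, Finset.mem_erase, Finset.mem_powerset,
      Finset.mem_powersetCard]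
    constructor
    · rintro ⟨⟨_, h1, h2⟩, h3⟩
      exact ⟨⟨h1, h3⟩, h2⟩
    · rintro ⟨⟨h1, h3⟩, h2⟩
      refine ⟨⟨?_, h1, h2⟩, h3⟩
      rintro rfl
      omega
  rw [Finset.sum_congr rfl h4] at h1
  exact h1.symm

/-- The whole table, by downward recursion. -/
theorem leech_table (B : Set (Finset α)) (b : Finset α) (lam G : ℕ → ℕ)
    (hlam : ∀ s : Finset α, s ⊆ b → ((blocks B).filter (s ⊆ ·)).card = lam s.card)
    (hG : ∀ i ≤ b.card,
      G i + ∑ j ∈ Finset.Ioc i b.card, Nat.choose (b.card - i) (j - i) * G j = lam i) :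
    ∀ s : Finset α, s ⊆ b → meetCount B b s = G s.card := by
  have key : ∀ n : ℕ, ∀ s : Finset α, s ⊆ b → b.card - s.card = n → meetCount B b s = G s.card := by
    intro n
    induction n using Nat.strong_induction_on with
    | _ n ih =>
      intro s hsb hn
      have hle : s.card ≤ b.card := Finset.card_le_card hsb
      have hstep := leech_step B b s hsb (lam s.card) (hlam s hsb) G (by
        intro s' hss' hs'b hne
        have hlt : s.card < s'.card :=
          Finset.card_lt_card (Finset.ssubset_iff_subset_ne.mpr ⟨hss', Ne.symm hne⟩)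
        have hle' : s'.card ≤ b.card := Finset.card_le_card hs'b
        exact ih (b.card - s'.card) (by omega) s' hs'b rfl)
      have := hG s.card hle
      omega
  intro s hsb
  exact key _ s hsb rfl

variable {t k : ℕ} {B : Set (Finset α)}

/-- Through a subset of a block with at least `t` points there passes only that block. -/
theorem blocks_through_of_le (hB : Cfsg.IsSteinerSystem t k B) {b : Finset α} (hb : b ∈ B)
    (s : Finset α) (hsb : s ⊆ b) (h : t ≤ s.card) :
    ((blocks B).filter (s ⊆ ·)).card = 1 := by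
  rw [Finset.card_eq_one]
  refine ⟨b, ?_⟩
  ext c
  rw [Finset.mem_filter, mem_blocks, Finset.mem_singleton]
  constructor
  · rintro ⟨hc, hsc⟩
    obtain ⟨u, hu, hut⟩ := Finset.exists_subset_card_eq h
    exact block_eq_of_subset hB hut hc hb (hu.trans hsc) (hu.trans hsb)
  · rintro rfl
    exact ⟨hb, hsb⟩

end Cfsg.Agent.Lib.Helper95
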