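import Mathlib
import Cfsg.Prelude.Def_SporadicCombinatorics
import Cfsg.Agent.S0385
import Cfsg.Agent.S1595
import Cfsg.Agent.Lib.Helper95.GolayDodecad
import Cfsg.Agent.Lib.Helper95.GolayConcrete

set_option autoImplicit false
set_option linter.unusedSectionVars false
set_option linter.unusedVariables false

/-! Hexads on a dodecad of `Cfsg.golayCode`: complements, symmetric differences, existence of a
hexad meeting a given hexad exactly in a given triple. -/

namespace Cfsg.Agent.Lib.Helper95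

theorem octads_iff (o : Finset Cfsg.GolayPt) :
    o ∈ Cfsg.octads ↔ ∃ c ∈ Cfsg.golayCode, bsupp c = o ∧ hammingNorm c = 8 :=
  mem_wordsOfWeight_iff Cfsg.golayCode 8 o

theorem dodecads_iff (d : Finset Cfsg.GolayPt) :
    d ∈ Cfsg.dodecads ↔ ∃ c ∈ Cfsg.golayCode, bsupp c = d ∧ hammingNorm c = 12 :=
  mem_wordsOfWeight_iff Cfsg.golayCode 12 d

theorem golay_weights (c : Cfsg.GolayPt → ZMod 2) (hc : c ∈ Cfsg.golayCode) :
    hammingNorm c = 0 ∨ hammingNorm c = 8 ∨ hammingNorm c = 12 ∨ hammingNorm c = 16 ∨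
      hammingNorm c = 24 :=
  g24_weights golayPt_card Cfsg.golayCode golayCode_finrank golayCode_hmin golayCode_horth
    golayCode_one_mem c hc

/-- Two distinct octads meet in at most four points. -/
theorem octads_inter_le {o o' : Finset Cfsg.GolayPt} (ho : o ∈ Cfsg.octads)
    (ho' : o' ∈ Cfsg.octads) (h5 : 5 ≤ (o ∩ o').card) : o = o' := by
  obtain ⟨c, hc, rfl, hc8⟩ := (octads_iff o).mp ho
  obtain ⟨c', hc', rfl, hc8'⟩ := (octads_iff o').mp ho'
  have hadd := hammingNorm_add_zmod2 c c'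
  have hw := golay_weights (c + c') (Cfsg.golayCode.add_mem hc hc')
  have h0 : hammingNorm (c + c') = 0 := by omega
  rw [hammingNorm_eq_zero] at h0
  have : c = c' := by
    have h1 : c = c + (c' + c') := by rw [add_self_zmod2, add_zero]
    rw [h1, ← add_assoc, h0, zero_add]
  rw [this]

/-- If two octads meet in exactly four points, their symmetric difference is an octad. -/
theorem octads_symmDiff {o o' : Finset Cfsg.GolayPt} (ho : o ∈ Cfsg.octads)
    (ho' : o' ∈ Cfsg.octads) (h4 : (o ∩ o').card = 4) : symmDiff o o' ∈ Cfsg.octads := by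
  obtain ⟨c, hc, rfl, hc8⟩ := (octads_iff o).mp ho
  obtain ⟨c', hc', rfl, hc8'⟩ := (octads_iff o').mp ho'
  rw [octads_iff]
  refine ⟨c + c', Cfsg.golayCode.add_mem hc hc', bsupp_add c c', ?_⟩
  have hadd := hammingNorm_add_zmod2 c c'
  omega

/-- Two distinct octads sharing at least three points share exactly four. -/
theorem octads_inter_eq_four {o o' : Finset Cfsg.GolayPt} (ho : o ∈ Cfsg.octads)
    (ho' : o' ∈ Cfsg.octads) (hne : o ≠ o') (h3 : 3 ≤ (o ∩ o').card) : (o ∩ o').card = 4 := by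
  have h5 : ¬ 5 ≤ (o ∩ o').card := fun h => hne (octads_inter_le ho ho' h)
  obtain ⟨c, hc, rfl, hc8⟩ := (octads_iff o).mp ho
  obtain ⟨c', hc', rfl, hc8'⟩ := (octads_iff o').mp ho'
  have hadd := hammingNorm_add_zmod2 c c'
  have hw := golay_weights (c + c') (Cfsg.golayCode.add_mem hc hc')
  omega

/-- The symmetric difference of an octad meeting a dodecad in six points with that dodecad. -/
theorem octad_symmDiff_dodecad {o d : Finset Cfsg.GolayPt} (ho : o ∈ Cfsg.octads)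
    (hd : d ∈ Cfsg.dodecads) (h6 : (o ∩ d).card = 6) : symmDiff o d ∈ Cfsg.octads := by
  obtain ⟨c, hc, rfl, hc8⟩ := (octads_iff o).mp ho
  obtain ⟨w, hw, rfl, hw12⟩ := (dodecads_iff d).mp hd
  rw [octads_iff]
  refine ⟨c + w, Cfsg.golayCode.add_mem hc hw, bsupp_add c w, ?_⟩
  have hadd := hammingNorm_add_zmod2 c w
  omega

theorem mem_hexadsOn {d h : Finset Cfsg.GolayPt} :
    h ∈ Cfsg.hexadsOn d ↔ h.card = 6 ∧ ∃ o ∈ Cfsg.octads, o ∩ d = h := Iff.rfl

theorem hexad_subset {d h : Finset Cfsg.GolayPt} (hh : h ∈ Cfsg.hexadsOn d) : h ⊆ d := by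
  obtain ⟨-, o, -, rfl⟩ := hh
  exact Finset.inter_subset_right

/-- The complement in the dodecad of a hexad is a hexad. -/
theorem hexad_compl {d h : Finset Cfsg.GolayPt} (hd : d ∈ Cfsg.dodecads)
    (hh : h ∈ Cfsg.hexadsOn d) : d \ h ∈ Cfsg.hexadsOn d := by
  obtain ⟨h6, o, ho, rfl⟩ := hh
  have hd12 : d.card = 12 := hd.2
  refine ⟨?_, symmDiff o d, octad_symmDiff_dodecad ho hd h6, ?_⟩
  · rw [Finset.card_sdiff_of_subset Finset.inter_subset_right, hd12, h6]
  · ext x
    rw [Finset.mem_inter, Finset.mem_symmDiff, Finset.mem_sdiff, Finset.mem_inter]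
    tauto

/-- Two hexads sharing at least five points coincide. -/
theorem hexad_eq_of_inter {d h h' : Finset Cfsg.GolayPt} (hh : h ∈ Cfsg.hexadsOn d)
    (hh' : h' ∈ Cfsg.hexadsOn d) (h5 : 5 ≤ (h ∩ h').card) : h = h' := by
  obtain ⟨-, o, ho, rfl⟩ := hh
  obtain ⟨-, o', ho', rfl⟩ := hh'
  have : o = o' := by
    apply octads_inter_le ho ho'
    refine le_trans h5 (Finset.card_le_card ?_)
    intro x hx
    rw [Finset.mem_inter, Finset.mem_inter, Finset.mem_inter] at hx
    exact Finset.mem_inter.mpr ⟨hx.1.1, hx.2.1⟩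
  rw [this]

/-- If two hexads meet in exactly three points, their symmetric difference is a hexad. -/
theorem hexad_symmDiff {d h h' : Finset Cfsg.GolayPt} (hh : h ∈ Cfsg.hexadsOn d)
    (hh' : h' ∈ Cfsg.hexadsOn d) (h3 : (h ∩ h').card = 3) : symmDiff h h' ∈ Cfsg.hexadsOn d := by
  obtain ⟨h6, o, ho, rfl⟩ := hh
  obtain ⟨h6', o', ho', rfl⟩ := hh'
  have hne : o ≠ o' := by
    rintro rfl
    rw [Finset.inter_self, h6] at h3
    omega
  have hsub : (o ∩ d) ∩ (o' ∩ d) ⊆ o ∩ o' := by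
    intro x hx
    rw [Finset.mem_inter, Finset.mem_inter, Finset.mem_inter] at hx
    exact Finset.mem_inter.mpr ⟨hx.1.1, hx.2.1⟩
  have h4 : (o ∩ o').card = 4 :=
    octads_inter_eq_four ho ho' hne (by rw [← h3]; exact Finset.card_le_card hsub)
  have hEq : symmDiff o o' ∩ d = symmDiff (o ∩ d) (o' ∩ d) := by
    ext x
    simp only [Finset.mem_inter, Finset.mem_symmDiff]
    tauto
  refine ⟨?_, symmDiff o o', octads_symmDiff ho ho' h4, hEq⟩
  have h1 := Finset.card_sdiff_add_card_inter (o ∩ d) (o' ∩ d)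
  have h2 := Finset.card_sdiff_add_card_inter (o' ∩ d) (o ∩ d)
  rw [Finset.inter_comm (o' ∩ d) (o ∩ d)] at h2
  have hdisj : Disjoint ((o ∩ d) \ (o' ∩ d)) ((o' ∩ d) \ (o ∩ d)) := by
    rw [Finset.disjoint_left]
    intro x hx hx'
    exact (Finset.mem_sdiff.mp hx').2 (Finset.mem_sdiff.mp hx).1
  have h3' : (symmDiff (o ∩ d) (o' ∩ d)).card
      = ((o ∩ d) \ (o' ∩ d)).card + ((o' ∩ d) \ (o ∩ d)).card := by
    rw [symmDiff_def, Finset.sup_eq_union, Finset.card_union_of_disjoint hdisj]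
  omega

end Cfsg.Agent.Lib.Helper95

namespace Cfsg.Agent.Lib.Helper95

/-- Given a hexad `h` on a dodecad and a triple `t ⊆ h`, some hexad meets `h` exactly in `t`. -/
theorem exists_hexad_meeting {d h t : Finset Cfsg.GolayPt} (hd : d ∈ Cfsg.dodecads)
    (hh : h ∈ Cfsg.hexadsOn d) (hth : t ⊆ h) (ht : t.card = 3) :
    ∃ k ∈ Cfsg.hexadsOn d, h ∩ k = t := by
  classical
  obtain ⟨h6, o, ho, rfl⟩ := hh
  have hcard : Fintype.card {p : Cfsg.GolayPt // p ∈ d} = 12 := by
    rw [Fintype.card_coe]; exact hd.2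
  have hS := Cfsg.Agent.S0385.result d hd
  set b : Finset {p : Cfsg.GolayPt // p ∈ d} := Finset.subtype (fun p => p ∈ d) o with hb
  have hbB : b ∈ {h : Finset {p : Cfsg.GolayPt // p ∈ d} |
      ∃ o ∈ Cfsg.octads, (o ∩ d).card = 6 ∧ h = Finset.subtype (fun p => p ∈ d) o} :=
    ⟨o, ho, h6, rfl⟩
  set s : Finset {p : Cfsg.GolayPt // p ∈ d} := Finset.subtype (fun p => p ∈ d) t with hs
  have hsb : s ⊆ b := by
    intro x hx
    rw [hs, Finset.mem_subtype] at hx
    rw [hb, Finset.mem_subtype]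
    exact (Finset.mem_inter.mp (hth hx)).1
  have hs3 : s.card = 3 := by
    rw [hs, Finset.card_subtype, Finset.filter_true_of_mem, ht]
    intro x hx
    exact (Finset.mem_inter.mp (hth hx)).2
  have h2 := ((Cfsg.Agent.S1595.result hcard hS b hbB).2 s hsb).2.1 hs3
  have hne : {c : Finset {p : Cfsg.GolayPt // p ∈ d} |
      c ∈ {h : Finset {p : Cfsg.GolayPt // p ∈ d} |
        ∃ o ∈ Cfsg.octads, (o ∩ d).card = 6 ∧ h = Finset.subtype (fun p => p ∈ d) o} ∧
        b ∩ c = s}.Nonempty := by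
    rw [← Set.ncard_pos, h2]
    norm_num
  obtain ⟨c, ⟨o1, ho1, h61, rfl⟩, hbc⟩ := hne
  refine ⟨o1 ∩ d, ⟨h61, o1, ho1, rfl⟩, ?_⟩
  ext x
  constructor
  · intro hx
    rw [Finset.mem_inter, Finset.mem_inter, Finset.mem_inter] at hx
    have hxd : x ∈ d := hx.1.2
    have hmem : (⟨x, hxd⟩ : {p : Cfsg.GolayPt // p ∈ d}) ∈
        b ∩ Finset.subtype (fun p => p ∈ d) o1 := by
      rw [Finset.mem_inter, hb, Finset.mem_subtype, Finset.mem_subtype]
      exact ⟨hx.1.1, hx.2.1⟩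
    rw [hbc, hs, Finset.mem_subtype] at hmem
    exact hmem
  · intro hx
    have hxd : x ∈ d := (Finset.mem_inter.mp (hth hx)).2
    have hmem : (⟨x, hxd⟩ : {p : Cfsg.GolayPt // p ∈ d}) ∈ s := by
      rw [hs, Finset.mem_subtype]
      exact hx
    rw [← hbc, Finset.mem_inter, hb, Finset.mem_subtype, Finset.mem_subtype] at hmem
    exact Finset.mem_inter.mpr ⟨Finset.mem_inter.mpr ⟨hmem.1, hxd⟩,
      Finset.mem_inter.mpr ⟨hmem.2, hxd⟩⟩

end Cfsg.Agent.Lib.Helper95
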