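import Cfsg.Agent.Lib.Helper10.M12c
import Cfsg.Agent.Lib.Helper95.GolayHexad

set_option autoImplicit false

namespace Cfsg.Agent.Lib.Helper95

open Cfsg MulAction
open scoped Pointwise
open Cfsg.Agent.Lib.Helper10

/-- The stabiliser of any dodecad is transitive on injective 5-tuples of its points. -/
theorem five_trans_dodecad {d : Finset GolayPt} (hd : d ∈ dodecads) (x y : Fin 5 ↪ GolayPt)
    (hx : ∀ i, x i ∈ d) (hy : ∀ i, y i ∈ d) :
    ∃ g ∈ M24, g • d = d ∧ ∀ i, g (x i) = y i := by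
  obtain ⟨h, hh, rfl⟩ := exists_smul_d0_eq hd
  have hhM : h ∈ M24 := H_le_M24 hh
  let x' : Fin 5 ↪ GolayPt := x.trans (h⁻¹ : Equiv.Perm GolayPt).toEmbedding
  let y' : Fin 5 ↪ GolayPt := y.trans (h⁻¹ : Equiv.Perm GolayPt).toEmbedding
  have hx' : ∀ i, x' i ∈ fs d0 := fun i => by
    have := Finset.inv_smul_mem_iff.mpr (hx i)
    exact this
  have hy' : ∀ i, y' i ∈ fs d0 := fun i => by
    have := Finset.inv_smul_mem_iff.mpr (hy i)
    exact this
  obtain ⟨g1, hg1, e1⟩ := five_trans12 x' hx'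
  obtain ⟨g2, hg2, e2⟩ := five_trans12 y' hy'
  have hk : g2 * g1⁻¹ ∈ K12 := K12.mul_mem hg2 (K12.inv_mem hg1)
  obtain ⟨hm, hs⟩ := conj_of_K12 hhM hk
  refine ⟨h * (g2 * g1⁻¹) * h⁻¹, hm, hs, fun i => ?_⟩
  show h (g2 (g1⁻¹ (h⁻¹ (x i)))) = y i
  have h1 : g1⁻¹ (h⁻¹ (x i)) = bpt12 i := by
    rw [Equiv.Perm.inv_eq_iff_eq]
    exact (e1 i).symm
  rw [h1, e2 i]
  show h (h⁻¹ (y i)) = y i
  simp

/-- Sharpness: an element of the group of the code fixing a dodecad and five of its points is 1. -/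
theorem eq_one_of_fixes_five_dodecad {d : Finset GolayPt} (hd : d ∈ dodecads)
    {σ : Equiv.Perm GolayPt} (hσ : σ ∈ M24) (hσd : σ • d = d) (x : Fin 5 ↪ GolayPt)
    (hx : ∀ i, x i ∈ d) (hfix : ∀ i, σ (x i) = x i) : σ = 1 := by
  obtain ⟨h, hh, rfl⟩ := exists_smul_d0_eq hd
  have hhM : h ∈ M24 := H_le_M24 hh
  have hk := conj_mem_K12 hhM hσ hσd
  let x' : Fin 5 ↪ GolayPt := x.trans (h⁻¹ : Equiv.Perm GolayPt).toEmbedding
  have hx' : ∀ i, x' i ∈ fs d0 := fun i => by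
    have := Finset.inv_smul_mem_iff.mpr (hx i)
    exact this
  have h1 : h⁻¹ * σ * h = 1 := by
    apply eq_one_of_fixes_five hk x' hx'
    intro i
    show h⁻¹ (σ (h (h⁻¹ (x i)))) = h⁻¹ (x i)
    have : h (h⁻¹ (x i)) = x i := by simp
    rw [this, hfix i]
  have h2 : σ = h * (h⁻¹ * σ * h) * h⁻¹ := by group
  rw [h2, h1]
  group

theorem exists_five_embedding (S : Finset GolayPt) (hS : 5 ≤ S.card) :
    ∃ x : Fin 5 ↪ GolayPt, ∀ i, x i ∈ S := by
  have : Fintype.card (Fin 5) ≤ Fintype.card ↥S := by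
    rw [Fintype.card_fin, Fintype.card_coe]
    exact hS
  obtain ⟨f⟩ := Function.Embedding.nonempty_of_card_le this
  exact ⟨f.trans (Function.Embedding.subtype _), fun i => (f i).2⟩

theorem eq_one_of_fixes_subset {d : Finset GolayPt} (hd : d ∈ dodecads)
    {σ : Equiv.Perm GolayPt} (hσ : σ ∈ M24) (hσd : σ • d = d) (S : Finset GolayPt)
    (hSd : S ⊆ d) (hS : 5 ≤ S.card) (hfix : ∀ p ∈ S, σ p = p) : σ = 1 := by
  obtain ⟨x, hx⟩ := exists_five_embedding S hS
  exact eq_one_of_fixes_five_dodecad hd hσ hσd x (fun i => hSd (hx i)) (fun i => hfix _ (hx i))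

/-- An element of the group of the code stabilising a dodecad maps hexads on it to hexads. -/
theorem smul_mem_hexadsOn {d C : Finset GolayPt} {σ : Equiv.Perm GolayPt} (hσ : σ ∈ M24)
    (hσd : σ • d = d) (hC : C ∈ hexadsOn d) : σ • C ∈ hexadsOn d := by
  obtain ⟨h6, o, ho, rfl⟩ := hC
  refine ⟨by rw [Finset.card_smul_finset]; exact h6, σ • o, smul_mem_octads hσ ho, ?_⟩
  rw [Finset.smul_finset_inter, hσd]

theorem mem_iff_of_smul_eq {σ : Equiv.Perm GolayPt} {C : Finset GolayPt} (h : σ • C = C)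
    (x : GolayPt) : σ x ∈ C ↔ x ∈ C := by
  constructor
  · intro hx
    rw [← h] at hx
    exact (Finset.smul_mem_smul_finset_iff σ).mp hx
  · intro hx
    rw [← h]
    exact Finset.smul_mem_smul_finset hx

/-- Two permutations agreeing off one point agree. -/
theorem perm_eq_of_eq_off {α : Type*} (σ τ : Equiv.Perm α) (a : α)
    (h : ∀ x, x ≠ a → σ x = τ x) : σ = τ := by
  ext x
  by_cases hx : x = a
  · subst hx
    by_contra hne
    -- τ⁻¹ (σ x) ≠ x, and σ (τ⁻¹ (σ x)) = τ (τ⁻¹ (σ x)) = σ x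
    have h1 : τ⁻¹ (σ x) ≠ x := by
      intro e
      apply hne
      have := congrArg τ e
      simpa using this
    have h2 := h _ h1
    have h3 : τ (τ⁻¹ (σ x)) = σ x := by simp
    rw [h3] at h2
    exact h1 (σ.injective h2)
  · exact h x hx

end Cfsg.Agent.Lib.Helper95
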