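import Mathlib

set_option autoImplicit false

/-!
Small leaves for the `(<=)` half of K-SN (S4073): normal non-commutative subgroups of
`A4`, `A5`, groups of order 6; a non-commutative 2-subgroup of `S4`; the arithmetic
`(2^a+1) 2^a (2^a-1) ∣ 2^n (2^(2n)-1)`, `n` prime, forces `a = 1` or `a = n`.
-/

namespace Cfsg.Agent.Lib.Helper95.SNSmall

theorem isMulCommutative_of_isCyclic {X : Type*} [Group X] [IsCyclic X] : IsMulCommutative X := by
  obtain ⟨g, hg⟩ := IsCyclic.exists_generator (α := X)
  refine ⟨⟨fun a b => ?_⟩⟩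
  obtain ⟨m, rfl⟩ := hg a
  obtain ⟨n, rfl⟩ := hg b
  exact zpow_mul_comm g m n

theorem isMulCommutative_of_card {X : Type*} [Group X] [Finite X]
    (h : Nat.card X = 1 ∨ (Nat.card X).Prime) : IsMulCommutative X := by
  rcases h with h | h
  · have : Subsingleton X := (Nat.card_eq_one_iff_unique.mp h).1
    exact ⟨⟨fun a b => Subsingleton.elim _ _⟩⟩
  · have : Fact (Nat.card X).Prime := ⟨h⟩
    have : IsCyclic X := isCyclic_of_prime_card rfl
    exact isMulCommutative_of_isCyclic

/-- Transport along an isomorphism. -/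
theorem eq_top_of_equiv {M K : Type*} [Group M] [Group K] (e : M ≃* K)
    (hK : ∀ N : Subgroup K, N.Normal → ¬ IsMulCommutative N → N = ⊤)
    (H : Subgroup M) [hH : H.Normal] (hna : ¬ IsMulCommutative H) : H = ⊤ := by
  have hN : (H.map e.toMonoidHom).Normal := hH.map _ e.surjective
  have h1 : ¬ IsMulCommutative (H.map e.toMonoidHom) := by
    intro hc
    apply hna
    refine ⟨⟨?_⟩⟩
    rintro ⟨a, ha⟩ ⟨b, hb⟩
    apply Subtype.ext
    have hea : e a ∈ H.map e.toMonoidHom := ⟨a, ha, rfl⟩
    have heb : e b ∈ H.map e.toMonoidHom := ⟨b, hb, rfl⟩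
    have := hc.is_comm.comm ⟨e a, hea⟩ ⟨e b, heb⟩
    have h2 : e a * e b = e b * e a := congrArg Subtype.val this
    apply e.injective
    simpa using h2
  have h3 := hK (H.map e.toMonoidHom) hN h1
  rw [eq_top_iff]
  intro x _
  have : e x ∈ H.map e.toMonoidHom := by rw [h3]; trivial
  obtain ⟨y, hy, hyx⟩ := this
  have : y = x := e.injective hyx
  rwa [← this]

/-- A non-commutative subgroup of a group of order 6 is everything. -/
theorem eq_top_of_card_six {M : Type*} [Group M] (h : Nat.card M = 6) (H : Subgroup M)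
    (hna : ¬ IsMulCommutative H) : H = ⊤ := by
  have : Finite M := Nat.finite_of_card_ne_zero (by omega)
  have hd : Nat.card H ∣ 6 := h ▸ Subgroup.card_subgroup_dvd_card H
  have key : ∀ c : ℕ, c ∣ 6 → c ≠ 6 → c = 1 ∨ c.Prime := by
    intro c hc h6
    have h1 : c ≤ 6 := Nat.le_of_dvd (by norm_num) hc
    have h2 : 0 < c := Nat.pos_of_dvd_of_pos hc (by norm_num)
    interval_cases c
    · left; rfl
    · right; norm_num
    · right; norm_num
    · exfalso; revert hc; decide
    · exfalso; revert hc; decide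
    · exact absurd rfl h6
  by_contra hne
  apply hna
  apply isMulCommutative_of_card
  apply key _ hd
  intro h6
  exact hne ((Subgroup.card_eq_iff_eq_top H).mp (h6.trans h.symm))

/-- Arithmetic for the Dickson case `PSL2(2^a) ≤ PSL2(2^n)`, `n` prime. -/
theorem arith (n a : ℕ) (hn : n.Prime) (ha : 1 ≤ a)
    (h : (2 ^ a + 1) * 2 ^ a * (2 ^ a - 1) ∣ 2 ^ n * (2 ^ (2 * n) - 1)) : a = 1 ∨ a = n := by
  have h1 : 2 ^ (2 * a) - 1 ∣ 2 ^ n * (2 ^ (2 * n) - 1) := by
    refine Dvd.dvd.trans ?_ h
    have e1 : 2 ^ (2 * a) - 1 = (2 ^ a + 1) * (2 ^ a - 1) := by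
      have h1 : 1 ≤ 2 ^ a := Nat.one_le_two_pow
      obtain ⟨x, hx⟩ : ∃ x, 2 ^ a = x + 1 := ⟨2 ^ a - 1, by omega⟩
      have : 2 ^ (2 * a) = (x + 1) * (x + 1) := by rw [two_mul, pow_add, hx]
      rw [this, hx]
      have : (x + 1) * (x + 1) - 1 = (x + 1 + 1) * x := by
        have : (x + 1) * (x + 1) = (x + 1 + 1) * x + 1 := by ring
        omega
      simpa using this
    rw [e1]
    exact ⟨2 ^ a, by ring⟩
  have hodd : Nat.Coprime (2 ^ (2 * a) - 1) (2 ^ n) := by
    apply Nat.Coprime.pow_right
    rw [Nat.coprime_two_right, Nat.odd_iff]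
    have : 2 ^ (2 * a) = 2 * 2 ^ (2 * a - 1) := by
      rw [← pow_succ']; congr 1; omega
    have h1 : 1 ≤ 2 ^ (2 * a - 1) := Nat.one_le_two_pow
    omega
  have h2 : 2 ^ (2 * a) - 1 ∣ 2 ^ (2 * n) - 1 := hodd.dvd_of_dvd_mul_left h1
  have h3 : Nat.gcd (2 ^ (2 * a) - 1) (2 ^ (2 * n) - 1) = 2 ^ (2 * a) - 1 := Nat.gcd_eq_left h2
  rw [Nat.pow_sub_one_gcd_pow_sub_one] at h3
  have h4 : 2 ^ Nat.gcd (2 * a) (2 * n) = 2 ^ (2 * a) := by
    have := Nat.one_le_two_pow (n := Nat.gcd (2 * a) (2 * n))
    have := Nat.one_le_two_pow (n := 2 * a)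
    omega
  have h5 : Nat.gcd (2 * a) (2 * n) = 2 * a := Nat.pow_right_injective (le_refl 2) h4
  rw [Nat.gcd_mul_left] at h5
  have h6 : Nat.gcd a n = a := by omega
  have h7 : a ∣ n := h6 ▸ Nat.gcd_dvd_right a n
  exact (Nat.dvd_prime hn).mp h7

/-- `A5` case. -/
theorem eq_top_of_equiv_A5 {M : Type*} [Group M] (e : M ≃* alternatingGroup (Fin 5))
    (H : Subgroup M) [hH : H.Normal] (hna : ¬ IsMulCommutative H) : H = ⊤ := by
  refine eq_top_of_equiv e ?_ H hna
  intro N hN hNna
  have := alternatingGroup.isSimpleGroup_five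
  rcases hN.eq_bot_or_eq_top with h | h
  · exfalso; apply hNna; subst h
    exact ⟨⟨fun a b => Subsingleton.elim _ _⟩⟩
  · exact h

/-- `A4` case: a normal non-commutative subgroup of `A4` is everything. -/
theorem eq_top_of_normal_A4 (N : Subgroup (alternatingGroup (Fin 4))) (hN : N.Normal)
    (hna : ¬ IsMulCommutative N) : N = ⊤ := by
  have hcard : Nat.card (alternatingGroup (Fin 4)) = 12 := by
    rw [Nat.card_eq_fintype_card]; decide
  have hd : Nat.card N ∣ 12 := hcard ▸ Subgroup.card_subgroup_dvd_card N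
  by_contra hne
  have h12 : Nat.card N ≠ 12 := fun h12 =>
    hne ((Subgroup.card_eq_iff_eq_top N).mp (h12.trans hcard.symm))
  have h1 : Nat.card N ≤ 12 := Nat.le_of_dvd (by norm_num) hd
  have h2 : 0 < Nat.card N := Nat.card_pos
  have hcases : Nat.card N = 1 ∨ (Nat.card N).Prime ∨ Nat.card N = 4 ∨ Nat.card N = 6 := by
    generalize Nat.card N = c at hd h12 h1 h2
    interval_cases c
    · left; rfl
    · right; left; norm_num
    · right; left; norm_num
    · right; right; left; rfl
    · exfalso; revert hd; decide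
    · right; right; right; rfl
    · exfalso; revert hd; decide
    · exfalso; revert hd; decide
    · exfalso; revert hd; decide
    · exfalso; revert hd; decide
    · exfalso; revert hd; decide
    · exact absurd rfl h12
  rcases hcases with h | h | h | h
  · exact hna (isMulCommutative_of_card (Or.inl h))
  · exact hna (isMulCommutative_of_card (Or.inr h))
  · have : Fact (Nat.Prime 2) := ⟨Nat.prime_two⟩
    exact hna (IsPGroup.isMulCommutative_of_card_eq_prime_sq (p := 2) (by rw [h]; norm_num))
  · -- index 2: all squares lie in `N`, hence all elements of order dividing 3: nine of them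
    have hidx : N.index = 2 := by
      have := N.card_mul_index
      rw [h, hcard] at this
      omega
    have hsq : ∀ c : alternatingGroup (Fin 4), c ^ 3 = 1 → c ∈ N := by
      intro c hc
      have h4 : c = (c ^ 2) ^ 2 := by
        rw [← pow_mul]
        have : c ^ (2 * 2) = c ^ 3 * c := by rw [← pow_succ]
        rw [this, hc, one_mul]
      rw [h4]
      exact N.sq_mem_of_index_two hidx _
    have hcount : (Finset.univ.filter
        (fun c : alternatingGroup (Fin 4) => c ^ 3 = 1)).card = 9 := by decide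
    classical
    have hle : (Finset.univ.filter (fun c : alternatingGroup (Fin 4) => c ^ 3 = 1)).card
        ≤ Nat.card N := by
      rw [Nat.card_eq_fintype_card, ← Finset.card_univ (α := N)]
      refine Finset.card_le_card_of_injOn (fun c => if hc : c ∈ N then ⟨c, hc⟩ else 1) ?_ ?_
      · intro c _; exact Finset.mem_coe.mpr (Finset.mem_univ _)
      · intro c hc d hd hcd
        have hc' : c ∈ N := hsq c (by simpa using hc)
        have hd' : d ∈ N := hsq d (by simpa using hd)
        simp only [hc', hd', dif_pos] at hcd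
        exact congrArg Subtype.val hcd
    rw [hcount, h] at hle
    omega

theorem eq_top_of_equiv_A4 {M : Type*} [Group M] (e : M ≃* alternatingGroup (Fin 4))
    (H : Subgroup M) [hH : H.Normal] (hna : ¬ IsMulCommutative H) : H = ⊤ :=
  eq_top_of_equiv e eq_top_of_normal_A4 H hna

/-- The involution `(0 2)(1 3)` of `S4`. -/
def zz : Equiv.Perm (Fin 4) := Equiv.swap 0 2 * Equiv.swap 1 3

/-- The centralizer of `(0 2)(1 3)` in `S4`, with decidable membership: a `D8`. -/
def D8 : Subgroup (Equiv.Perm (Fin 4)) where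
  carrier := {g | g * zz = zz * g}
  mul_mem' := by
    intro a b ha hb
    simp only [Set.mem_setOf_eq] at *
    rw [mul_assoc, hb, ← mul_assoc, ha, mul_assoc]
  one_mem' := by simp
  inv_mem' := by
    intro a ha
    simp only [Set.mem_setOf_eq] at *
    have : a⁻¹ * (a * zz) * a⁻¹ = a⁻¹ * (zz * a) * a⁻¹ := by rw [ha]
    simpa [mul_assoc] using this.symm

instance decMemD8 : DecidablePred (· ∈ D8) := fun g => inferInstanceAs (Decidable (g * zz = zz * g))

theorem card_D8 : Nat.card D8 = 8 := by
  rw [Nat.card_eq_fintype_card]; decide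

/-- `S4` has a non-commutative 2-subgroup. -/
theorem exists_two_subgroup_not_comm_of_equiv_S4 {M : Type*} [Group M]
    (e : M ≃* Equiv.Perm (Fin 4)) :
    ∃ Q : Subgroup M, IsPGroup 2 Q ∧ ¬ IsMulCommutative Q := by
  have hp : IsPGroup 2 D8 := IsPGroup.of_card (n := 3) (by rw [card_D8]; norm_num)
  refine ⟨D8.comap e.toMonoidHom, hp.comap_of_injective _ e.injective, ?_⟩
  intro hc
  let x : Equiv.Perm (Fin 4) := Equiv.swap 0 2
  let y : Equiv.Perm (Fin 4) := Equiv.swap 0 1 * Equiv.swap 2 3
  have hx : x ∈ D8 := by show x * zz = zz * x; decide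
  have hy : y ∈ D8 := by show y * zz = zz * y; decide
  have hxy : x * y ≠ y * x := by decide
  have hx' : e.symm x ∈ D8.comap e.toMonoidHom := by
    show e (e.symm x) ∈ D8; simpa using hx
  have hy' : e.symm y ∈ D8.comap e.toMonoidHom := by
    show e (e.symm y) ∈ D8; simpa using hy
  have := hc.is_comm.comm ⟨e.symm x, hx'⟩ ⟨e.symm y, hy'⟩
  have h2 : e.symm x * e.symm y = e.symm y * e.symm x := congrArg Subtype.val this
  apply hxy
  have := congrArg e h2
  simpa using this

end Cfsg.Agent.Lib.Helper95.SNSmall
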