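import Mathlib

/-!
# K-OTF-NS5a (keystone 399908, pack S3999): `SL(2,5)` has exactly 24 elements of order 5

Kernel `decide` over the 625 matrices (8 s); `orderOf x = 5` rephrased as `x ^ 5 = 1 ∧ x ≠ 1`.
-/

set_option autoImplicit false

namespace Cfsg.Agent.Lib.Helper95.OTF

set_option maxRecDepth 1000000 in
theorem card_sl25_aux : Fintype.card (Matrix.SpecialLinearGroup (Fin 2) (ZMod 5)) = 120 := by
  decide

set_option maxRecDepth 1000000 in
theorem card_sl25_pow_five_aux :
    Fintype.card {x : Matrix.SpecialLinearGroup (Fin 2) (ZMod 5) // x ^ 5 = 1 ∧ x ≠ 1} = 24 := by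
  decide

/-- LEAF NS5a: `SL(2,5)` has order 120 and exactly 24 elements of order 5. -/
theorem sl25_card_order_five :
    Nat.card {x : Matrix.SpecialLinearGroup (Fin 2) (ZMod 5) // orderOf x = 5} = 24 ∧
      Nat.card (Matrix.SpecialLinearGroup (Fin 2) (ZMod 5)) = 120 := by
  have : Fact (Nat.Prime 5) := ⟨by norm_num⟩
  constructor
  · rw [← card_sl25_pow_five_aux, ← Nat.card_eq_fintype_card]
    exact Nat.card_congr (Equiv.subtypeEquivRight (fun x => orderOf_eq_prime_iff))
  · rw [Nat.card_eq_fintype_card]; exact card_sl25_aux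

end Cfsg.Agent.Lib.Helper95.OTF
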