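import Cfsg.Agent.Lib.Helper95.GolaySextet
import Cfsg.Agent.Lib.Helper95.GolayConcrete
import Cfsg.Agent.Lib.Helper95.GolayHexad
import Cfsg.Agent.Lib.Helper92.M24Normal

set_option autoImplicit false

/-! Sextets of the concrete length-24 code: each 4-set lies in a unique sextet, the tetrads of
a sextet partition the points, the group of the code permutes sextets; six-point transitivity of
the group of the code. -/

namespace Cfsg.Agent.Lib.Helper95

open Cfsg MulAction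
open scoped Pointwise
open Cfsg.Agent.Lib.Helper10

theorem sextetsOf_golay : sextetsOf Cfsg.golayCode = Cfsg.sextets := rfl

theorem sextet_existsUnique (t : Finset GolayPt) (ht : t.card = 4) :
    ∃! S : Finset (Finset GolayPt), S ∈ Cfsg.sextets ∧ t ∈ S :=
  g24_sextet_existsUnique golayPt_card Cfsg.golayCode golayCode_finrank golayCode_hmin t ht

theorem sextets_ncard : Cfsg.sextets.ncard = 1771 :=
  g24_sextets_ncard golayPt_card Cfsg.golayCode golayCode_finrank golayCode_hmin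

theorem sextet_eq_of_mem {S S' : Finset (Finset GolayPt)} (hS : S ∈ Cfsg.sextets)
    (hS' : S' ∈ Cfsg.sextets) {t : Finset GolayPt} (ht : t ∈ S) (ht' : t ∈ S') : S = S' :=
  (sextet_existsUnique t (hS.2.1 t ht)).unique ⟨hS, ht⟩ ⟨hS', ht'⟩

theorem sextet_disjoint {S : Finset (Finset GolayPt)} (hS : S ∈ Cfsg.sextets)
    {t u : Finset GolayPt} (ht : t ∈ S) (hu : u ∈ S) (hne : t ≠ u) : Disjoint t u := by
  have h8 : (t ∪ u).card = 8 := (hS.2.2 t ht u hu hne).2
  rw [Finset.disjoint_iff_inter_eq_empty, ← Finset.card_eq_zero]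
  have := Finset.card_union_add_card_inter t u
  rw [h8, hS.2.1 t ht, hS.2.1 u hu] at this
  omega

theorem sextet_pairwiseDisjoint {S : Finset (Finset GolayPt)} (hS : S ∈ Cfsg.sextets) :
    (S : Set (Finset GolayPt)).PairwiseDisjoint id := by
  intro t ht u hu hne
  exact sextet_disjoint hS ht hu hne

theorem sextet_biUnion {S : Finset (Finset GolayPt)} (hS : S ∈ Cfsg.sextets) :
    S.biUnion id = Finset.univ := by
  apply Finset.eq_univ_of_card
  have hd : ∀ t ∈ S, ∀ u ∈ S, t ≠ u → Disjoint (id t) (id u) :=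
    fun t ht u hu hne => sextet_disjoint hS ht hu hne
  rw [Finset.card_biUnion hd]
  have h4 : ∀ t ∈ S, (id t : Finset GolayPt).card = 4 := fun t ht => hS.2.1 t ht
  rw [Finset.sum_congr rfl h4, Finset.sum_const, smul_eq_mul, hS.1, golayPt_card]

theorem sextet_cover {S : Finset (Finset GolayPt)} (hS : S ∈ Cfsg.sextets) (p : GolayPt) :
    ∃ t ∈ S, p ∈ t := by
  have : p ∈ S.biUnion id := by rw [sextet_biUnion hS]; exact Finset.mem_univ p
  rw [Finset.mem_biUnion] at this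
  exact this

theorem sextet_tetrad_unique {S : Finset (Finset GolayPt)} (hS : S ∈ Cfsg.sextets)
    {t u : Finset GolayPt} (ht : t ∈ S) (hu : u ∈ S) {p : GolayPt} (hpt : p ∈ t) (hpu : p ∈ u) :
    t = u := by
  by_contra hne
  exact Finset.disjoint_left.mp (sextet_disjoint hS ht hu hne) hpt hpu

theorem smul_mem_sextets {g : Equiv.Perm GolayPt} (hg : g ∈ M24)
    {S : Finset (Finset GolayPt)} (hS : S ∈ Cfsg.sextets) : g • S ∈ Cfsg.sextets := by
  refine ⟨?_, ?_, ?_⟩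
  · rw [Finset.card_smul_finset]; exact hS.1
  · intro t ht
    obtain ⟨t0, ht0, rfl⟩ := Finset.mem_smul_finset.mp ht
    rw [Finset.card_smul_finset]
    exact hS.2.1 t0 ht0
  · intro t ht u hu hne
    obtain ⟨t0, ht0, rfl⟩ := Finset.mem_smul_finset.mp ht
    obtain ⟨u0, hu0, rfl⟩ := Finset.mem_smul_finset.mp hu
    have hne0 : t0 ≠ u0 := fun h => hne (by rw [h])
    rw [← Finset.smul_finset_union]
    exact smul_mem_octads hg (hS.2.2 t0 ht0 u0 hu0 hne0)

theorem smul_sextet_eq {g : Equiv.Perm GolayPt} (hg : g ∈ M24)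
    {S S' : Finset (Finset GolayPt)} (hS : S ∈ Cfsg.sextets) (hS' : S' ∈ Cfsg.sextets)
    {t : Finset GolayPt} (ht : t ∈ S) (ht' : g • t ∈ S') : g • S = S' :=
  sextet_eq_of_mem (smul_mem_sextets hg hS) hS' (Finset.smul_mem_smul_finset ht) ht'

/-! ### six-point transitivity -/

theorem fs_octO_mem : fs octO ∈ Cfsg.octads := fs_mem_octads octO_lt octO_enc octO_pc

theorem base5_mem_octO : ∀ i : Fin 5, octO.testBit (base.getD i 0) = true := by decide +kernel

theorem bpt_mem_octO (i : ℕ) (hi : i < 5) : bpt i ∈ fs octO := by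
  rw [mem_fs]
  unfold bpt
  rw [idx_pt (base_lt ⟨i, by omega⟩)]
  exact base5_mem_octO ⟨i, hi⟩

/-- Five distinct points and a sixth point outside the octad through them can be reached from
the base points. -/
theorem exists_six (p0 p1 p2 p3 p4 p5 : GolayPt) (h : [p0, p1, p2, p3, p4].Nodup)
    (o : Finset GolayPt) (ho : o ∈ Cfsg.octads) (h0 : p0 ∈ o) (h1 : p1 ∈ o) (h2 : p2 ∈ o)
    (h3 : p3 ∈ o) (h4 : p4 ∈ o) (h5 : p5 ∉ o) :
    ∃ k ∈ M24, k (bpt 0) = p0 ∧ k (bpt 1) = p1 ∧ k (bpt 2) = p2 ∧ k (bpt 3) = p3 ∧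
      k (bpt 4) = p4 ∧ k (bpt 5) = p5 := by
  obtain ⟨k, hk, e0, e1, e2, e3, e4⟩ := Cfsg.Agent.Lib.Helper92.exists_five p0 p1 p2 p3 p4 h
  have hko : k • fs octO = o := by
    apply octads_inter_le (smul_mem_octads hk fs_octO_mem) ho
    have hsub : ({p0, p1, p2, p3, p4} : Finset GolayPt) ⊆ k • fs octO ∩ o := by
      intro x hx
      simp only [Finset.mem_insert, Finset.mem_singleton] at hx
      rw [Finset.mem_inter]
      rcases hx with rfl | rfl | rfl | rfl | rfl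
      · exact ⟨by rw [← e0]; exact Finset.smul_mem_smul_finset (bpt_mem_octO 0 (by omega)), h0⟩
      · exact ⟨by rw [← e1]; exact Finset.smul_mem_smul_finset (bpt_mem_octO 1 (by omega)), h1⟩
      · exact ⟨by rw [← e2]; exact Finset.smul_mem_smul_finset (bpt_mem_octO 2 (by omega)), h2⟩
      · exact ⟨by rw [← e3]; exact Finset.smul_mem_smul_finset (bpt_mem_octO 3 (by omega)), h3⟩
      · exact ⟨by rw [← e4]; exact Finset.smul_mem_smul_finset (bpt_mem_octO 4 (by omega)), h4⟩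
    have hc : ({p0, p1, p2, p3, p4} : Finset GolayPt).card = 5 := by
      have := List.toFinset_card_of_nodup h
      simpa using this
    rw [← hc]
    exact Finset.card_le_card hsub
  have hnot : k⁻¹ p5 ∉ fs octO := by
    intro hmem
    apply h5
    rw [← hko]
    have := Finset.smul_mem_smul_finset (a := k) hmem
    simpa using this
  have hok : okTarget 5 (idx (k⁻¹ p5)) = true := by
    rw [ok5_iff]
    rw [mem_fs] at hnot
    simpa using hnot
  obtain ⟨u, hu, hu1, hu2⟩ := level 5 (by decide) (k⁻¹ p5) hok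
  refine ⟨k * u, M24.mul_mem hk (H_le_M24 hu), ?_, ?_, ?_, ?_, ?_, ?_⟩
  · show k (u (bpt 0)) = p0
    rw [hu1 0 (by omega), e0]
  · show k (u (bpt 1)) = p1
    rw [hu1 1 (by omega), e1]
  · show k (u (bpt 2)) = p2
    rw [hu1 2 (by omega), e2]
  · show k (u (bpt 3)) = p3
    rw [hu1 3 (by omega), e3]
  · show k (u (bpt 4)) = p4
    rw [hu1 4 (by omega), e4]
  · show k (u (bpt 5)) = p5
    rw [hu2]
    simp

/-- Transitivity on ordered 5-tuples of distinct points, list form. -/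
theorem five_trans_list (p0 p1 p2 p3 p4 q0 q1 q2 q3 q4 : GolayPt)
    (hp : [p0, p1, p2, p3, p4].Nodup) (hq : [q0, q1, q2, q3, q4].Nodup) :
    ∃ g ∈ M24, g p0 = q0 ∧ g p1 = q1 ∧ g p2 = q2 ∧ g p3 = q3 ∧ g p4 = q4 := by
  obtain ⟨k, hk, e0, e1, e2, e3, e4⟩ := Cfsg.Agent.Lib.Helper92.exists_five p0 p1 p2 p3 p4 hp
  obtain ⟨l, hl, f0, f1, f2, f3, f4⟩ := Cfsg.Agent.Lib.Helper92.exists_five q0 q1 q2 q3 q4 hq
  refine ⟨l * k⁻¹, M24.mul_mem hl (M24.inv_mem hk), ?_, ?_, ?_, ?_, ?_⟩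
  · show l (k⁻¹ p0) = q0
    rw [← e0]; simpa using f0
  · show l (k⁻¹ p1) = q1
    rw [← e1]; simpa using f1
  · show l (k⁻¹ p2) = q2
    rw [← e2]; simpa using f2
  · show l (k⁻¹ p3) = q3
    rw [← e3]; simpa using f3
  · show l (k⁻¹ p4) = q4
    rw [← e4]; simpa using f4

/-- Transitivity on (5 distinct points, a point off their octad). -/
theorem six_trans_list (p0 p1 p2 p3 p4 p5 q0 q1 q2 q3 q4 q5 : GolayPt)
    (hp : [p0, p1, p2, p3, p4].Nodup) (hq : [q0, q1, q2, q3, q4].Nodup)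
    (o : Finset GolayPt) (ho : o ∈ Cfsg.octads) (h0 : p0 ∈ o) (h1 : p1 ∈ o) (h2 : p2 ∈ o)
    (h3 : p3 ∈ o) (h4 : p4 ∈ o) (h5 : p5 ∉ o)
    (o' : Finset GolayPt) (ho' : o' ∈ Cfsg.octads) (h0' : q0 ∈ o') (h1' : q1 ∈ o') (h2' : q2 ∈ o')
    (h3' : q3 ∈ o') (h4' : q4 ∈ o') (h5' : q5 ∉ o') :
    ∃ g ∈ M24, g p0 = q0 ∧ g p1 = q1 ∧ g p2 = q2 ∧ g p3 = q3 ∧ g p4 = q4 ∧ g p5 = q5 := by
  obtain ⟨k, hk, e0, e1, e2, e3, e4, e5⟩ := exists_six p0 p1 p2 p3 p4 p5 hp o ho h0 h1 h2 h3 h4 h5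
  obtain ⟨l, hl, f0, f1, f2, f3, f4, f5⟩ :=
    exists_six q0 q1 q2 q3 q4 q5 hq o' ho' h0' h1' h2' h3' h4' h5'
  refine ⟨l * k⁻¹, M24.mul_mem hl (M24.inv_mem hk), ?_, ?_, ?_, ?_, ?_, ?_⟩
  · show l (k⁻¹ p0) = q0
    rw [← e0]; simpa using f0
  · show l (k⁻¹ p1) = q1
    rw [← e1]; simpa using f1
  · show l (k⁻¹ p2) = q2
    rw [← e2]; simpa using f2
  · show l (k⁻¹ p3) = q3
    rw [← e3]; simpa using f3
  · show l (k⁻¹ p4) = q4
    rw [← e4]; simpa using f4
  · show l (k⁻¹ p5) = q5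
    rw [← e5]; simpa using f5

end Cfsg.Agent.Lib.Helper95
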