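import Cfsg.Agent.Lib.Helper95.St24Canon
import Mathlib

set_option autoImplicit false

/-! # Every Steiner system S(5,8,24) on `Fin 3 ⊕ Fin 21` can be put in canonical form -/

namespace Cfsg.Agent.Lib.Helper95.St24

open Cfsg Finset
open Cfsg.Agent.Lib.Helper09 Cfsg.Agent.Lib.Helper35 Cfsg.Agent.Lib.Helper95
open Cfsg.Agent.Lib.Helper95.Pg24

variable {B : Set (Finset X)}

/-- the lines of a Steiner system: right parts of the blocks containing the three left points. -/
def linesOf (B : Set (Finset X)) : Set (Finset (Fin 21)) :=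
  {l | (Finset.univ : Finset (Fin 3)).disjSum l ∈ B}

theorem linesOf_steiner (hB : IsSteinerSystem 5 8 B) : IsSteinerSystem 2 5 (linesOf B) := by
  refine ⟨?_, ?_⟩
  · intro l hl
    have := hB.1 _ hl
    rw [Finset.card_disjSum, card_univ3] at this
    omega
  · intro s hs
    have hT : ((Finset.univ : Finset (Fin 3)).disjSum s).card = 5 := by
      rw [Finset.card_disjSum, card_univ3, hs]
    obtain ⟨b, ⟨hb, hTb⟩, huniq⟩ := hB.2 _ hT
    rw [Finset.disjSum_subset] at hTb
    have hu : b.toLeft = Finset.univ := Finset.univ_subset_iff.mp hTb.1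
    have hbe : (Finset.univ : Finset (Fin 3)).disjSum b.toRight = b := by
      rw [← hu, Finset.toLeft_disjSum_toRight]
    refine ⟨b.toRight, ⟨?_, hTb.2⟩, ?_⟩
    · show (Finset.univ : Finset (Fin 3)).disjSum b.toRight ∈ B
      rw [hbe]
      exact hb
    · rintro l ⟨hl, hsl⟩
      have := huniq _ ⟨hl, Finset.disjSum_mono (Finset.Subset.refl _) hsl⟩
      rw [← this, Finset.toRight_disjSum]

theorem exists_hasLines (hB : IsSteinerSystem 5 8 B) :
    ∃ e : Equiv.Perm (Fin 21), HasLines (imgSys (sc e) B) := by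
  obtain ⟨e, he⟩ := Cfsg.Agent.S5626.result card_fin21 card_fin21 (linesOf_steiner hB) L0_steiner
  refine ⟨e, ?_⟩
  intro l hl
  rw [← he] at hl
  obtain ⟨l', hl', rfl⟩ := hl
  have := image_mem_imgSys (e := sc e) hl'
  rwa [image_sc] at this

theorem exists_inClass (hB : IsSteinerSystem 5 8 B) (hL : HasLines B) :
    ∃ j : Fin 6, HasLines (imgSys (sc (colPerm j)) B) ∧
      OvalsInClass (imgSys (sc (colPerm j)) B) := by
  choose Hk hHk using exists_oval_block hB hL
  have hcls : ∀ k, ∃ a : Fin 3, m21 (Hk k) ∈ cls a.val := by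
    intro k
    have := oval_mem_hypAll (oval_of_block hB hL (hHk k))
    obtain ⟨a, ha, hm⟩ := mem_hypAll.mp this
    exact ⟨⟨a, ha⟩, hm⟩
  choose π hπ using hcls
  have hinj : Function.Injective π := by
    intro k k' h
    by_contra hne
    have h1 := hπ k
    have h2 := hπ k'
    rw [← h] at h2
    exact diff_class hB hne (hHk k) (hHk k') (π k).isLt h1 h2
  obtain ⟨j, hj⟩ := exists_col π hinj
  refine ⟨j, ?_, ?_⟩
  · intro l hl
    rw [disj_mem_imgSys]
    exact hL _ (colsymm_lines j hl)
  · intro k H hH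
    rw [disj_mem_imgSys] at hH
    have hov := oval_of_block hB hL hH
    obtain ⟨a, ha, hm⟩ := mem_hypAll.mp (oval_mem_hypAll hov)
    have haπ : a = (π k).val := same_class hB hH (hHk k) ha (π k).isLt hm (hπ k)
    have := col_cls j ha hm
    rw [image_image_symm, haπ, hj k] at this
    exact this

/-- every Steiner system can be put in canonical form by a permutation of the right points. -/
theorem exists_canon (hB : IsSteinerSystem 5 8 B) :
    ∃ e : Equiv.Perm (Fin 21), IsCanon (imgSys (sc e) B) := by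
  obtain ⟨e0, h0⟩ := exists_hasLines hB
  have hB1 := imgSys_steiner hB (sc e0)
  obtain ⟨j, hj1, hj2⟩ := exists_inClass hB1 h0
  have hB2 := imgSys_steiner hB1 (sc (colPerm j))
  refine ⟨e0.trans (colPerm j), ?_⟩
  rw [← sc_trans, ← imgSys_trans]
  exact ⟨hj1, hasOvals_of_inClass hB2 hj1 hj2⟩

/-- uniqueness of the Steiner system S(5,8,24), over arbitrary point types. -/
theorem steiner24_unique {α β : Type*} [Fintype α] [DecidableEq α] [Fintype β] [DecidableEq β]
    (hα : Fintype.card α = 24) (hβ : Fintype.card β = 24) {B : Set (Finset α)}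
    {B' : Set (Finset β)} (hB : IsSteinerSystem 5 8 B) (hB' : IsSteinerSystem 5 8 B') :
    ∃ e : α ≃ β, imgSys e B = B' := by
  have eα : α ≃ X := Fintype.equivOfCardEq (by rw [hα, card_X])
  have eβ : β ≃ X := Fintype.equivOfCardEq (by rw [hβ, card_X])
  have h1 := imgSys_steiner hB eα
  have h2 := imgSys_steiner hB' eβ
  obtain ⟨e1, c1⟩ := exists_canon h1
  obtain ⟨e2, c2⟩ := exists_canon h2
  have s1 := imgSys_steiner h1 (sc e1)
  have s2 := imgSys_steiner h2 (sc e2)
  have heq := canon_unique s1 s2 c1 c2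
  rw [imgSys_trans, imgSys_trans] at heq
  refine ⟨(eα.trans (sc e1)).trans (eβ.trans (sc e2)).symm, ?_⟩
  rw [← imgSys_trans, heq, imgSys_symm_imgSys]

end Cfsg.Agent.Lib.Helper95.St24
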