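import Cfsg.Agent.Lib.Helper95.St24Closure
import Mathlib

set_option autoImplicit false

/-! # Transport of the automorphism group of a set system along an isomorphism -/

namespace Cfsg.Agent.Lib.Helper95.St24

open Cfsg
open scoped Pointwise

section

variable {α β : Type*} [DecidableEq α] [DecidableEq β]

theorem smul_set_eq_imgSys (σ : Equiv.Perm α) (B : Set (Finset α)) : σ • B = imgSys σ B := rfl

theorem mem_aut_iff {B : Set (Finset α)} {σ : Equiv.Perm α} :
    σ ∈ setSystemAut B ↔ imgSys σ B = B := by
  rw [← smul_set_eq_imgSys]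
  exact MulAction.mem_stabilizer_iff

theorem permCongr_mem_aut (e : α ≃ β) {B : Set (Finset α)} {B' : Set (Finset β)}
    (h : imgSys e B = B') {σ : Equiv.Perm α} (hσ : σ ∈ setSystemAut B) :
    e.permCongr σ ∈ setSystemAut B' := by
  rw [mem_aut_iff] at hσ ⊢
  rw [← h, imgSys_trans]
  have : e.trans (e.permCongr σ) = (σ : α ≃ α).trans e := by
    apply Equiv.ext
    intro x
    simp [Equiv.permCongr_apply]
  rw [this, ← imgSys_trans, hσ]

theorem imgSys_symm_eq (e : α ≃ β) {B : Set (Finset α)} {B' : Set (Finset β)}
    (h : imgSys e B = B') : imgSys e.symm B' = B := by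
  rw [← h]
  ext c
  rw [mem_imgSys, mem_imgSys, Equiv.symm_symm, image_symm_image]

/-- the automorphism groups of isomorphic set systems are isomorphic. -/
def autIso (e : α ≃ β) {B : Set (Finset α)} {B' : Set (Finset β)} (h : imgSys e B = B') :
    setSystemAut B ≃* setSystemAut B' where
  toFun σ := ⟨e.permCongr σ.1, permCongr_mem_aut e h σ.2⟩
  invFun τ := ⟨e.symm.permCongr τ.1, permCongr_mem_aut e.symm (imgSys_symm_eq e h) τ.2⟩
  left_inv σ := by
    apply Subtype.ext
    apply Equiv.ext
    intro x
    simp [Equiv.permCongr_apply]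
  right_inv τ := by
    apply Subtype.ext
    apply Equiv.ext
    intro x
    simp [Equiv.permCongr_apply]
  map_mul' σ τ := by
    apply Subtype.ext
    apply Equiv.ext
    intro x
    simp [Equiv.permCongr_apply]

theorem autIso_apply (e : α ≃ β) {B : Set (Finset α)} {B' : Set (Finset β)} (h : imgSys e B = B')
    (σ : setSystemAut B) (x : α) : (autIso e h σ).1 (e x) = e (σ.1 x) := by
  show e.permCongr σ.1 (e x) = e (σ.1 x)
  simp [Equiv.permCongr_apply]

theorem autIso_symm_apply (e : α ≃ β) {B : Set (Finset α)} {B' : Set (Finset β)}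
    (h : imgSys e B = B') (τ : setSystemAut B') (x : α) :
    e (((autIso e h).symm τ).1 x) = τ.1 (e x) := by
  have := autIso_apply e h ((autIso e h).symm τ) x
  rw [MulEquiv.apply_symm_apply] at this
  exact this.symm

/-- multiple transitivity is transported. -/
theorem pretransitive_of_iso (e : α ≃ β) {B : Set (Finset α)} {B' : Set (Finset β)}
    (h : imgSys e B = B') (n : ℕ) (hn : MulAction.IsMultiplyPretransitive (setSystemAut B') β n) :
    MulAction.IsMultiplyPretransitive (setSystemAut B) α n := by
  refine ⟨fun x y => ?_⟩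
  obtain ⟨g, hg⟩ := hn.exists_smul_eq (x.trans e.toEmbedding) (y.trans e.toEmbedding)
  refine ⟨(autIso e h).symm g, ?_⟩
  ext i
  apply e.injective
  have h1 := DFunLike.congr_fun hg i
  show e (((autIso e h).symm g).1 (x i)) = e (y i)
  rw [autIso_symm_apply]
  exact h1

end

end Cfsg.Agent.Lib.Helper95.St24
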