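import Mathlib
import Cfsg.Agent.Lib.Helper95.SteinerLeech
import Cfsg.Agent.Lib.Helper95.GolayDodecad

set_option autoImplicit false
set_option linter.unusedSectionVars false
set_option linter.unusedVariables false

/-! Basic facts on a projective plane of order 4, given as a Steiner system S(2, 5, 21):
two lines meet in exactly one point, five lines through each point, arcs and their secants. -/

namespace Cfsg.Agent.Lib.Helper95

open Cfsg.Agent.Lib.Helper09

section Plane

variable {α : Type*} [Fintype α] [DecidableEq α] (hα : Fintype.card α = 21)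
  {L : Set (Finset α)} (hL : Cfsg.IsSteinerSystem 2 5 L)

/-- Numbers of lines through an `i`-subset of a line. -/
def p4lam : ℕ → ℕ
  | 0 => 21
  | 1 => 5
  | _ => 1

/-- Numbers of lines meeting a line exactly in a given `i`-subset. -/
def p4G : ℕ → ℕ
  | 1 => 4
  | 5 => 1
  | _ => 0

include hα hL in
theorem p4_lines_through (p : α) : ((blocks L).filter (p ∈ ·)).card = 5 := by
  have h := card_blocks_through_eq hL 1 5 (by norm_num) (by decide) (by rw [hα]; decide) {p}
    (Finset.card_singleton p)
  rw [← h]
  congr 1
  ext l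
  simp

include hα hL in
theorem p4_table (l : Finset α) (hl : l ∈ L) :
    ∀ s : Finset α, s ⊆ l → meetCount L l s = p4G s.card := by
  have hlk : l.card = 5 := hL.1 l hl
  have hlam : ∀ s : Finset α, s ⊆ l → ((blocks L).filter (s ⊆ ·)).card = p4lam s.card := by
    intro s hsl
    have hle : s.card ≤ 5 := by rw [← hlk]; exact Finset.card_le_card hsl
    rcases Nat.lt_or_ge s.card 2 with h | h
    · obtain ⟨i, hi⟩ : ∃ i, s.card = i := ⟨_, rfl⟩
      rw [hi]
      rw [hi] at h
      interval_cases i
      · exact card_blocks_through_eq hL 0 21 (by norm_num) (by decide) (by rw [hα]; decide) s hi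
      · exact card_blocks_through_eq hL 1 5 (by norm_num) (by decide) (by rw [hα]; decide) s hi
    · rw [blocks_through_of_le hL hl s hsl h]
      obtain ⟨i, hi⟩ : ∃ i, s.card = i := ⟨_, rfl⟩
      rw [hi]
      rw [hi] at h hle
      interval_cases i <;> rfl
  apply leech_table L l p4lam p4G hlam
  rw [hlk]
  intro i hi
  interval_cases i <;> decide

include hα hL in
/-- Two distinct lines meet in exactly one point. -/
theorem p4_inter_card {l m : Finset α} (hl : l ∈ L) (hm : m ∈ L) (hne : l ≠ m) :
    (l ∩ m).card = 1 := by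
  have hlt := card_inter_lt hL hl hm hne
  have hpos := meetCount_pos_of_mem L l m hm
  rw [p4_table hα hL l hl (l ∩ m) Finset.inter_subset_left] at hpos
  obtain ⟨i, hi⟩ : ∃ i, (l ∩ m).card = i := ⟨_, rfl⟩
  rw [hi] at hpos hlt ⊢
  interval_cases i
  · exact absurd hpos (by decide)
  · rfl

include hL in
theorem p4_line_unique {l m : Finset α} (hl : l ∈ L) (hm : m ∈ L) {p q : α} (hpq : p ≠ q)
    (hpl : p ∈ l) (hql : q ∈ l) (hpm : p ∈ m) (hqm : q ∈ m) : l = m := by
  apply block_eq_of_subset hL (s := {p, q}) (Finset.card_pair hpq) hl hm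
  · intro x hx
    rw [Finset.mem_insert, Finset.mem_singleton] at hx
    rcases hx with rfl | rfl <;> assumption
  · intro x hx
    rw [Finset.mem_insert, Finset.mem_singleton] at hx
    rcases hx with rfl | rfl <;> assumption

include hL in
theorem p4_exists_line {p q : α} (hpq : p ≠ q) : ∃ l ∈ L, p ∈ l ∧ q ∈ l := by
  obtain ⟨l, ⟨hl, hsub⟩, -⟩ := hL.2 {p, q} (Finset.card_pair hpq)
  exact ⟨l, hl, hsub (Finset.mem_insert_self _ _),
    hsub (Finset.mem_insert_of_mem (Finset.mem_singleton_self _))⟩

/-- An arc: no line meets it in more than two points. -/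
def IsArc (L : Set (Finset α)) (S : Finset α) : Prop := ∀ l ∈ L, (l ∩ S).card ≤ 2

theorem IsArc.subset {S T : Finset α} (hT : IsArc L T) (hST : S ⊆ T) : IsArc L S := by
  intro l hl
  exact le_trans (Finset.card_le_card (Finset.inter_subset_inter_left hST)) (hT l hl)

theorem isArc_of_card_le_two (S : Finset α) (hS : S.card ≤ 2) : IsArc L S := by
  intro l _
  exact le_trans (Finset.card_le_card Finset.inter_subset_right) hS

/-- The secants of `S`: lines meeting it in at least two points. -/
noncomputable def secants (L : Set (Finset α)) (S : Finset α) : Finset (Finset α) :=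
  (blocks L).filter (fun l => 2 ≤ (l ∩ S).card)

theorem mem_secants {S l : Finset α} : l ∈ secants L S ↔ l ∈ L ∧ 2 ≤ (l ∩ S).card := by
  unfold secants
  rw [Finset.mem_filter, mem_blocks]

/-- The points that extend `S` to a larger arc. -/
noncomputable def arcExt (L : Set (Finset α)) (S : Finset α) : Finset α :=
  haveI := Classical.decPred (fun x => x ∉ S ∧ IsArc L (insert x S))
  Finset.univ.filter (fun x => x ∉ S ∧ IsArc L (insert x S))

theorem mem_arcExt {S : Finset α} {x : α} : x ∈ arcExt L S ↔ x ∉ S ∧ IsArc L (insert x S) := by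
  unfold arcExt
  simp

/-- A point outside an arc extends it iff it lies on no secant. -/
theorem isArc_insert_iff {S : Finset α} (hS : IsArc L S) {x : α} (hx : x ∉ S) :
    IsArc L (insert x S) ↔ ∀ l ∈ secants L S, x ∉ l := by
  constructor
  · intro h l hl hxl
    rw [mem_secants] at hl
    have := h l hl.1
    rw [Finset.inter_insert_of_mem hxl, Finset.card_insert_of_notMem] at this
    · omega
    · intro hx'
      exact hx (Finset.mem_inter.mp hx').2
  · intro h l hl
    by_cases hxl : x ∈ l
    · rw [Finset.inter_insert_of_mem hxl, Finset.card_insert_of_notMem]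
      · by_contra hlt
        push Not at hlt
        exact h l (mem_secants.mpr ⟨hl, by omega⟩) hxl
      · intro hx'
        exact hx (Finset.mem_inter.mp hx').2
    · rw [Finset.inter_insert_of_notMem hxl]
      exact hS l hl

theorem mem_arcExt_iff {S : Finset α} (hS : IsArc L S) {x : α} :
    x ∈ arcExt L S ↔ x ∉ S ∧ ∀ l ∈ secants L S, x ∉ l := by
  rw [mem_arcExt]
  constructor
  · rintro ⟨h1, h2⟩
    exact ⟨h1, (isArc_insert_iff hS h1).mp h2⟩
  · rintro ⟨h1, h2⟩
    exact ⟨h1, (isArc_insert_iff hS h1).mpr h2⟩

include hα hL in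
/-- The number of secants of a `k`-arc is `C(k, 2)`. -/
theorem card_secants {S : Finset α} (hS : IsArc L S) :
    (secants L S).card = Nat.choose S.card 2 := by
  classical
  have h := sum_choose_inter_any L S 2 1
    (card_blocks_through_eq hL 2 1 (by norm_num) (by decide) (by rw [hα]; decide))
  rw [mul_one] at h
  rw [← h]
  unfold secants
  rw [Finset.card_filter]
  apply Finset.sum_congr rfl
  intro l hl
  rw [mem_blocks] at hl
  have := hS l hl
  rw [Finset.inter_comm] at this
  rw [Finset.inter_comm l S]
  obtain ⟨i, hi⟩ : ∃ i, (S ∩ l).card = i := ⟨_, rfl⟩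
  rw [hi] at this ⊢
  interval_cases i <;> rfl

end Plane

end Cfsg.Agent.Lib.Helper95
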