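import Mathlib
import Cfsg.Agent.Lib.Helper95.Plane4Basic

set_option autoImplicit false
set_option linter.unusedSectionVars false
set_option linter.unusedVariables false

/-! Extension counts for small arcs in a projective plane of order 4, and the double counting
relating the numbers of `k`-arcs and `(k+1)`-arcs. -/

namespace Cfsg.Agent.Lib.Helper95

open Cfsg.Agent.Lib.Helper09

section Plane

variable {α : Type*} [Fintype α] [DecidableEq α] (hα : Fintype.card α = 21)
  {L : Set (Finset α)} (hL : Cfsg.IsSteinerSystem 2 5 L)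

include hL in
theorem card_sdiff_of_mem_secants {S l : Finset α} (hS : IsArc L S) (hl : l ∈ secants L S) :
    (l \ S).card = 3 := by
  rw [mem_secants] at hl
  have h1 := hS l hl.1
  have h2 := Finset.card_sdiff_add_card_inter l S
  rw [hL.1 l hl.1] at h2
  omega

include hα hL in
/-- Two distinct secants of a set with at most three points meet in a point of the set. -/
theorem secants_inter_subset {S l l' : Finset α} (hS3 : S.card ≤ 3) (hl : l ∈ secants L S)
    (hl' : l' ∈ secants L S) (hne : l ≠ l') : l ∩ l' ⊆ S := by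
  rw [mem_secants] at hl hl'
  have h1 := Finset.card_union_add_card_inter (l ∩ S) (l' ∩ S)
  have h2 : ((l ∩ S) ∪ (l' ∩ S)).card ≤ S.card :=
    Finset.card_le_card (Finset.union_subset Finset.inter_subset_right Finset.inter_subset_right)
  have h3 : 0 < ((l ∩ S) ∩ (l' ∩ S)).card := by omega
  obtain ⟨s, hs⟩ := Finset.card_pos.mp h3
  rw [Finset.mem_inter, Finset.mem_inter, Finset.mem_inter] at hs
  have hcard := p4_inter_card hα hL hl.1 hl'.1 hne
  obtain ⟨y, hy⟩ := Finset.card_eq_one.mp hcard
  have hsy : s ∈ l ∩ l' := Finset.mem_inter.mpr ⟨hs.1.1, hs.2.1⟩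
  rw [hy, Finset.mem_singleton] at hsy
  rw [hy, ← hsy]
  exact Finset.singleton_subset_iff.mpr hs.1.2

include hα hL in
/-- The number of one-point extensions of an arc with at most three points. -/
theorem card_arcExt_small {S : Finset α} (hS : IsArc L S) (hS3 : S.card ≤ 3) :
    (arcExt L S).card + S.card + 3 * Nat.choose S.card 2 = 21 := by
  classical
  set U := (secants L S).biUnion (fun l => l \ S) with hU
  have hUcard : U.card = 3 * Nat.choose S.card 2 := by
    rw [hU, Finset.card_biUnion]
    · rw [Finset.sum_congr rfl (fun l hl => card_sdiff_of_mem_secants hL hS hl), Finset.sum_const,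
        smul_eq_mul, card_secants hα hL hS, mul_comm]
    · intro l hl l' hl' hne
      show Disjoint (l \ S) (l' \ S)
      rw [Finset.disjoint_left]
      intro x hx hx'
      rw [Finset.mem_sdiff] at hx hx'
      have := secants_inter_subset hα hL hS3 hl hl' hne (Finset.mem_inter.mpr ⟨hx.1, hx'.1⟩)
      exact hx.2 this
  have hdisj : Disjoint S U := by
    rw [Finset.disjoint_left]
    intro x hxS hxU
    rw [hU, Finset.mem_biUnion] at hxU
    obtain ⟨l, -, hxl⟩ := hxU
    exact (Finset.mem_sdiff.mp hxl).2 hxS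
  have hext : arcExt L S = (S ∪ U)ᶜ := by
    ext x
    rw [mem_arcExt_iff hS, Finset.mem_compl, Finset.mem_union, hU, Finset.mem_biUnion]
    constructor
    · rintro ⟨h1, h2⟩ (h | ⟨l, hl, hxl⟩)
      · exact h1 h
      · exact h2 l hl (Finset.mem_sdiff.mp hxl).1
    · intro h
      refine ⟨fun hx => h (Or.inl hx), fun l hl hxl => ?_⟩
      by_cases hxS : x ∈ S
      · exact h (Or.inl hxS)
      · exact h (Or.inr ⟨l, hl, Finset.mem_sdiff.mpr ⟨hxl, hxS⟩⟩)
  rw [hext, Finset.card_compl, Finset.card_union_of_disjoint hdisj, hUcard, hα]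
  have : S.card + 3 * Nat.choose S.card 2 ≤ 21 := by
    have h1 : Nat.choose S.card 2 ≤ 3 := by
      obtain ⟨i, hi⟩ : ∃ i, S.card = i := ⟨_, rfl⟩
      rw [hi] at hS3 ⊢
      interval_cases i <;> decide
    omega
  omega

/-- The `k`-arcs, as a finset. -/
noncomputable def arcs (L : Set (Finset α)) (k : ℕ) : Finset (Finset α) :=
  haveI := Classical.decPred (fun S : Finset α => S.card = k ∧ IsArc L S)
  Finset.univ.filter (fun S : Finset α => S.card = k ∧ IsArc L S)

theorem mem_arcs {k : ℕ} {S : Finset α} : S ∈ arcs L k ↔ S.card = k ∧ IsArc L S := by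
  unfold arcs
  simp

/-- Double counting of pairs (`k`-arc, extension point). -/
theorem card_arcs_succ (k e : ℕ) (he : ∀ S ∈ arcs L k, (arcExt L S).card = e) :
    (arcs L k).card * e = (arcs L (k + 1)).card * (k + 1) := by
  classical
  have h1 : ((arcs L k).sigma (fun S => arcExt L S)).card = (arcs L k).card * e := by
    rw [Finset.card_sigma, Finset.sum_congr rfl he, Finset.sum_const, smul_eq_mul]
  have h2 : ((arcs L (k + 1)).sigma (fun T => T)).card = (arcs L (k + 1)).card * (k + 1) := by
    rw [Finset.card_sigma,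
      Finset.sum_congr rfl (fun T hT => (mem_arcs.mp hT).1), Finset.sum_const, smul_eq_mul]
  rw [← h1, ← h2]
  apply Finset.card_nbij' (fun p => ⟨insert p.2 p.1, p.2⟩) (fun p => ⟨p.1.erase p.2, p.2⟩)
  · rintro ⟨S, x⟩ hp
    simp only [Finset.coe_sigma, Set.mem_sigma_iff, Finset.mem_coe] at hp ⊢
    obtain ⟨hS, hx⟩ := hp
    rw [mem_arcs] at hS
    rw [mem_arcExt] at hx
    refine ⟨mem_arcs.mpr ⟨?_, hx.2⟩, Finset.mem_insert_self _ _⟩
    rw [Finset.card_insert_of_notMem hx.1, hS.1]
  · rintro ⟨T, x⟩ hp
    simp only [Finset.coe_sigma, Set.mem_sigma_iff, Finset.mem_coe] at hp ⊢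
    obtain ⟨hT, hx⟩ := hp
    rw [mem_arcs] at hT
    refine ⟨mem_arcs.mpr ⟨?_, hT.2.subset (Finset.erase_subset _ _)⟩, ?_⟩
    · rw [Finset.card_erase_of_mem hx, hT.1]
      rfl
    · rw [mem_arcExt, Finset.insert_erase hx]
      exact ⟨Finset.notMem_erase _ _, hT.2⟩
  · rintro ⟨S, x⟩ hp
    simp only [Finset.coe_sigma, Set.mem_sigma_iff, Finset.mem_coe] at hp
    obtain ⟨-, hx⟩ := hp
    rw [mem_arcExt] at hx
    simp only [Finset.erase_insert hx.1]
  · rintro ⟨T, x⟩ hp
    simp only [Finset.coe_sigma, Set.mem_sigma_iff, Finset.mem_coe] at hp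
    obtain ⟨-, hx⟩ := hp
    simp only [Finset.insert_erase hx]

include hα hL in
theorem card_arcs_two : (arcs L 2).card = 210 := by
  classical
  have : arcs L 2 = Finset.powersetCard 2 (Finset.univ : Finset α) := by
    ext S
    rw [mem_arcs, Finset.mem_powersetCard]
    constructor
    · rintro ⟨h, -⟩
      exact ⟨Finset.subset_univ _, h⟩
    · rintro ⟨-, h⟩
      exact ⟨h, isArc_of_card_le_two S h.le⟩
  rw [this, Finset.card_powersetCard, Finset.card_univ, hα]
  decide

include hα hL in
theorem card_arcs_three : (arcs L 3).card = 1120 := by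
  have h := card_arcs_succ (L := L) 2 16 (by
    intro S hS
    rw [mem_arcs] at hS
    have := card_arcExt_small hα hL hS.2 (by omega)
    rw [hS.1] at this
    have h2 : Nat.choose 2 2 = 1 := by decide
    omega)
  rw [card_arcs_two hα hL] at h
  simp only [Nat.reduceAdd] at h
  omega

include hα hL in
theorem card_arcs_four : (arcs L 4).card = 2520 := by
  have h := card_arcs_succ (L := L) 3 9 (by
    intro S hS
    rw [mem_arcs] at hS
    have := card_arcExt_small hα hL hS.2 (by omega)
    rw [hS.1] at this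
    have h2 : Nat.choose 3 2 = 3 := by decide
    omega)
  rw [card_arcs_three hα hL] at h
  simp only [Nat.reduceAdd] at h
  omega

end Plane

end Cfsg.Agent.Lib.Helper95
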