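import Mathlib
import Cfsg.Agent.Lib.Helper95.Plane4Ext

set_option autoImplicit false
set_option linter.unusedSectionVars false
set_option linter.unusedVariables false

/-! In a projective plane of order 4 every 4-arc has exactly two extension points, and together
with them it forms the unique hyperoval containing it. -/

namespace Cfsg.Agent.Lib.Helper95

open Cfsg.Agent.Lib.Helper09

section Plane

variable {α : Type*} [Fintype α] [DecidableEq α] (hα : Fintype.card α = 21)
  {L : Set (Finset α)} (hL : Cfsg.IsSteinerSystem 2 5 L)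

theorem secants_mono {S S' : Finset α} (h : S' ⊆ S) : secants L S' ⊆ secants L S := by
  intro l hl
  rw [mem_secants] at hl ⊢
  exact ⟨hl.1, le_trans hl.2 (Finset.card_le_card (Finset.inter_subset_inter_left h))⟩

include hα hL in
/-- On a tangent at a point of a 4-arc there is exactly one extension point. -/
theorem tangent_inter_arcExt {S : Finset α} (hS : IsArc L S) (hS4 : S.card = 4) {a : α}
    (ha : a ∈ S) {T : Finset α} (hT : T ∈ L) (hTS : T ∩ S = {a}) :
    (T ∩ arcExt L S).card = 1 := by
  classical
  have haT : a ∈ T := by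
    have : a ∈ T ∩ S := by rw [hTS]; exact Finset.mem_singleton_self a
    exact (Finset.mem_inter.mp this).1
  set S' := S.erase a with hS'
  have hS'sub : S' ⊆ S := Finset.erase_subset _ _
  have hS'card : S'.card = 3 := by rw [hS', Finset.card_erase_of_mem ha, hS4]
  have hS'arc : IsArc L S' := hS.subset hS'sub
  have hsec3 : (secants L S').card = 3 := by
    rw [card_secants hα hL hS'arc, hS'card]
    decide
  -- no secant of S' passes through a
  have ha_notin : ∀ l ∈ secants L S', a ∉ l := by
    intro l hl hal
    rw [mem_secants] at hl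
    have h1 := hS l hl.1
    have h2 : insert a (l ∩ S') ⊆ l ∩ S := by
      intro x hx
      rw [Finset.mem_insert] at hx
      rcases hx with rfl | hx
      · exact Finset.mem_inter.mpr ⟨hal, ha⟩
      · exact Finset.mem_inter.mpr ⟨(Finset.mem_inter.mp hx).1, hS'sub (Finset.mem_inter.mp hx).2⟩
    have h3 : (insert a (l ∩ S')).card = (l ∩ S').card + 1 := by
      apply Finset.card_insert_of_notMem
      intro h
      exact Finset.notMem_erase a S (Finset.mem_inter.mp h).2
    have := Finset.card_le_card h2
    omega
  have hcard1 : ∀ l ∈ secants L S', (l ∩ T).card = 1 := by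
    intro l hl
    have hlL := (mem_secants.mp hl).1
    apply p4_inter_card hα hL hlL hT
    rintro rfl
    exact ha_notin _ hl haT
  set W := (secants L S').biUnion (fun l => l ∩ T) with hW
  have hWcard : W.card = 3 := by
    rw [hW, Finset.card_biUnion]
    · rw [Finset.sum_congr rfl hcard1, Finset.sum_const, smul_eq_mul, mul_one, hsec3]
    · intro l hl l' hl' hne
      show Disjoint (l ∩ T) (l' ∩ T)
      rw [Finset.disjoint_left]
      intro x hx hx'
      rw [Finset.mem_inter] at hx hx'
      have hxS' : x ∈ S' :=
        secants_inter_subset hα hL (by omega) hl hl' hne (Finset.mem_inter.mpr ⟨hx.1, hx'.1⟩)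
      have hxa : x ∈ T ∩ S := Finset.mem_inter.mpr ⟨hx.2, hS'sub hxS'⟩
      rw [hTS, Finset.mem_singleton] at hxa
      rw [hxa] at hxS'
      exact Finset.notMem_erase a S hxS'
  have haW : a ∉ W := by
    intro h
    rw [hW, Finset.mem_biUnion] at h
    obtain ⟨l, hl, hal⟩ := h
    exact ha_notin l hl (Finset.mem_inter.mp hal).1
  have hWT : insert a W ⊆ T := by
    intro x hx
    rw [Finset.mem_insert] at hx
    rcases hx with rfl | hx
    · exact haT
    · rw [hW, Finset.mem_biUnion] at hx
      obtain ⟨l, -, hxl⟩ := hx
      exact (Finset.mem_inter.mp hxl).2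
  have hEq : T ∩ arcExt L S = T \ insert a W := by
    ext x
    rw [Finset.mem_inter, Finset.mem_sdiff, mem_arcExt_iff hS, Finset.mem_insert]
    constructor
    · rintro ⟨hxT, hxS, hxsec⟩
      refine ⟨hxT, ?_⟩
      rintro (rfl | hxW)
      · exact hxS ha
      · rw [hW, Finset.mem_biUnion] at hxW
        obtain ⟨l, hl, hxl⟩ := hxW
        exact hxsec l (secants_mono hS'sub hl) (Finset.mem_inter.mp hxl).1
    · rintro ⟨hxT, hx⟩
      push Not at hx
      have hxS : x ∉ S := by
        intro h
        have : x ∈ T ∩ S := Finset.mem_inter.mpr ⟨hxT, h⟩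
        rw [hTS, Finset.mem_singleton] at this
        exact hx.1 this
      refine ⟨hxT, hxS, ?_⟩
      intro l hl hxl
      have hlL := (mem_secants.mp hl).1
      by_cases hal : a ∈ l
      · have : l = T := p4_line_unique hL hlL hT (Ne.symm hx.1) hal hxl haT hxT
        have h2 := (mem_secants.mp hl).2
        rw [this, hTS, Finset.card_singleton] at h2
        omega
      · apply hx.2
        rw [hW, Finset.mem_biUnion]
        refine ⟨l, ?_, Finset.mem_inter.mpr ⟨hxl, hxT⟩⟩
        rw [mem_secants]
        refine ⟨hlL, ?_⟩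
        have : l ∩ S' = l ∩ S := by
          rw [hS', Finset.inter_erase, Finset.erase_eq_of_notMem]
          intro h
          exact hal (Finset.mem_inter.mp h).1
        rw [this]
        exact (mem_secants.mp hl).2
  rw [hEq, Finset.card_sdiff_of_subset hWT, Finset.card_insert_of_notMem haW, hWcard, hL.1 T hT]

include hα hL in
/-- Exactly two tangents at each point of a 4-arc. -/
theorem card_tangents {S : Finset α} (hS : IsArc L S) (hS4 : S.card = 4) {a : α} (ha : a ∈ S) :
    (((blocks L).filter (a ∈ ·)).filter (fun l => l ∩ S = {a})).card = 2 := by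
  classical
  set La := (blocks L).filter (a ∈ ·) with hLa
  have hLa5 : La.card = 5 := p4_lines_through hα hL a
  set S' := S.erase a with hS'
  have hS'card : S'.card = 3 := by rw [hS', Finset.card_erase_of_mem ha, hS4]
  have hpair : ∀ s ∈ S', ({a, s} : Finset α).card = 2 := by
    intro s hs
    exact Finset.card_pair (Finset.ne_of_mem_erase hs).symm
  set f : α → Finset α := fun s => blockOf hL {a, s} with hf
  have hfspec : ∀ s ∈ S', f s ∈ L ∧ a ∈ f s ∧ s ∈ f s := by
    intro s hs
    have := blockOf_spec hL (hpair s hs)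
    exact ⟨this.1, this.2 (Finset.mem_insert_self _ _),
      this.2 (Finset.mem_insert_of_mem (Finset.mem_singleton_self _))⟩
  have hinj : Set.InjOn f (S' : Set α) := by
    intro s hs s' hs' hEq
    by_contra hne
    have h1 := hfspec s hs
    have h2 := hfspec s' hs'
    rw [← hEq] at h2
    have hsub : ({a, s, s'} : Finset α) ⊆ f s ∩ S := by
      intro x hx
      rw [Finset.mem_insert, Finset.mem_insert, Finset.mem_singleton] at hx
      rcases hx with rfl | rfl | rfl
      · exact Finset.mem_inter.mpr ⟨h1.2.1, ha⟩
      · exact Finset.mem_inter.mpr ⟨h1.2.2, Finset.erase_subset _ _ hs⟩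
      · exact Finset.mem_inter.mpr ⟨h2.2.2, Finset.erase_subset _ _ hs'⟩
    have hc3 : ({a, s, s'} : Finset α).card = 3 := by
      rw [Finset.card_insert_of_notMem, Finset.card_pair hne]
      rw [Finset.mem_insert, Finset.mem_singleton]
      rintro (h | h)
      · exact (Finset.ne_of_mem_erase hs) h.symm
      · exact (Finset.ne_of_mem_erase hs') h.symm
    have := Finset.card_le_card hsub
    have := hS (f s) h1.1
    omega
  have himage : La.filter (fun l => ¬ (l ∩ S = {a})) = S'.image f := by
    ext l
    rw [Finset.mem_filter, hLa, Finset.mem_filter, mem_blocks, Finset.mem_image]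
    constructor
    · rintro ⟨⟨hlL, hal⟩, hne⟩
      have : ∃ s ∈ l ∩ S, s ≠ a := by
        by_contra hcon
        push Not at hcon
        apply hne
        ext x
        rw [Finset.mem_singleton]
        constructor
        · exact hcon x
        · rintro rfl
          exact Finset.mem_inter.mpr ⟨hal, ha⟩
      obtain ⟨s, hs, hsa⟩ := this
      rw [Finset.mem_inter] at hs
      have hsS' : s ∈ S' := Finset.mem_erase.mpr ⟨hsa, hs.2⟩
      refine ⟨s, hsS', ?_⟩
      apply blockOf_eq hL (hpair s hsS') hlL
      intro x hx
      rw [Finset.mem_insert, Finset.mem_singleton] at hx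
      rcases hx with rfl | rfl
      · exact hal
      · exact hs.1
    · rintro ⟨s, hs, rfl⟩
      have h1 := hfspec s hs
      refine ⟨⟨h1.1, h1.2.1⟩, ?_⟩
      intro hEq
      have : s ∈ f s ∩ S := Finset.mem_inter.mpr ⟨h1.2.2, Finset.erase_subset _ _ hs⟩
      rw [hEq, Finset.mem_singleton] at this
      exact (Finset.ne_of_mem_erase hs) this
  have h3 : (La.filter (fun l => ¬ (l ∩ S = {a}))).card = 3 := by
    rw [himage, Finset.card_image_of_injOn hinj, hS'card]
  have := Finset.card_filter_add_card_filter_not (s := La) (fun l => l ∩ S = {a})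
  omega

include hα hL in
/-- A 4-arc has exactly two extension points. -/
theorem card_arcExt_four {S : Finset α} (hS : IsArc L S) (hS4 : S.card = 4) :
    (arcExt L S).card = 2 := by
  classical
  obtain ⟨a, ha⟩ : S.Nonempty := by
    rw [← Finset.card_pos, hS4]; norm_num
  set Ta := ((blocks L).filter (a ∈ ·)).filter (fun l => l ∩ S = {a}) with hTa
  have hTa2 : Ta.card = 2 := card_tangents hα hL hS hS4 ha
  have hne : ∀ x ∈ arcExt L S, ({a, x} : Finset α).card = 2 := by
    intro x hx
    apply Finset.card_pair
    rintro rfl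
    exact (mem_arcExt.mp hx).1 ha
  set g : α → Finset α := fun x => blockOf hL {a, x} with hg
  have hgspec : ∀ x ∈ arcExt L S, g x ∈ L ∧ a ∈ g x ∧ x ∈ g x := by
    intro x hx
    have := blockOf_spec hL (hne x hx)
    exact ⟨this.1, this.2 (Finset.mem_insert_self _ _),
      this.2 (Finset.mem_insert_of_mem (Finset.mem_singleton_self _))⟩
  have hmaps : ∀ x ∈ arcExt L S, g x ∈ Ta := by
    intro x hx
    have h1 := hgspec x hx
    rw [hTa, Finset.mem_filter, Finset.mem_filter, mem_blocks]
    refine ⟨⟨h1.1, h1.2.1⟩, ?_⟩
    ext s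
    rw [Finset.mem_singleton, Finset.mem_inter]
    constructor
    · rintro ⟨hs1, hs2⟩
      by_contra hsa
      have hsec : g x ∈ secants L S := by
        rw [mem_secants]
        refine ⟨h1.1, ?_⟩
        have hsub : ({a, s} : Finset α) ⊆ g x ∩ S := by
          intro y hy
          rw [Finset.mem_insert, Finset.mem_singleton] at hy
          rcases hy with rfl | rfl
          · exact Finset.mem_inter.mpr ⟨h1.2.1, ha⟩
          · exact Finset.mem_inter.mpr ⟨hs1, hs2⟩
        have := Finset.card_le_card hsub
        rw [Finset.card_pair (Ne.symm hsa)] at this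
        exact this
      exact ((mem_arcExt_iff hS).mp hx).2 _ hsec h1.2.2
    · rintro rfl
      exact ⟨h1.2.1, ha⟩
  rw [Finset.card_eq_sum_card_fiberwise hmaps]
  have hfib : ∀ T ∈ Ta, ((arcExt L S).filter (fun x => g x = T)).card = 1 := by
    intro T hT
    rw [hTa, Finset.mem_filter, Finset.mem_filter, mem_blocks] at hT
    rw [← tangent_inter_arcExt hα hL hS hS4 ha hT.1.1 hT.2]
    congr 1
    ext x
    rw [Finset.mem_filter, Finset.mem_inter]
    constructor
    · rintro ⟨hx, rfl⟩
      exact ⟨(hgspec x hx).2.2, hx⟩
    · rintro ⟨hxT, hx⟩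
      refine ⟨hx, ?_⟩
      apply blockOf_eq hL (hne x hx) hT.1.1
      intro y hy
      rw [Finset.mem_insert, Finset.mem_singleton] at hy
      rcases hy with rfl | rfl
      · exact hT.1.2
      · exact hxT
  rw [Finset.sum_congr rfl hfib, Finset.sum_const, smul_eq_mul, mul_one, hTa2]

include hα hL in
/-- A 4-arc together with its two extension points is an arc. -/
theorem isArc_union_arcExt {S : Finset α} (hS : IsArc L S) (hS4 : S.card = 4) :
    IsArc L (S ∪ arcExt L S) := by
  classical
  intro l hl
  rw [Finset.inter_union_distrib_left]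
  have hle := Finset.card_union_le (l ∩ S) (l ∩ arcExt L S)
  have h2 := hS l hl
  by_cases hsec : 2 ≤ (l ∩ S).card
  · -- a secant carries no extension point
    have : l ∩ arcExt L S = ∅ := by
      rw [Finset.eq_empty_iff_forall_notMem]
      intro x hx
      rw [Finset.mem_inter] at hx
      exact ((mem_arcExt_iff hS).mp hx.2).2 l (mem_secants.mpr ⟨hl, hsec⟩) hx.1
    rw [this, Finset.union_empty]
    exact h2
  · push Not at hsec
    by_cases h0 : (l ∩ S).card = 0
    · have h3 : (l ∩ arcExt L S).card ≤ 2 := by
        rw [← card_arcExt_four hα hL hS hS4]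
        exact Finset.card_le_card Finset.inter_subset_right
      omega
    · have h1 : (l ∩ S).card = 1 := by omega
      obtain ⟨a, hEq⟩ := Finset.card_eq_one.mp h1
      have ha : a ∈ S := by
        have : a ∈ l ∩ S := by rw [hEq]; exact Finset.mem_singleton_self a
        exact (Finset.mem_inter.mp this).2
      have := tangent_inter_arcExt hα hL hS hS4 ha hl hEq
      omega

include hα hL in
/-- Every 4-arc lies in a unique hyperoval, namely its union with its extension points. -/
theorem hyperoval_unique {S H : Finset α} (hS : IsArc L S) (hS4 : S.card = 4)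
    (hH : IsArc L H) (hH6 : H.card = 6) (hSH : S ⊆ H) : H = S ∪ arcExt L S := by
  classical
  have hsub : H \ S ⊆ arcExt L S := by
    intro x hx
    rw [Finset.mem_sdiff] at hx
    rw [mem_arcExt]
    refine ⟨hx.2, hH.subset ?_⟩
    intro y hy
    rw [Finset.mem_insert] at hy
    rcases hy with rfl | hy
    · exact hx.1
    · exact hSH hy
  have hcard : (H \ S).card = 2 := by
    rw [Finset.card_sdiff_of_subset hSH, hH6, hS4]
  have hEq : H \ S = arcExt L S :=
    Finset.eq_of_subset_of_card_le hsub (by rw [hcard, card_arcExt_four hα hL hS hS4])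
  rw [← hEq, Finset.union_sdiff_of_subset hSH]

include hα hL in
theorem card_union_arcExt {S : Finset α} (hS : IsArc L S) (hS4 : S.card = 4) :
    (S ∪ arcExt L S).card = 6 := by
  classical
  rw [Finset.card_union_of_disjoint, hS4, card_arcExt_four hα hL hS hS4]
  rw [Finset.disjoint_left]
  intro x hx hx'
  exact (mem_arcExt.mp hx').1 hx

include hα hL in
/-- There are 168 hyperovals. -/
theorem card_arcs_six : (arcs L 6).card = 168 := by
  classical
  have hmaps : ∀ S ∈ arcs L 4, S ∪ arcExt L S ∈ arcs L 6 := by
    intro S hS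
    rw [mem_arcs] at hS
    rw [mem_arcs]
    exact ⟨card_union_arcExt hα hL hS.2 hS.1, isArc_union_arcExt hα hL hS.2 hS.1⟩
  have h := Finset.card_eq_sum_card_fiberwise hmaps
  have hfib : ∀ H ∈ arcs L 6, ((arcs L 4).filter (fun S => S ∪ arcExt L S = H)).card = 15 := by
    intro H hH
    rw [mem_arcs] at hH
    have : (arcs L 4).filter (fun S => S ∪ arcExt L S = H) = Finset.powersetCard 4 H := by
      ext S
      rw [Finset.mem_filter, mem_arcs, Finset.mem_powersetCard]
      constructor
      · rintro ⟨⟨h4, -⟩, rfl⟩
        exact ⟨Finset.subset_union_left, h4⟩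
      · rintro ⟨hSH, h4⟩
        have hSarc := hH.2.subset hSH
        exact ⟨⟨h4, hSarc⟩, (hyperoval_unique hα hL hSarc h4 hH.2 hH.1 hSH).symm⟩
    rw [this, Finset.card_powersetCard, hH.1]
    decide
  rw [Finset.sum_congr rfl hfib, Finset.sum_const, smul_eq_mul, card_arcs_four hα hL] at h
  omega

end Plane

end Cfsg.Agent.Lib.Helper95
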