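import Mathlib
import Cfsg.Agent.Lib.Helper95.Plane4Hyperoval

set_option autoImplicit false
set_option linter.unusedSectionVars false
set_option linter.unusedVariables false

/-! Hyperovals in a projective plane of order 4: every line is a secant or a passant, and each
point off the hyperoval pairs up the points of the hyperoval. -/

namespace Cfsg.Agent.Lib.Helper95

open Cfsg.Agent.Lib.Helper09

section Plane

variable {α : Type*} [Fintype α] [DecidableEq α] (hα : Fintype.card α = 21)
  {L : Set (Finset α)} (hL : Cfsg.IsSteinerSystem 2 5 L)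

/-- The line through two points. -/
noncomputable def ln (hL : Cfsg.IsSteinerSystem 2 5 L) (p q : α) : Finset α := blockOf hL {p, q}

theorem ln_spec {p q : α} (hpq : p ≠ q) : ln hL p q ∈ L ∧ p ∈ ln hL p q ∧ q ∈ ln hL p q := by
  have := blockOf_spec hL (Finset.card_pair hpq)
  exact ⟨this.1, this.2 (Finset.mem_insert_self _ _),
    this.2 (Finset.mem_insert_of_mem (Finset.mem_singleton_self _))⟩

theorem ln_eq {p q : α} (hpq : p ≠ q) {l : Finset α} (hl : l ∈ L) (hp : p ∈ l) (hq : q ∈ l) :
    ln hL p q = l := by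
  apply blockOf_eq hL (Finset.card_pair hpq) hl
  intro x hx
  rw [Finset.mem_insert, Finset.mem_singleton] at hx
  rcases hx with rfl | rfl <;> assumption

theorem ln_comm {p q : α} (hpq : p ≠ q) : ln hL p q = ln hL q p := by
  have := ln_spec hL (Ne.symm hpq)
  exact ln_eq hL hpq this.1 this.2.2 this.2.1

/-- A hyperoval: a 6-arc. -/
structure IsOval (L : Set (Finset α)) (H : Finset α) : Prop where
  arc : IsArc L H
  card : H.card = 6

include hα hL in
/-- Every line meets a hyperoval in 0 or 2 points. -/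
theorem oval_inter {H : Finset α} (hH : IsOval L H) {l : Finset α} (hl : l ∈ L) :
    (l ∩ H).card = 0 ∨ (l ∩ H).card = 2 := by
  classical
  have e1 := sum_choose_inter_any L H 1 5
    (card_blocks_through_eq hL 1 5 (by norm_num) (by decide) (by rw [hα]; decide))
  have e2 := sum_choose_inter_any L H 2 1
    (card_blocks_through_eq hL 2 1 (by norm_num) (by decide) (by rw [hα]; decide))
  rw [hH.card] at e1 e2
  have key : ∀ c ∈ blocks L, Nat.choose (H ∩ c).card 1
      = 2 * Nat.choose (H ∩ c).card 2 + (if (H ∩ c).card = 1 then 1 else 0) := by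
    intro c hc
    have := hH.arc c (mem_blocks.mp hc)
    rw [Finset.inter_comm] at this
    obtain ⟨i, hi⟩ : ∃ i, (H ∩ c).card = i := ⟨_, rfl⟩
    rw [hi] at this ⊢
    interval_cases i <;> decide
  have e3 := Finset.sum_congr rfl key
  rw [Finset.sum_add_distrib, ← Finset.mul_sum, e1, e2] at e3
  have c1 : Nat.choose 6 1 = 6 := by decide
  have c2 : Nat.choose 6 2 = 15 := by decide
  rw [c1, c2] at e3
  have z : (∑ c ∈ blocks L, if (H ∩ c).card = 1 then 1 else 0) = 0 := by omega
  rw [Finset.sum_eq_zero_iff] at z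
  have hz := z l (mem_blocks.mpr hl)
  have h2 := hH.arc l hl
  rw [Finset.inter_comm] at hz
  by_cases h1 : (l ∩ H).card = 1
  · rw [if_pos h1] at hz
    omega
  · omega

include hα hL in
/-- For `x` off the hyperoval and `h` on it, the line `xh` meets the hyperoval in a second point. -/
theorem exists_mate {H : Finset α} (hH : IsOval L H) {x h : α} (hx : x ∉ H) (hh : h ∈ H) :
    ∃ h' ∈ H, h' ≠ h ∧ x ∈ ln hL h h' := by
  have hxh : x ≠ h := fun e => hx (e ▸ hh)
  have hl := ln_spec hL hxh
  have hmem : h ∈ ln hL x h ∩ H := Finset.mem_inter.mpr ⟨hl.2.2, hh⟩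
  have h2 : (ln hL x h ∩ H).card = 2 := by
    rcases oval_inter hα hL hH hl.1 with h0 | h2
    · rw [Finset.card_eq_zero] at h0
      rw [h0] at hmem
      exact absurd hmem (Finset.notMem_empty _)
    · exact h2
  have : ∃ h' ∈ ln hL x h ∩ H, h' ≠ h := by
    by_contra hcon
    push Not at hcon
    have : ln hL x h ∩ H ⊆ {h} := fun y hy => Finset.mem_singleton.mpr (hcon y hy)
    have := Finset.card_le_card this
    rw [h2, Finset.card_singleton] at this
    omega
  obtain ⟨h', hh', hne⟩ := this
  rw [Finset.mem_inter] at hh'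
  refine ⟨h', hh'.2, hne, ?_⟩
  rw [ln_eq hL (Ne.symm hne) hl.1 hl.2.2 hh'.1]
  exact hl.2.1

include hα hL in
theorem mate_unique {H : Finset α} (hH : IsOval L H) {x h h' h'' : α} (hx : x ∉ H) (hh : h ∈ H)
    (hh' : h' ∈ H) (hne' : h' ≠ h) (hx' : x ∈ ln hL h h') (hh'' : h'' ∈ H) (hne'' : h'' ≠ h)
    (hx'' : x ∈ ln hL h h'') : h' = h'' := by
  by_contra hne
  have hxh : x ≠ h := fun e => hx (e ▸ hh)
  have l1 := ln_spec hL (Ne.symm hne')
  have l2 := ln_spec hL (Ne.symm hne'')
  have hEq : ln hL h h' = ln hL h h'' :=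
    p4_line_unique hL l1.1 l2.1 hxh hx' l1.2.1 hx'' l2.2.1
  have hsub : ({h, h', h''} : Finset α) ⊆ ln hL h h' ∩ H := by
    intro y hy
    rw [Finset.mem_insert, Finset.mem_insert, Finset.mem_singleton] at hy
    rcases hy with rfl | rfl | rfl
    · exact Finset.mem_inter.mpr ⟨l1.2.1, hh⟩
    · exact Finset.mem_inter.mpr ⟨l1.2.2, hh'⟩
    · exact Finset.mem_inter.mpr ⟨hEq ▸ l2.2.2, hh''⟩
  have hc3 : ({h, h', h''} : Finset α).card = 3 := by
    rw [Finset.card_insert_of_notMem, Finset.card_pair hne]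
    rw [Finset.mem_insert, Finset.mem_singleton]
    rintro (e | e)
    · exact hne' e.symm
    · exact hne'' e.symm
  have := Finset.card_le_card hsub
  have := hH.arc _ l1.1
  omega

/-- The other point of the hyperoval on the line through `x` and `h`. -/
noncomputable def mate (hL : Cfsg.IsSteinerSystem 2 5 L) (H : Finset α) (x h : α) : α :=
  haveI := Classical.propDecidable (∃ h' ∈ H, h' ≠ h ∧ x ∈ ln hL h h')
  if hex : ∃ h' ∈ H, h' ≠ h ∧ x ∈ ln hL h h' then Classical.choose hex else h

include hα hL in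
theorem mate_spec {H : Finset α} (hH : IsOval L H) {x h : α} (hx : x ∉ H) (hh : h ∈ H) :
    mate hL H x h ∈ H ∧ mate hL H x h ≠ h ∧ x ∈ ln hL h (mate hL H x h) := by
  have hex := exists_mate hα hL hH hx hh
  unfold mate
  rw [dif_pos hex]
  exact Classical.choose_spec hex

include hα hL in
theorem mate_eq {H : Finset α} (hH : IsOval L H) {x h h' : α} (hx : x ∉ H) (hh : h ∈ H)
    (hh' : h' ∈ H) (hne : h' ≠ h) (hxl : x ∈ ln hL h h') : mate hL H x h = h' := by
  have := mate_spec hα hL hH hx hh
  exact mate_unique hα hL hH hx hh this.1 this.2.1 this.2.2 hh' hne hxl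

include hα hL in
theorem mate_mate {H : Finset α} (hH : IsOval L H) {x h : α} (hx : x ∉ H) (hh : h ∈ H) :
    mate hL H x (mate hL H x h) = h := by
  have h1 := mate_spec hα hL hH hx hh
  apply mate_eq hα hL hH hx h1.1 hh (Ne.symm h1.2.1)
  rw [ln_comm hL h1.2.1]
  exact h1.2.2

include hα hL in
/-- If `x` off the hyperoval lies on the secant `hk`, then `k` is the mate of `h`. -/
theorem mate_of_mem_ln {H : Finset α} (hH : IsOval L H) {x h k : α} (hx : x ∉ H) (hh : h ∈ H)
    (hk : k ∈ H) (hne : k ≠ h) (hxl : x ∈ ln hL h k) : mate hL H x h = k :=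
  mate_eq hα hL hH hx hh hk hne hxl

include hα hL in
/-- A secant meets the hyperoval exactly in its two defining points. -/
theorem secant_inter {H : Finset α} (hH : IsOval L H) {h k y : α} (hh : h ∈ H) (hk : k ∈ H)
    (hne : h ≠ k) (hy : y ∈ H) (hyl : y ∈ ln hL h k) : y = h ∨ y = k := by
  by_contra hcon
  push Not at hcon
  have l1 := ln_spec hL hne
  have hsub : ({h, k, y} : Finset α) ⊆ ln hL h k ∩ H := by
    intro z hz
    rw [Finset.mem_insert, Finset.mem_insert, Finset.mem_singleton] at hz
    rcases hz with rfl | rfl | rfl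
    · exact Finset.mem_inter.mpr ⟨l1.2.1, hh⟩
    · exact Finset.mem_inter.mpr ⟨l1.2.2, hk⟩
    · exact Finset.mem_inter.mpr ⟨hyl, hy⟩
  have hc3 : ({h, k, y} : Finset α).card = 3 := by
    rw [Finset.card_insert_of_notMem, Finset.card_pair (Ne.symm hcon.2)]
    rw [Finset.mem_insert, Finset.mem_singleton]
    rintro (e | e)
    · exact hne e
    · exact hcon.1 e.symm
  have := Finset.card_le_card hsub
  have := hH.arc _ l1.1
  omega

end Plane

end Cfsg.Agent.Lib.Helper95
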