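import Mathlib
import Cfsg.Agent.Lib.Helper95.Plane4Oval

set_option autoImplicit false
set_option linter.unusedSectionVars false
set_option linter.unusedVariables false

/-! Two projective planes of order 4 with hyperovals `H`, `H'` and a bijection `s : H → H'`:
the induced correspondence between the points off the hyperovals. -/

namespace Cfsg.Agent.Lib.Helper95

open Cfsg.Agent.Lib.Helper09

section OnePlane

variable {α : Type*} [Fintype α] [DecidableEq α] (hα : Fintype.card α = 21)
  {L : Set (Finset α)} (hL : Cfsg.IsSteinerSystem 2 5 L)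

include hα hL in
theorem mate_inj {H : Finset α} (hH : IsOval L H) {x h k : α} (hx : x ∉ H) (hh : h ∈ H)
    (hk : k ∈ H) (he : mate hL H x h = mate hL H x k) : h = k := by
  rw [← mate_mate hα hL hH hx hh, ← mate_mate hα hL hH hx hk, he]

include hα hL in
theorem mate_swap {H : Finset α} (hH : IsOval L H) {x h k : α} (hx : x ∉ H) (hh : h ∈ H)
    (he : mate hL H x h = k) : mate hL H x k = h := by
  rw [← he]
  exact mate_mate hα hL hH hx hh

end OnePlane

section TwoPlanes

variable {α : Type*} [Fintype α] [DecidableEq α] (hα : Fintype.card α = 21)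
  {L : Set (Finset α)} (hL : Cfsg.IsSteinerSystem 2 5 L)
  {β : Type*} [Fintype β] [DecidableEq β] (hβ : Fintype.card β = 21)
  {L' : Set (Finset β)} (hL' : Cfsg.IsSteinerSystem 2 5 L')
  {H : Finset α} (hH : IsOval L H) {H' : Finset β} (hH' : IsOval L' H')
  (s : α → β) (hsH : ∀ h ∈ H, s h ∈ H') (hsinj : ∀ h ∈ H, ∀ k ∈ H, s h = s k → h = k)
  (hssurj : ∀ k ∈ H', ∃ h ∈ H, s h = k)

/-- `x'` corresponds to `x`: it pairs up the points of `H'` as `x` pairs up those of `H`. -/
def Corr (hL : Cfsg.IsSteinerSystem 2 5 L) (hL' : Cfsg.IsSteinerSystem 2 5 L') (H : Finset α)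
    (H' : Finset β) (s : α → β) (x : α) (x' : β) : Prop :=
  x' ∉ H' ∧ ∀ h ∈ H, mate hL' H' x' (s h) = s (mate hL H x h)

include hα hL hβ hL' hH hH' hsH hsinj hssurj in
theorem corr_exists {x : α} (hx : x ∉ H) : ∃ x' : β, Corr hL hL' H H' s x x' := by
  classical
  -- first pair
  obtain ⟨a, ha⟩ : H.Nonempty := by rw [← Finset.card_pos, hH.card]; norm_num
  have hb := mate_spec hα hL hH hx ha
  set b := mate hL H x a with hbdef
  -- second pair
  obtain ⟨c, hc⟩ : (H \ {a, b}).Nonempty := by
    rw [← Finset.card_pos]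
    have h1 : ({a, b} : Finset α) ⊆ H := by
      intro y hy
      rw [Finset.mem_insert, Finset.mem_singleton] at hy
      rcases hy with rfl | rfl
      · exact ha
      · exact hb.1
    rw [Finset.card_sdiff_of_subset h1, hH.card, Finset.card_pair (Ne.symm hb.2.1)]
    norm_num
  rw [Finset.mem_sdiff, Finset.mem_insert, Finset.mem_singleton] at hc
  obtain ⟨hcH, hcab⟩ := hc
  push Not at hcab
  have hd := mate_spec hα hL hH hx hcH
  set d := mate hL H x c with hddef
  have hba : mate hL H x b = a := mate_swap hα hL hH hx ha rfl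
  have hdc : mate hL H x d = c := mate_swap hα hL hH hx hcH rfl
  have hda : d ≠ a := by
    intro e
    have : mate hL H x c = mate hL H x b := by rw [hba, ← e]
    exact hcab.2 (mate_inj hα hL hH hx hcH hb.1 this)
  have hdb : d ≠ b := by
    intro e
    have : mate hL H x c = mate hL H x a := by rw [← hbdef, ← e]
    exact hcab.1 (mate_inj hα hL hH hx hcH ha this)
  -- images
  have hsab : s a ≠ s b := fun e => hb.2.1 (hsinj a ha b hb.1 e).symm
  have hscd : s c ≠ s d := fun e => hd.2.1 (hsinj c hcH d hd.1 e).symm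
  have l1 := ln_spec hL' hsab
  have l2 := ln_spec hL' hscd
  have hne12 : ln hL' (s a) (s b) ≠ ln hL' (s c) (s d) := by
    intro e
    have hmem : s c ∈ ln hL' (s a) (s b) := by rw [e]; exact l2.2.1
    rcases secant_inter hβ hL' hH' (hsH a ha) (hsH b hb.1) hsab (hsH c hcH) hmem with e1 | e1
    · exact hcab.1 (hsinj c hcH a ha e1)
    · exact hcab.2 (hsinj c hcH b hb.1 e1)
  obtain ⟨x', hx'⟩ := Finset.card_eq_one.mp (p4_inter_card hβ hL' l1.1 l2.1 hne12)
  have hx'mem : x' ∈ ln hL' (s a) (s b) ∩ ln hL' (s c) (s d) := by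
    rw [hx']; exact Finset.mem_singleton_self _
  rw [Finset.mem_inter] at hx'mem
  have hx'H : x' ∉ H' := by
    intro hx'H
    rcases secant_inter hβ hL' hH' (hsH a ha) (hsH b hb.1) hsab hx'H hx'mem.1 with e1 | e1 <;>
    rcases secant_inter hβ hL' hH' (hsH c hcH) (hsH d hd.1) hscd hx'H hx'mem.2 with e2 | e2
    · exact hcab.1 (hsinj c hcH a ha (e2.symm.trans e1))
    · exact hda (hsinj d hd.1 a ha (e2.symm.trans e1))
    · exact hcab.2 (hsinj c hcH b hb.1 (e2.symm.trans e1))
    · exact hdb (hsinj d hd.1 b hb.1 (e2.symm.trans e1))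
  -- mates of the four images
  have ma : mate hL' H' x' (s a) = s b :=
    mate_eq hβ hL' hH' hx'H (hsH a ha) (hsH b hb.1) (Ne.symm hsab) hx'mem.1
  have mb : mate hL' H' x' (s b) = s a := mate_swap hβ hL' hH' hx'H (hsH a ha) ma
  have mc : mate hL' H' x' (s c) = s d :=
    mate_eq hβ hL' hH' hx'H (hsH c hcH) (hsH d hd.1) (Ne.symm hscd) hx'mem.2
  have md : mate hL' H' x' (s d) = s c := mate_swap hβ hL' hH' hx'H (hsH c hcH) mc
  refine ⟨x', hx'H, ?_⟩
  intro e heH
  by_cases hea : e = a
  · rw [hea, ma]
  by_cases heb : e = b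
  · rw [heb, mb, hba]
  by_cases hec : e = c
  · rw [hec, mc]
  by_cases hed : e = d
  · rw [hed, md, hdc]
  -- the remaining pair
  have hf := mate_spec hα hL hH hx heH
  set f := mate hL H x e with hfdef
  have hfa : f ≠ a := by
    intro e1
    have : mate hL H x e = mate hL H x b := by rw [hba, ← e1]
    exact heb (mate_inj hα hL hH hx heH hb.1 this)
  have hfb : f ≠ b := by
    intro e1
    have : mate hL H x e = mate hL H x a := by rw [← hbdef, ← e1]
    exact hea (mate_inj hα hL hH hx heH ha this)
  have hfc : f ≠ c := by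
    intro e1
    have : mate hL H x e = mate hL H x d := by rw [hdc, ← e1]
    exact hed (mate_inj hα hL hH hx heH hd.1 this)
  have hfd : f ≠ d := by
    intro e1
    have : mate hL H x e = mate hL H x c := by rw [← hddef, ← e1]
    exact hec (mate_inj hα hL hH hx heH hcH this)
  have hk := mate_spec hβ hL' hH' hx'H (hsH e heH)
  set k := mate hL' H' x' (s e) with hkdef
  obtain ⟨k0, hk0H, hk0⟩ := hssurj k hk.1
  have hk0e : k0 ≠ e := by
    intro e1
    apply hk.2.1
    rw [← hk0, e1]
  have hk0a : k0 ≠ a := by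
    intro e1
    have : mate hL' H' x' (s e) = mate hL' H' x' (s b) := by rw [mb, ← hkdef, ← hk0, e1]
    exact heb (hsinj e heH b hb.1 (mate_inj hβ hL' hH' hx'H (hsH e heH) (hsH b hb.1) this))
  have hk0b : k0 ≠ b := by
    intro e1
    have : mate hL' H' x' (s e) = mate hL' H' x' (s a) := by rw [ma, ← hkdef, ← hk0, e1]
    exact hea (hsinj e heH a ha (mate_inj hβ hL' hH' hx'H (hsH e heH) (hsH a ha) this))
  have hk0c : k0 ≠ c := by
    intro e1
    have : mate hL' H' x' (s e) = mate hL' H' x' (s d) := by rw [md, ← hkdef, ← hk0, e1]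
    exact hed (hsinj e heH d hd.1 (mate_inj hβ hL' hH' hx'H (hsH e heH) (hsH d hd.1) this))
  have hk0d : k0 ≠ d := by
    intro e1
    have : mate hL' H' x' (s e) = mate hL' H' x' (s c) := by rw [mc, ← hkdef, ← hk0, e1]
    exact hec (hsinj e heH c hcH (mate_inj hβ hL' hH' hx'H (hsH e heH) (hsH c hcH) this))
  -- five distinct points of H leave room for exactly one more
  have h5sub : ({a, b, c, d, e} : Finset α) ⊆ H := by
    intro y hy
    simp only [Finset.mem_insert, Finset.mem_singleton] at hy
    rcases hy with rfl | rfl | rfl | rfl | rfl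
    · exact ha
    · exact hb.1
    · exact hcH
    · exact hd.1
    · exact heH
  have h5card : ({a, b, c, d, e} : Finset α).card = 5 := by
    rw [Finset.card_insert_of_notMem, Finset.card_insert_of_notMem, Finset.card_insert_of_notMem,
      Finset.card_pair (fun h => hed h.symm)]
    · simp only [Finset.mem_insert, Finset.mem_singleton]
      rintro (e1 | e1)
      · exact hd.2.1 e1.symm
      · exact hec e1.symm
    · simp only [Finset.mem_insert, Finset.mem_singleton]
      rintro (e1 | e1 | e1)
      · exact hcab.2 e1.symm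
      · exact hdb e1.symm
      · exact heb e1.symm
    · simp only [Finset.mem_insert, Finset.mem_singleton]
      rintro (e1 | e1 | e1 | e1)
      · exact hb.2.1 e1.symm
      · exact hcab.1 e1.symm
      · exact hda e1.symm
      · exact hea e1.symm
  have hrest : (H \ {a, b, c, d, e}).card ≤ 1 := by
    rw [Finset.card_sdiff_of_subset h5sub, hH.card, h5card]
  have hfmem : f ∈ H \ {a, b, c, d, e} := by
    rw [Finset.mem_sdiff]
    refine ⟨hf.1, ?_⟩
    simp only [Finset.mem_insert, Finset.mem_singleton]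
    rintro (e1 | e1 | e1 | e1 | e1)
    · exact hfa e1
    · exact hfb e1
    · exact hfc e1
    · exact hfd e1
    · exact hf.2.1 e1
  have hk0mem : k0 ∈ H \ {a, b, c, d, e} := by
    rw [Finset.mem_sdiff]
    refine ⟨hk0H, ?_⟩
    simp only [Finset.mem_insert, Finset.mem_singleton]
    rintro (e1 | e1 | e1 | e1 | e1)
    · exact hk0a e1
    · exact hk0b e1
    · exact hk0c e1
    · exact hk0d e1
    · exact hk0e e1
  have : k0 = f := Finset.card_le_one.mp hrest k0 hk0mem f hfmem
  rw [← hk0, this]

end TwoPlanes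

end Cfsg.Agent.Lib.Helper95
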