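import Mathlib
import Cfsg.Agent.Lib.Helper95.Plane4Corr

set_option autoImplicit false
set_option linter.unusedSectionVars false
set_option linter.unusedVariables false

/-! A bijection between hyperovals of two projective planes of order 4 extends uniquely to an
isomorphism of the planes. -/

namespace Cfsg.Agent.Lib.Helper95

open Cfsg.Agent.Lib.Helper09

section OnePlane

variable {α : Type*} [Fintype α] [DecidableEq α] (hα : Fintype.card α = 21)
  {L : Set (Finset α)} (hL : Cfsg.IsSteinerSystem 2 5 L)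

include hα hL in
/-- Two secants through a point off the hyperoval. -/
theorem exists_two {H : Finset α} (hH : IsOval L H) {x : α} (hx : x ∉ H) :
    ∃ a ∈ H, ∃ c ∈ H, c ≠ a ∧ c ≠ mate hL H x a := by
  classical
  obtain ⟨a, ha⟩ : H.Nonempty := by rw [← Finset.card_pos, hH.card]; norm_num
  have hb := mate_spec hα hL hH hx ha
  obtain ⟨c, hc⟩ : (H \ {a, mate hL H x a}).Nonempty := by
    rw [← Finset.card_pos]
    have h1 : ({a, mate hL H x a} : Finset α) ⊆ H := by
      intro y hy
      rw [Finset.mem_insert, Finset.mem_singleton] at hy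
      rcases hy with rfl | rfl
      · exact ha
      · exact hb.1
    rw [Finset.card_sdiff_of_subset h1, hH.card, Finset.card_pair (Ne.symm hb.2.1)]
    norm_num
  rw [Finset.mem_sdiff, Finset.mem_insert, Finset.mem_singleton] at hc
  push Not at hc
  exact ⟨a, ha, c, hc.1, hc.2.1, hc.2.2⟩

/-- At most two passants through a point off the hyperoval. -/
theorem passants_through {H : Finset α} (hH : IsOval L H) {x : α} (hx : x ∉ H)
    {m1 m2 m3 : Finset α} (h1 : m1 ∈ L) (h2 : m2 ∈ L) (h3 : m3 ∈ L)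
    (hx1 : x ∈ m1) (hx2 : x ∈ m2) (hx3 : x ∈ m3)
    (e1 : m1 ∩ H = ∅) (e2 : m2 ∩ H = ∅) (e3 : m3 ∩ H = ∅)
    (hα : Fintype.card α = 21) (hL : Cfsg.IsSteinerSystem 2 5 L) :
    m1 = m2 ∨ m1 = m3 ∨ m2 = m3 := by
  classical
  by_contra hcon
  push Not at hcon
  set Lx := (blocks L).filter (x ∈ ·) with hLx
  have hLx5 : Lx.card = 5 := p4_lines_through hα hL x
  have hcover : H = Lx.biUnion (fun l => l ∩ H) := by
    ext k
    rw [Finset.mem_biUnion]
    constructor
    · intro hk
      have hxk : x ≠ k := fun e => hx (e ▸ hk)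
      have hl := ln_spec hL hxk
      refine ⟨ln hL x k, ?_, Finset.mem_inter.mpr ⟨hl.2.2, hk⟩⟩
      rw [hLx, Finset.mem_filter, mem_blocks]
      exact ⟨hl.1, hl.2.1⟩
    · rintro ⟨l, -, hk⟩
      exact (Finset.mem_inter.mp hk).2
  have hdisj : ∀ l ∈ Lx, ∀ l' ∈ Lx, l ≠ l' → Disjoint (l ∩ H) (l' ∩ H) := by
    intro l hl l' hl' hne
    rw [hLx, Finset.mem_filter, mem_blocks] at hl hl'
    rw [Finset.disjoint_left]
    intro k hk hk'
    rw [Finset.mem_inter] at hk hk'
    have hxk : x ≠ k := fun e => hx (e ▸ hk.2)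
    exact hne (p4_line_unique hL hl.1 hl'.1 hxk hl.2 hk.1 hl'.2 hk'.1)
  have hsum : H.card = ∑ l ∈ Lx, (l ∩ H).card := by
    conv_lhs => rw [hcover]
    exact Finset.card_biUnion hdisj
  rw [hH.card] at hsum
  set P := Lx.filter (fun l => l ∩ H = ∅) with hP
  have hsplit := Finset.sum_filter_add_sum_filter_not Lx (fun l => l ∩ H = ∅)
    (fun l => (l ∩ H).card)
  have hz : ∑ l ∈ Lx.filter (fun l => l ∩ H = ∅), (l ∩ H).card = 0 := by
    apply Finset.sum_eq_zero
    intro l hl
    rw [(Finset.mem_filter.mp hl).2, Finset.card_empty]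
  have hle : ∑ l ∈ Lx.filter (fun l => ¬ (l ∩ H = ∅)), (l ∩ H).card
      ≤ ∑ l ∈ Lx.filter (fun l => ¬ (l ∩ H = ∅)), 2 := by
    apply Finset.sum_le_sum
    intro l hl
    rw [Finset.mem_filter, hLx, Finset.mem_filter, mem_blocks] at hl
    exact hH.arc l hl.1.1
  rw [Finset.sum_const, smul_eq_mul] at hle
  have hcards := Finset.card_filter_add_card_filter_not (s := Lx) (fun l => l ∩ H = ∅)
  have hP2 : P.card ≤ 2 := by
    rw [hP]
    omega
  have hsub : ({m1, m2, m3} : Finset (Finset α)) ⊆ P := by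
    intro m hm
    rw [Finset.mem_insert, Finset.mem_insert, Finset.mem_singleton] at hm
    rw [hP, Finset.mem_filter, hLx, Finset.mem_filter, mem_blocks]
    rcases hm with rfl | rfl | rfl
    · exact ⟨⟨h1, hx1⟩, e1⟩
    · exact ⟨⟨h2, hx2⟩, e2⟩
    · exact ⟨⟨h3, hx3⟩, e3⟩
  have hc3 : ({m1, m2, m3} : Finset (Finset α)).card = 3 := by
    rw [Finset.card_insert_of_notMem, Finset.card_pair hcon.2.2]
    rw [Finset.mem_insert, Finset.mem_singleton]
    rintro (e | e)
    · exact hcon.1 e
    · exact hcon.2.1 e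
  have := Finset.card_le_card hsub
  omega

end OnePlane

section TwoPlanes

variable {α : Type*} [Fintype α] [DecidableEq α] (hα : Fintype.card α = 21)
  {L : Set (Finset α)} (hL : Cfsg.IsSteinerSystem 2 5 L)
  {β : Type*} [Fintype β] [DecidableEq β] (hβ : Fintype.card β = 21)
  {L' : Set (Finset β)} (hL' : Cfsg.IsSteinerSystem 2 5 L')
  {H : Finset α} (hH : IsOval L H) {H' : Finset β} (hH' : IsOval L' H')
  (s : α → β) (hsH : ∀ h ∈ H, s h ∈ H') (hsinj : ∀ h ∈ H, ∀ k ∈ H, s h = s k → h = k)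
  (hssurj : ∀ k ∈ H', ∃ h ∈ H, s h = k)

include hα hL hβ hL' hH hH' hsH in
theorem corr_mem {x : α} {x' : β} (hx : x ∉ H) (hc : Corr hL hL' H H' s x x') {h : α}
    (hh : h ∈ H) : x' ∈ ln hL' (s h) (s (mate hL H x h)) := by
  rw [← hc.2 h hh]
  exact (mate_spec hβ hL' hH' hc.1 (hsH h hh)).2.2

include hα hL hβ hL' hH hH' hsH hsinj in
theorem lines_ne {x : α} (hx : x ∉ H) {a c : α} (ha : a ∈ H) (hc : c ∈ H) (hca : c ≠ a)
    (hcb : c ≠ mate hL H x a) :
    ln hL' (s a) (s (mate hL H x a)) ≠ ln hL' (s c) (s (mate hL H x c)) := by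
  have hb := mate_spec hα hL hH hx ha
  have hd := mate_spec hα hL hH hx hc
  have hsab : s a ≠ s (mate hL H x a) := fun e => hb.2.1 (hsinj a ha _ hb.1 e).symm
  have hscd : s c ≠ s (mate hL H x c) := fun e => hd.2.1 (hsinj c hc _ hd.1 e).symm
  have l2 := ln_spec hL' hscd
  intro e
  have hmem : s c ∈ ln hL' (s a) (s (mate hL H x a)) := by rw [e]; exact l2.2.1
  rcases secant_inter hβ hL' hH' (hsH a ha) (hsH _ hb.1) hsab (hsH c hc) hmem with e1 | e1
  · exact hca (hsinj c hc a ha e1)
  · exact hcb (hsinj c hc _ hb.1 e1)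

include hα hL hβ hL' hH hH' hsH hsinj in
theorem corr_unique {x : α} {x' x'' : β} (hx : x ∉ H) (hc' : Corr hL hL' H H' s x x')
    (hc'' : Corr hL hL' H H' s x x'') : x' = x'' := by
  obtain ⟨a, ha, c, hc, hca, hcb⟩ := exists_two hα hL hH hx
  have hne := lines_ne hα hL hβ hL' hH hH' s hsH hsinj hx ha hc hca hcb
  have hb := mate_spec hα hL hH hx ha
  have hd := mate_spec hα hL hH hx hc
  have hsab : s a ≠ s (mate hL H x a) := fun e => hb.2.1 (hsinj a ha _ hb.1 e).symm
  have hscd : s c ≠ s (mate hL H x c) := fun e => hd.2.1 (hsinj c hc _ hd.1 e).symm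
  have l1 := ln_spec hL' hsab
  have l2 := ln_spec hL' hscd
  obtain ⟨y, hy⟩ := Finset.card_eq_one.mp (p4_inter_card hβ hL' l1.1 l2.1 hne)
  have m1 : x' ∈ ln hL' (s a) (s (mate hL H x a)) ∩ ln hL' (s c) (s (mate hL H x c)) :=
    Finset.mem_inter.mpr ⟨corr_mem hα hL hβ hL' hH hH' s hsH hx hc' ha,
      corr_mem hα hL hβ hL' hH hH' s hsH hx hc' hc⟩
  have m2 : x'' ∈ ln hL' (s a) (s (mate hL H x a)) ∩ ln hL' (s c) (s (mate hL H x c)) :=
    Finset.mem_inter.mpr ⟨corr_mem hα hL hβ hL' hH hH' s hsH hx hc'' ha,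
      corr_mem hα hL hβ hL' hH hH' s hsH hx hc'' hc⟩
  rw [hy, Finset.mem_singleton] at m1 m2
  rw [m1, m2]

include hα hL hβ hL' hH hH' hsH hsinj in
theorem corr_inj {x y : α} {x' : β} (hx : x ∉ H) (hy : y ∉ H) (hcx : Corr hL hL' H H' s x x')
    (hcy : Corr hL hL' H H' s y x') : x = y := by
  have hmate : ∀ h ∈ H, mate hL H x h = mate hL H y h := by
    intro h hh
    apply hsinj _ (mate_spec hα hL hH hx hh).1 _ (mate_spec hα hL hH hy hh).1
    rw [← hcx.2 h hh, ← hcy.2 h hh]
  obtain ⟨a, ha, c, hc, hca, hcb⟩ := exists_two hα hL hH hx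
  have hne := lines_ne hα hL hα hL hH hH id (fun h hh => hh) (fun h _ k _ e => e) hx ha hc hca hcb
  simp only [id] at hne
  have hb := mate_spec hα hL hH hx ha
  have hd := mate_spec hα hL hH hx hc
  have l1 := ln_spec hL (Ne.symm hb.2.1)
  have l2 := ln_spec hL (Ne.symm hd.2.1)
  obtain ⟨z, hz⟩ := Finset.card_eq_one.mp (p4_inter_card hα hL l1.1 l2.1 hne)
  have m1 : x ∈ ln hL a (mate hL H x a) ∩ ln hL c (mate hL H x c) :=
    Finset.mem_inter.mpr ⟨hb.2.2, hd.2.2⟩
  have hb' := mate_spec hα hL hH hy ha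
  have hd' := mate_spec hα hL hH hy hc
  have m2 : y ∈ ln hL a (mate hL H x a) ∩ ln hL c (mate hL H x c) := by
    rw [hmate a ha, hmate c hc]
    exact Finset.mem_inter.mpr ⟨hb'.2.2, hd'.2.2⟩
  rw [hz, Finset.mem_singleton] at m1 m2
  rw [m1, m2]

/-- The extension of `s` to all points. -/
noncomputable def extMap (hL : Cfsg.IsSteinerSystem 2 5 L) (hL' : Cfsg.IsSteinerSystem 2 5 L')
    (H : Finset α) (H' : Finset β) (s : α → β) (x : α) : β :=
  haveI := Classical.propDecidable (∃ x' : β, Corr hL hL' H H' s x x')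
  if x ∈ H then s x else
    if h : ∃ x' : β, Corr hL hL' H H' s x x' then Classical.choose h else s x

theorem extMap_of_mem {x : α} (hx : x ∈ H) : extMap hL hL' H H' s x = s x := by
  unfold extMap
  rw [if_pos hx]

include hα hL hβ hL' hH hH' hsH hsinj hssurj in
theorem extMap_corr {x : α} (hx : x ∉ H) : Corr hL hL' H H' s x (extMap hL hL' H H' s x) := by
  have hex := corr_exists hα hL hβ hL' hH hH' s hsH hsinj hssurj hx
  unfold extMap
  rw [if_neg hx, dif_pos hex]
  exact Classical.choose_spec hex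

include hα hL hβ hL' hH hH' hsH hsinj hssurj in
theorem extMap_mem_iff {x : α} : extMap hL hL' H H' s x ∈ H' ↔ x ∈ H := by
  constructor
  · intro h
    by_contra hx
    exact (extMap_corr hα hL hβ hL' hH hH' s hsH hsinj hssurj hx).1 h
  · intro hx
    rw [extMap_of_mem hL hL' s hx]
    exact hsH x hx

include hα hL hβ hL' hH hH' hsH hsinj hssurj in
theorem extMap_injective : Function.Injective (extMap hL hL' H H' s) := by
  intro x y hxy
  by_cases hx : x ∈ H
  · have hy : y ∈ H := by
      rw [← extMap_mem_iff hα hL hβ hL' hH hH' s hsH hsinj hssurj, ← hxy,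
        extMap_mem_iff hα hL hβ hL' hH hH' s hsH hsinj hssurj]
      exact hx
    rw [extMap_of_mem hL hL' s hx, extMap_of_mem hL hL' s hy] at hxy
    exact hsinj x hx y hy hxy
  · have hy : y ∉ H := by
      rw [← extMap_mem_iff hα hL hβ hL' hH hH' s hsH hsinj hssurj, ← hxy,
        extMap_mem_iff hα hL hβ hL' hH hH' s hsH hsinj hssurj]
      exact hx
    have c1 := extMap_corr hα hL hβ hL' hH hH' s hsH hsinj hssurj hx
    have c2 := extMap_corr hα hL hβ hL' hH hH' s hsH hsinj hssurj hy
    rw [hxy] at c1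
    exact corr_inj hα hL hβ hL' hH hH' s hsH hsinj hx hy c1 c2

include hα hL hβ hL' hH hH' hsH hsinj hssurj in
/-- Secants are mapped onto secants. -/
theorem secant_image {l : Finset α} (hl : l ∈ L) {h : α} (hhl : h ∈ l) (hh : h ∈ H) :
    l.image (extMap hL hL' H H' s) ∈ L' := by
  classical
  have h2 : (l ∩ H).card = 2 := by
    rcases oval_inter hα hL hH hl with h0 | h2
    · rw [Finset.card_eq_zero] at h0
      have : h ∈ l ∩ H := Finset.mem_inter.mpr ⟨hhl, hh⟩
      rw [h0] at this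
      exact absurd this (Finset.notMem_empty _)
    · exact h2
  have : ∃ k ∈ l ∩ H, k ≠ h := by
    by_contra hcon
    push Not at hcon
    have : l ∩ H ⊆ {h} := fun y hy => Finset.mem_singleton.mpr (hcon y hy)
    have := Finset.card_le_card this
    rw [h2, Finset.card_singleton] at this
    omega
  obtain ⟨k, hk, hkh⟩ := this
  rw [Finset.mem_inter] at hk
  have hlEq : ln hL h k = l := ln_eq hL (Ne.symm hkh) hl hhl hk.1
  have hshk : s h ≠ s k := fun e => hkh (hsinj h hh k hk.2 e).symm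
  have lm := ln_spec hL' hshk
  have hsub : l.image (extMap hL hL' H H' s) ⊆ ln hL' (s h) (s k) := by
    intro z hz
    rw [Finset.mem_image] at hz
    obtain ⟨y, hy, rfl⟩ := hz
    by_cases hyH : y ∈ H
    · rw [extMap_of_mem hL hL' s hyH]
      rcases secant_inter hα hL hH hh hk.2 (Ne.symm hkh) hyH (hlEq ▸ hy) with e | e
      · rw [e]; exact lm.2.1
      · rw [e]; exact lm.2.2
    · have hc := extMap_corr hα hL hβ hL' hH hH' s hsH hsinj hssurj hyH
      have hm : mate hL H y h = k :=
        mate_of_mem_ln hα hL hH hyH hh hk.2 hkh (hlEq ▸ hy)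
      have := corr_mem hα hL hβ hL' hH hH' s hsH hyH hc hh
      rw [hm] at this
      exact this
  have hcard : (l.image (extMap hL hL' H H' s)).card = 5 := by
    rw [Finset.card_image_of_injective _
      (extMap_injective hα hL hβ hL' hH hH' s hsH hsinj hssurj), hL.1 l hl]
  have := Finset.eq_of_subset_of_card_le hsub (by rw [hcard, hL'.1 _ lm.1])
  rw [this]
  exact lm.1

include hα hL hβ hL' hH hH' hsH hsinj hssurj in
/-- Two points of a passant are mapped to two points joined by a passant. -/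
theorem passant_pair {l : Finset α} (hl : l ∈ L) (hlH : l ∩ H = ∅) {x y : α} (hx : x ∈ l)
    (hy : y ∈ l) (hxy : x ≠ y) :
    ln hL' (extMap hL hL' H H' s x) (extMap hL hL' H H' s y) ∩ H' = ∅ := by
  classical
  have hxH : x ∉ H := fun h => by
    have : x ∈ l ∩ H := Finset.mem_inter.mpr ⟨hx, h⟩
    rw [hlH] at this
    exact absurd this (Finset.notMem_empty _)
  have hyH : y ∉ H := fun h => by
    have : y ∈ l ∩ H := Finset.mem_inter.mpr ⟨hy, h⟩
    rw [hlH] at this
    exact absurd this (Finset.notMem_empty _)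
  have hinj := extMap_injective hα hL hβ hL' hH hH' s hsH hsinj hssurj
  have hgne : extMap hL hL' H H' s x ≠ extMap hL hL' H H' s y := fun e => hxy (hinj e)
  have cx := extMap_corr hα hL hβ hL' hH hH' s hsH hsinj hssurj hxH
  have cy := extMap_corr hα hL hβ hL' hH hH' s hsH hsinj hssurj hyH
  set gx := extMap hL hL' H H' s x with hgx
  set gy := extMap hL hL' H H' s y with hgy
  have lm := ln_spec hL' hgne
  rw [Finset.eq_empty_iff_forall_notMem]
  intro k hk
  rw [Finset.mem_inter] at hk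
  obtain ⟨h, hh, rfl⟩ := hssurj k hk.2
  -- the mate of `s h` with respect to `gx`
  have mx := mate_spec hβ hL' hH' cx.1 (hsH h hh)
  have hkgx : s h ≠ gx := fun e => cx.1 (e ▸ hk.2)
  have hkgy : s h ≠ gy := fun e => cy.1 (e ▸ hk.2)
  have lk := ln_spec hL' (Ne.symm mx.2.1)
  have hEq : ln hL' (s h) (mate hL' H' gx (s h)) = ln hL' gx gy :=
    p4_line_unique hL' lk.1 lm.1 hkgx lk.2.1 mx.2.2 hk.1 lm.2.1
  have my : mate hL' H' gy (s h) = mate hL' H' gx (s h) := by
    apply mate_eq hβ hL' hH' cy.1 (hsH h hh) mx.1 mx.2.1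
    rw [hEq]
    exact lm.2.2
  rw [cx.2 h hh, cy.2 h hh] at my
  have hmate : mate hL H y h = mate hL H x h :=
    hsinj _ (mate_spec hα hL hH hyH hh).1 _ (mate_spec hα hL hH hxH hh).1 my
  have hmx := mate_spec hα hL hH hxH hh
  have hmy := mate_spec hα hL hH hyH hh
  rw [hmate] at hmy
  have l1 := ln_spec hL (Ne.symm hmx.2.1)
  have : ln hL h (mate hL H x h) = l :=
    p4_line_unique hL l1.1 hl hxy hmx.2.2 hmy.2.2 hx hy
  have hmem : h ∈ l ∩ H := Finset.mem_inter.mpr ⟨this ▸ l1.2.1, hh⟩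
  rw [hlH] at hmem
  exact absurd hmem (Finset.notMem_empty _)

include hα hL hβ hL' hH hH' hsH hsinj hssurj in
/-- Passants are mapped onto passants. -/
theorem passant_image {l : Finset α} (hl : l ∈ L) (hlH : l ∩ H = ∅) :
    l.image (extMap hL hL' H H' s) ∈ L' := by
  classical
  have hinj := extMap_injective hα hL hβ hL' hH hH' s hsH hsinj hssurj
  set g := extMap hL hL' H H' s with hg
  have hl5 : l.card = 5 := hL.1 l hl
  have hnotH : ∀ z ∈ l, z ∉ H := by
    intro z hz h
    have : z ∈ l ∩ H := Finset.mem_inter.mpr ⟨hz, h⟩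
    rw [hlH] at this
    exact absurd this (Finset.notMem_empty _)
  have hgH : ∀ z ∈ l, g z ∉ H' := by
    intro z hz
    exact (extMap_corr hα hL hβ hL' hH hH' s hsH hsinj hssurj (hnotH z hz)).1
  obtain ⟨x1, hx1⟩ : l.Nonempty := by rw [← Finset.card_pos, hl5]; norm_num
  obtain ⟨x2, hx2⟩ : (l.erase x1).Nonempty := by
    rw [← Finset.card_pos, Finset.card_erase_of_mem hx1, hl5]; norm_num
  rw [Finset.mem_erase] at hx2
  have h12 : x1 ≠ x2 := Ne.symm hx2.1
  have hg12 : g x1 ≠ g x2 := fun e => h12 (hinj e)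
  have lm := ln_spec hL' hg12
  have pm := passant_pair hα hL hβ hL' hH hH' s hsH hsinj hssurj hl hlH hx1 hx2.2 h12
  have hall : ∀ x3 ∈ l, g x3 ∈ ln hL' (g x1) (g x2) := by
    intro x3 hx3
    by_cases h31 : x3 = x1
    · rw [h31]; exact lm.2.1
    by_cases h32 : x3 = x2
    · rw [h32]; exact lm.2.2
    by_contra hnot
    -- a fourth point
    obtain ⟨x4, hx4⟩ : (l \ {x1, x2, x3}).Nonempty := by
      rw [← Finset.card_pos]
      have hsub : ({x1, x2, x3} : Finset α) ⊆ l := by
        intro z hz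
        rw [Finset.mem_insert, Finset.mem_insert, Finset.mem_singleton] at hz
        rcases hz with rfl | rfl | rfl
        · exact hx1
        · exact hx2.2
        · exact hx3
      have hle : ({x1, x2, x3} : Finset α).card ≤ 3 := Finset.card_le_three
      rw [Finset.card_sdiff_of_subset hsub, hl5]
      omega
    rw [Finset.mem_sdiff, Finset.mem_insert, Finset.mem_insert, Finset.mem_singleton] at hx4
    obtain ⟨hx4l, hx4ne⟩ := hx4
    push Not at hx4ne
    have h13 : x1 ≠ x3 := fun e => h31 e.symm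
    have h23 : x2 ≠ x3 := fun e => h32 e.symm
    have h14 : x1 ≠ x4 := fun e => hx4ne.1 e.symm
    have h24 : x2 ≠ x4 := fun e => hx4ne.2.1 e.symm
    have h34 : x3 ≠ x4 := fun e => hx4ne.2.2 e.symm
    have hg13 : g x1 ≠ g x3 := fun e => h13 (hinj e)
    have hg23 : g x2 ≠ g x3 := fun e => h23 (hinj e)
    have hg14 : g x1 ≠ g x4 := fun e => h14 (hinj e)
    have hg24 : g x2 ≠ g x4 := fun e => h24 (hinj e)
    have hg34 : g x3 ≠ g x4 := fun e => h34 (hinj e)
    have l13 := ln_spec hL' hg13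
    have l23 := ln_spec hL' hg23
    have l14 := ln_spec hL' hg14
    have l24 := ln_spec hL' hg24
    have l34 := ln_spec hL' hg34
    have p13 := passant_pair hα hL hβ hL' hH hH' s hsH hsinj hssurj hl hlH hx1 hx3 h13
    have p23 := passant_pair hα hL hβ hL' hH hH' s hsH hsinj hssurj hl hlH hx2.2 hx3 h23
    have p14 := passant_pair hα hL hβ hL' hH hH' s hsH hsinj hssurj hl hlH hx1 hx4l h14
    have p24 := passant_pair hα hL hβ hL' hH hH' s hsH hsinj hssurj hl hlH hx2.2 hx4l h24
    have p34 := passant_pair hα hL hβ hL' hH hH' s hsH hsinj hssurj hl hlH hx3 hx4l h34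
    -- the three sides of the triangle are distinct
    have n1 : ln hL' (g x1) (g x2) ≠ ln hL' (g x1) (g x3) := by
      intro e
      apply hnot
      rw [e]
      exact l13.2.2
    have n2 : ln hL' (g x1) (g x2) ≠ ln hL' (g x2) (g x3) := by
      intro e
      apply hnot
      rw [e]
      exact l23.2.2
    have n3 : ln hL' (g x1) (g x3) ≠ ln hL' (g x2) (g x3) := by
      intro e
      apply n1
      apply p4_line_unique hL' lm.1 l13.1 hg12 lm.2.1 lm.2.2 l13.2.1
      rw [e]
      exact l23.2.1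
    -- at most two passants through each vertex
    have A1 := passants_through hH' (hgH x1 hx1) lm.1 l13.1 l14.1 lm.2.1 l13.2.1 l14.2.1
      pm p13 p14 hβ hL'
    have A2 := passants_through hH' (hgH x2 hx2.2) lm.1 l23.1 l24.1 lm.2.2 l23.2.1 l24.2.1
      pm p23 p24 hβ hL'
    have A3 := passants_through hH' (hgH x3 hx3) l13.1 l23.1 l34.1 l13.2.2 l23.2.2 l34.2.1
      p13 p23 p34 hβ hL'
    have B1 : g x4 ∈ ln hL' (g x1) (g x2) ∨ g x4 ∈ ln hL' (g x1) (g x3) := by
      rcases A1 with e | e | e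
      · exact absurd e n1
      · left; rw [e]; exact l14.2.2
      · right; rw [e]; exact l14.2.2
    have B2 : g x4 ∈ ln hL' (g x1) (g x2) ∨ g x4 ∈ ln hL' (g x2) (g x3) := by
      rcases A2 with e | e | e
      · exact absurd e n2
      · left; rw [e]; exact l24.2.2
      · right; rw [e]; exact l24.2.2
    have B3 : g x4 ∈ ln hL' (g x1) (g x3) ∨ g x4 ∈ ln hL' (g x2) (g x3) := by
      rcases A3 with e | e | e
      · exact absurd e n3
      · left; rw [e]; exact l34.2.2
      · right; rw [e]; exact l34.2.2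
    by_cases hm : g x4 ∈ ln hL' (g x1) (g x2)
    · rcases B3 with h | h
      · exact n1 (p4_line_unique hL' lm.1 l13.1 hg14 lm.2.1 hm l13.2.1 h)
      · exact n2 (p4_line_unique hL' lm.1 l23.1 hg24 lm.2.2 hm l23.2.1 h)
    · have h1 : g x4 ∈ ln hL' (g x1) (g x3) := B1.resolve_left hm
      have h2 : g x4 ∈ ln hL' (g x2) (g x3) := B2.resolve_left hm
      exact n3 (p4_line_unique hL' l13.1 l23.1 hg34 l13.2.2 h1 l23.2.2 h2)
  have hsub : l.image g ⊆ ln hL' (g x1) (g x2) := by
    intro z hz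
    rw [Finset.mem_image] at hz
    obtain ⟨y, hy, rfl⟩ := hz
    exact hall y hy
  have hcard : (l.image g).card = 5 := by
    rw [Finset.card_image_of_injective _ hinj, hl5]
  have := Finset.eq_of_subset_of_card_le hsub (by rw [hcard, hL'.1 _ lm.1])
  rw [this]
  exact lm.1

include hα hL hβ hL' hH hH' hsH hsinj hssurj in
/-- Every line is mapped onto a line. -/
theorem line_image {l : Finset α} (hl : l ∈ L) : l.image (extMap hL hL' H H' s) ∈ L' := by
  classical
  by_cases h : l ∩ H = ∅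
  · exact passant_image hα hL hβ hL' hH hH' s hsH hsinj hssurj hl h
  · obtain ⟨k, hk⟩ := Finset.nonempty_iff_ne_empty.mpr h
    rw [Finset.mem_inter] at hk
    exact secant_image hα hL hβ hL' hH hH' s hsH hsinj hssurj hl hk.1 hk.2

include hα hL hβ hL' hH hH' hsH hsinj hssurj in
/-- A bijection between hyperovals extends to an isomorphism of the planes. -/
theorem exists_plane_iso : ∃ e : α ≃ β, (∀ h ∈ H, e h = s h) ∧ ∀ l ∈ L, l.image e ∈ L' := by
  have hinj := extMap_injective hα hL hβ hL' hH hH' s hsH hsinj hssurj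
  have hbij : Function.Bijective (extMap hL hL' H H' s) := by
    rw [Fintype.bijective_iff_injective_and_card]
    exact ⟨hinj, by rw [hα, hβ]⟩
  refine ⟨Equiv.ofBijective _ hbij, ?_, ?_⟩
  · intro h hh
    rw [Equiv.ofBijective_apply]
    exact extMap_of_mem hL hL' s hh
  · intro l hl
    have : (fun x => (Equiv.ofBijective _ hbij) x) = extMap hL hL' H H' s := by
      funext x
      rw [Equiv.ofBijective_apply]
    show l.image (fun x => (Equiv.ofBijective _ hbij) x) ∈ L'
    rw [this]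
    exact line_image hα hL hβ hL' hH hH' s hsH hsinj hssurj hl

include hα hL hβ hL' hH hH' hsH hsinj in
/-- Two line-preserving maps that agree with `s` on the hyperoval agree everywhere. -/
theorem plane_iso_unique (e1 e2 : α → β) (h1 : ∀ h ∈ H, e1 h = s h) (h2 : ∀ h ∈ H, e2 h = s h)
    (hl1 : ∀ l ∈ L, l.image e1 ∈ L') (hl2 : ∀ l ∈ L, l.image e2 ∈ L') (x : α) : e1 x = e2 x := by
  classical
  by_cases hx : x ∈ H
  · rw [h1 x hx, h2 x hx]
  obtain ⟨a, ha, c, hc, hca, hcb⟩ := exists_two hα hL hH hx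
  have hne := lines_ne hα hL hβ hL' hH hH' s hsH hsinj hx ha hc hca hcb
  have hb := mate_spec hα hL hH hx ha
  have hd := mate_spec hα hL hH hx hc
  have hsab : s a ≠ s (mate hL H x a) := fun e => hb.2.1 (hsinj a ha _ hb.1 e).symm
  have hscd : s c ≠ s (mate hL H x c) := fun e => hd.2.1 (hsinj c hc _ hd.1 e).symm
  have l1 := ln_spec hL' hsab
  have l2 := ln_spec hL' hscd
  have la := ln_spec hL (Ne.symm hb.2.1)
  have lc := ln_spec hL (Ne.symm hd.2.1)
  have key : ∀ (e : α → β), (∀ h ∈ H, e h = s h) → (∀ l ∈ L, l.image e ∈ L') →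
      e x ∈ ln hL' (s a) (s (mate hL H x a)) ∩ ln hL' (s c) (s (mate hL H x c)) := by
    intro e he hle
    rw [Finset.mem_inter]
    constructor
    · have hline := hle _ la.1
      have : ln hL' (s a) (s (mate hL H x a)) = (ln hL a (mate hL H x a)).image e := by
        apply ln_eq hL' hsab hline
        · rw [← he a ha]; exact Finset.mem_image_of_mem e la.2.1
        · rw [← he _ hb.1]; exact Finset.mem_image_of_mem e la.2.2
      rw [this]
      exact Finset.mem_image_of_mem e hb.2.2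
    · have hline := hle _ lc.1
      have : ln hL' (s c) (s (mate hL H x c)) = (ln hL c (mate hL H x c)).image e := by
        apply ln_eq hL' hscd hline
        · rw [← he c hc]; exact Finset.mem_image_of_mem e lc.2.1
        · rw [← he _ hd.1]; exact Finset.mem_image_of_mem e lc.2.2
      rw [this]
      exact Finset.mem_image_of_mem e hd.2.2
  obtain ⟨y, hy⟩ := Finset.card_eq_one.mp (p4_inter_card hβ hL' l1.1 l2.1 hne)
  have m1 := key e1 h1 hl1
  have m2 := key e2 h2 hl2
  rw [hy, Finset.mem_singleton] at m1 m2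
  rw [m1, m2]

end TwoPlanes

section Misc

variable {α : Type*} [Fintype α] [DecidableEq α] (hα : Fintype.card α = 21)
  {L : Set (Finset α)} (hL : Cfsg.IsSteinerSystem 2 5 L)

include hα hL in
theorem p4_ncard_lines : L.ncard = 21 := by
  rw [ncard_eq_card_blocks]
  have h := card_blocks_through_eq hL 0 21 (by norm_num) (by decide) (by rw [hα]; decide) ∅
    Finset.card_empty
  rw [← h]
  congr 1
  ext l
  simp

include hα hL in
theorem exists_oval : ∃ H : Finset α, IsOval L H := by
  have h := card_arcs_six hα hL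
  obtain ⟨H, hH⟩ : (arcs L 6).Nonempty := by rw [← Finset.card_pos, h]; norm_num
  rw [mem_arcs] at hH
  exact ⟨H, hH.2, hH.1⟩

end Misc

end Cfsg.Agent.Lib.Helper95
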