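import Cfsg.Agent.Lib.Helper35.BitMask
import Cfsg.Agent.Lib.Helper95.Plane4Iso
import Mathlib

set_option autoImplicit false

/-! # A concrete model of the projective plane of order four: lines, hyperovals in three classes,
collineations permuting the classes -/

namespace Cfsg.Agent.Lib.Helper95.Pg24

open Cfsg.Agent.Lib.Helper35 Cfsg.Agent.Lib.Helper95

/-- the index of a point. -/
def v21 : Fin 21 → ℕ := fun i => i.val

theorem v21_inj : Function.Injective v21 := fun _ _ h => Fin.ext h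

theorem v21_lt (a : Fin 21) : v21 a < 21 := a.isLt

theorem v21_surj : ∀ i < 21, ∃ a : Fin 21, v21 a = i := fun i hi => ⟨⟨i, hi⟩, rfl⟩

/-- the mask of a set of points. -/
abbrev m21 (s : Finset (Fin 21)) : ℕ := maskOf v21 s

/-- the set of points of a mask. -/
abbrev f21 (m : ℕ) : Finset (Fin 21) := ofMask v21 m

theorem m21_f21 {m : ℕ} (hm : m < 2 ^ 21) : m21 (f21 m) = m := maskOf_ofMask v21_surj hm

theorem f21_m21 (s : Finset (Fin 21)) : f21 (m21 s) = s := ofMask_maskOf v21_inj s

theorem m21_lt (s : Finset (Fin 21)) : m21 s < 2 ^ 21 := maskOf_lt v21_lt s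

theorem card_eq_popc21 (s : Finset (Fin 21)) : s.card = popc 21 (m21 s) :=
  card_eq_popc v21_inj v21_lt s

theorem card_inter_eq_popc21 (s t : Finset (Fin 21)) :
    (s ∩ t).card = popc 21 (m21 s &&& m21 t) := by
  rw [card_eq_popc21, m21, maskOf_inter v21_inj]

theorem testBit_m21 (s : Finset (Fin 21)) (a : Fin 21) : (m21 s).testBit a.val = decide (a ∈ s) :=
  testBit_maskOf_idx v21_inj s a

def lines0 : List ℕ := [
  139810, 481, 1082404, 544816, 329768, 31, 279618, 1118466, 559234, 7681,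
  590404, 295696, 1065608, 1966081, 168008, 149764, 197776, 122881, 1058896, 533768,
  274564]

def clsL : List (List ℕ) := [
 [
   1656, 1926, 6246, 6552, 27808, 29504, 43532, 46098, 49364, 49450,
   73930, 74036, 84498, 87052, 101696, 103072, 140357, 151683, 165937, 197385,
   272643, 279077, 296073, 331857, 395968, 398624, 417816, 491526, 533137, 542793,
   561413, 590883, 655532, 655698, 706048, 735232, 789524, 791050, 827488, 868736,
   1060905, 1066257, 1081923, 1116293, 1182730, 1184276, 1220992, 1261664, 1310898, 1311052,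
   1366016, 1385984, 1575712, 1578176, 1597446, 1671192],
 [
   2740, 2890, 5290, 5460, 24684, 24978, 42688, 47392, 52248, 53766,
   76806, 78360, 83744, 88256, 98418, 98700, 141449, 148049, 165123, 200741,
   271409, 282889, 297029, 328323, 394764, 399378, 442528, 467264, 536643, 541829,
   557609, 592145, 658528, 660352, 696340, 737290, 786648, 786726, 813568, 889856,
   1057541, 1067043, 1085585, 1115209, 1179846, 1179960, 1209344, 1280512, 1314176, 1315424,
   1351690, 1392660, 1574418, 1579020, 1622336, 1646752],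
 [
   3276, 3378, 4818, 4908, 26132, 30730, 41144, 41286, 51808, 54656,
   76672, 78944, 82086, 82264, 99850, 104468, 143633, 148521, 164485, 198723,
   270921, 280721, 299043, 328965, 393332, 393610, 437248, 479744, 534565, 541443,
   558161, 594057, 657944, 660486, 680128, 753952, 788128, 792896, 835596, 860178,
   1057923, 1069125, 1083657, 1114673, 1181504, 1185952, 1228818, 1253388, 1313286, 1315864,
   1335584, 1409216, 1572970, 1573268, 1618432, 1657856]]

def colTabs : List (List ℕ) := [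
  [0, 1, 2, 3, 4, 5, 6, 7, 8, 9, 10, 11, 12, 13, 14, 15, 16, 17, 18, 19, 20],
  [0, 1, 2, 4, 3, 5, 6, 8, 7, 9, 10, 12, 11, 17, 18, 20, 19, 13, 14, 16, 15],
  [0, 1, 2, 4, 3, 5, 8, 7, 6, 17, 20, 19, 18, 13, 16, 15, 14, 9, 12, 11, 10],
  [0, 1, 2, 3, 4, 5, 8, 6, 7, 17, 20, 18, 19, 9, 12, 10, 11, 13, 16, 14, 15],
  [0, 1, 2, 3, 4, 5, 7, 8, 6, 13, 15, 16, 14, 17, 19, 20, 18, 9, 11, 12, 10],
  [0, 1, 2, 4, 3, 5, 7, 6, 8, 13, 15, 14, 16, 9, 11, 10, 12, 17, 19, 18, 20]]

def colInvs : List (List ℕ) := [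
  [0, 1, 2, 3, 4, 5, 6, 7, 8, 9, 10, 11, 12, 13, 14, 15, 16, 17, 18, 19, 20],
  [0, 1, 2, 4, 3, 5, 6, 8, 7, 9, 10, 12, 11, 17, 18, 20, 19, 13, 14, 16, 15],
  [0, 1, 2, 4, 3, 5, 8, 7, 6, 17, 20, 19, 18, 13, 16, 15, 14, 9, 12, 11, 10],
  [0, 1, 2, 3, 4, 5, 7, 8, 6, 13, 15, 16, 14, 17, 19, 20, 18, 9, 11, 12, 10],
  [0, 1, 2, 3, 4, 5, 8, 6, 7, 17, 20, 18, 19, 9, 12, 10, 11, 13, 16, 14, 15],
  [0, 1, 2, 4, 3, 5, 7, 6, 8, 13, 15, 14, 16, 9, 11, 10, 12, 17, 19, 18, 20]]

def colPerms : List (List ℕ) := [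
  [0, 1, 2],
  [0, 2, 1],
  [1, 0, 2],
  [1, 2, 0],
  [2, 0, 1],
  [2, 1, 0]]


theorem lines0_lt : ∀ m ∈ lines0, m < 2 ^ 21 := by decide +kernel

theorem lines0_card : ∀ m ∈ lines0, popc 21 m = 5 := by decide +kernel

theorem lines0_inter : ∀ m ∈ lines0, ∀ m' ∈ lines0, m ≠ m' → popc 21 (m &&& m') = 1 := by
  decide +kernel

theorem lines0_pair : ∀ i j : Fin 21, ∃ m ∈ lines0, m.testBit i.val = true ∧ m.testBit j.val = true := by
  decide +kernel

/-- the lines of the model. -/
def L0 : Set (Finset (Fin 21)) := {l | m21 l ∈ lines0}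

theorem mem_L0 (l : Finset (Fin 21)) : l ∈ L0 ↔ m21 l ∈ lines0 := Iff.rfl

theorem f21_mem_L0 {m : ℕ} (hm : m ∈ lines0) : f21 m ∈ L0 := by
  rw [mem_L0, m21_f21 (lines0_lt m hm)]
  exact hm

theorem L0_steiner : Cfsg.IsSteinerSystem 2 5 L0 := by
  refine ⟨?_, ?_⟩
  · intro b hb
    rw [card_eq_popc21]
    exact lines0_card _ hb
  · intro s hs
    obtain ⟨i, j, hij, rfl⟩ := Finset.card_eq_two.mp hs
    obtain ⟨m, hm, hi, hj⟩ := lines0_pair i j
    refine ⟨f21 m, ⟨f21_mem_L0 hm, ?_⟩, ?_⟩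
    · intro x hx
      simp only [Finset.mem_insert, Finset.mem_singleton] at hx
      rcases hx with rfl | rfl
      · exact (mem_ofMask v21 m _).mpr hi
      · exact (mem_ofMask v21 m _).mpr hj
    · rintro l ⟨hl, hsub⟩
      have hil : i ∈ l := hsub (by simp)
      have hjl : j ∈ l := hsub (by simp)
      by_contra hne
      have hne' : m21 l ≠ m := by
        intro h
        apply hne
        rw [← h, f21_m21]
      have h1 := lines0_inter _ hl _ hm hne'
      have h2 : 2 ≤ (l ∩ f21 m).card := by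
        have hsub2 : ({i, j} : Finset (Fin 21)) ⊆ l ∩ f21 m := by
          intro x hx
          simp only [Finset.mem_insert, Finset.mem_singleton] at hx
          rcases hx with rfl | rfl
          · exact Finset.mem_inter.mpr ⟨hil, (mem_ofMask v21 m _).mpr hi⟩
          · exact Finset.mem_inter.mpr ⟨hjl, (mem_ofMask v21 m _).mpr hj⟩
        have := Finset.card_le_card hsub2
        rwa [Finset.card_pair hij] at this
      rw [card_inter_eq_popc21, m21_f21 (lines0_lt m hm), h1] at h2
      omega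

theorem card_fin21 : Fintype.card (Fin 21) = 21 := Fintype.card_fin 21

/-! ### Hyperovals -/

/-- the masks of the hyperovals of class `k`. -/
def cls (k : ℕ) : List ℕ := clsL.getD k []

/-- all hyperovals. -/
def hypAll : List ℕ := cls 0 ++ cls 1 ++ cls 2

theorem hypAll_lt : ∀ m ∈ hypAll, m < 2 ^ 21 := by decide +kernel

theorem hypAll_card : ∀ m ∈ hypAll, popc 21 m = 6 := by decide +kernel

set_option maxRecDepth 100000 in
theorem hypAll_arc : ∀ m ∈ hypAll, ∀ lm ∈ lines0, popc 21 (lm &&& m) ≤ 2 := by decide +kernel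

set_option maxRecDepth 100000 in
theorem hypAll_nodup : hypAll.Nodup := by decide +kernel

theorem hypAll_length : hypAll.length = 168 := by decide +kernel

theorem mem_hypAll {m : ℕ} : m ∈ hypAll ↔ ∃ k < 3, m ∈ cls k := by
  unfold hypAll
  rw [List.mem_append, List.mem_append]
  constructor
  · rintro ((h | h) | h)
    · exact ⟨0, by omega, h⟩
    · exact ⟨1, by omega, h⟩
    · exact ⟨2, by omega, h⟩
  · rintro ⟨k, hk, h⟩
    interval_cases k
    · exact Or.inl (Or.inl h)
    · exact Or.inl (Or.inr h)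
    · exact Or.inr h

theorem isOval_f21 {m : ℕ} (hm : m ∈ hypAll) : IsOval L0 (f21 m) := by
  refine ⟨?_, ?_⟩
  · intro l hl
    rw [card_inter_eq_popc21, m21_f21 (hypAll_lt m hm)]
    exact hypAll_arc m hm _ hl
  · rw [card_eq_popc21, m21_f21 (hypAll_lt m hm)]
    exact hypAll_card m hm

/-- every hyperoval of the model is in the list. -/
theorem oval_mem_hypAll {H : Finset (Fin 21)} (hH : IsOval L0 H) : m21 H ∈ hypAll := by
  classical
  let I : Finset (Finset (Fin 21)) := hypAll.toFinset.image f21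
  have hI : I ⊆ arcs L0 6 := by
    intro S hS
    obtain ⟨m, hm, rfl⟩ := Finset.mem_image.mp hS
    rw [List.mem_toFinset] at hm
    have := isOval_f21 hm
    exact mem_arcs.mpr ⟨this.card, this.arc⟩
  have hcard : I.card = 168 := by
    rw [Finset.card_image_of_injOn, List.toFinset_card_of_nodup hypAll_nodup, hypAll_length]
    intro m hm m' hm' h
    rw [Finset.mem_coe, List.mem_toFinset] at hm hm'
    have := congrArg m21 h
    rwa [m21_f21 (hypAll_lt m hm), m21_f21 (hypAll_lt m' hm')] at this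
  have heq : I = arcs L0 6 := by
    apply Finset.eq_of_subset_of_card_le hI
    rw [hcard, card_arcs_six card_fin21 L0_steiner]
  have hmem : H ∈ I := by
    rw [heq]
    exact mem_arcs.mpr ⟨hH.card, hH.arc⟩
  obtain ⟨m, hm, rfl⟩ := Finset.mem_image.mp hmem
  rw [List.mem_toFinset] at hm
  rw [m21_f21 (hypAll_lt m hm)]
  exact hm

/-- boolean form of the class test. -/
def clsOK : Bool :=
  (List.range 3).all fun k => (List.range 3).all fun k' => (cls k).all fun m => (cls k').all fun m' =>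
    if k == k' then (m == m' || popc 21 (m &&& m') == 0 || popc 21 (m &&& m') == 2)
    else (popc 21 (m &&& m') == 1 || popc 21 (m &&& m') == 3)

set_option maxRecDepth 100000 in
theorem clsOK_eq : clsOK = true := by decide +kernel

theorem cls_check (k k' : Fin 3) : ∀ m ∈ cls k.val, ∀ m' ∈ cls k'.val,
    if k = k' then (m = m' ∨ popc 21 (m &&& m') = 0 ∨ popc 21 (m &&& m') = 2)
    else (popc 21 (m &&& m') = 1 ∨ popc 21 (m &&& m') = 3) := by
  intro m hm m' hm'
  have h := clsOK_eq
  unfold clsOK at h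
  rw [List.all_eq_true] at h
  have h1 := h k.val (List.mem_range.mpr k.isLt)
  rw [List.all_eq_true] at h1
  have h2 := h1 k'.val (List.mem_range.mpr k'.isLt)
  rw [List.all_eq_true] at h2
  have h3 := h2 m hm
  rw [List.all_eq_true] at h3
  have h4 := h3 m' hm'
  by_cases hkk : k = k'
  · rw [if_pos hkk]
    rw [if_pos (by rw [hkk]; exact beq_self_eq_true _)] at h4
    simpa [or_assoc] using h4
  · rw [if_neg hkk]
    have : (k.val == k'.val) = false := by
      rw [beq_eq_false_iff_ne]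
      intro h; exact hkk (Fin.ext h)
    rw [this] at h4
    simpa using h4

theorem cls_same {k : ℕ} (hk : k < 3) {m m' : ℕ} (hm : m ∈ cls k) (hm' : m' ∈ cls k)
    (hne : m ≠ m') : popc 21 (m &&& m') = 0 ∨ popc 21 (m &&& m') = 2 := by
  have h := cls_check ⟨k, hk⟩ ⟨k, hk⟩ m hm m' hm'
  rw [if_pos rfl] at h
  rcases h with h | h
  · exact absurd h hne
  · exact h

theorem cls_diff {k k' : ℕ} (hk : k < 3) (hk' : k' < 3) (hkk' : k ≠ k') {m m' : ℕ}
    (hm : m ∈ cls k) (hm' : m' ∈ cls k') :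
    popc 21 (m &&& m') = 1 ∨ popc 21 (m &&& m') = 3 := by
  have h := cls_check ⟨k, hk⟩ ⟨k', hk'⟩ m hm m' hm'
  rw [if_neg (by intro h; exact hkk' (Fin.mk.inj_iff.mp h))] at h
  exact h

/-- boolean form of the triangle test, on increasing triples. -/
def triOK : Bool :=
  (List.range 21).all fun x => (List.range 21).all fun y => (List.range 21).all fun z =>
    !(decide (x < y) && decide (y < z)) ||
      (lines0.any (fun lm => lm &&& (2 ^ x ||| 2 ^ y ||| 2 ^ z) == (2 ^ x ||| 2 ^ y ||| 2 ^ z)) ||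
        (List.range 3).all fun k =>
          (cls k).any (fun m => m &&& (2 ^ x ||| 2 ^ y ||| 2 ^ z) == (2 ^ x ||| 2 ^ y ||| 2 ^ z)))

set_option maxRecDepth 100000 in
theorem triOK_eq : triOK = true := by decide +kernel

theorem triangle_sorted {x y z : ℕ} (hxy : x < y) (hyz : y < z) (hz : z < 21) :
    (∃ lm ∈ lines0, lm &&& (2 ^ x ||| 2 ^ y ||| 2 ^ z) = (2 ^ x ||| 2 ^ y ||| 2 ^ z)) ∨
    ∀ k < 3, ∃ m ∈ cls k, m &&& (2 ^ x ||| 2 ^ y ||| 2 ^ z) = (2 ^ x ||| 2 ^ y ||| 2 ^ z) := by
  have h := triOK_eq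
  unfold triOK at h
  rw [List.all_eq_true] at h
  have h1 := h x (List.mem_range.mpr (by omega))
  rw [List.all_eq_true] at h1
  have h2 := h1 y (List.mem_range.mpr (by omega))
  rw [List.all_eq_true] at h2
  have h3 := h2 z (List.mem_range.mpr hz)
  have e1 : decide (x < y) = true := decide_eq_true hxy
  have e2 : decide (y < z) = true := decide_eq_true hyz
  rw [e1, e2] at h3
  simp only [Bool.and_self, Bool.not_true, Bool.false_or, Bool.or_eq_true, List.any_eq_true,
    List.all_eq_true, List.mem_range, beq_iff_eq] at h3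
  exact h3

/-! ### Collineations -/

/-- the class permutation induced by the `j`-th collineation. -/
def sig (j k : ℕ) : ℕ := (colPerms.getD j []).getD k 0

def colF (j : ℕ) (i : ℕ) : ℕ := ((colTabs.getD j []).getD i 0) % 21

def colG (j : ℕ) (i : ℕ) : ℕ := ((colInvs.getD j []).getD i 0) % 21

def colFun (j : ℕ) (i : Fin 21) : Fin 21 := ⟨colF j i.val, Nat.mod_lt _ (by norm_num)⟩

def colInvFun (j : ℕ) (i : Fin 21) : Fin 21 := ⟨colG j i.val, Nat.mod_lt _ (by norm_num)⟩

theorem col_left : ∀ j : Fin 6, ∀ i : Fin 21, colInvFun j.val (colFun j.val i) = i := by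
  decide +kernel

theorem col_right : ∀ j : Fin 6, ∀ i : Fin 21, colFun j.val (colInvFun j.val i) = i := by
  decide +kernel

/-- the `j`-th collineation. -/
def colPerm (j : Fin 6) : Equiv.Perm (Fin 21) :=
  ⟨colFun j.val, colInvFun j.val, col_left j, col_right j⟩

theorem m21_image_col (j : Fin 6) (s : Finset (Fin 21)) :
    m21 (s.image (colPerm j)) = mapMask (colF j.val) 21 (m21 s) :=
  maskOf_image v21_lt (colPerm j) (colF j.val) (fun _ => rfl) s

theorem col_lines_check : ∀ j : Fin 6, ∀ lm ∈ lines0, mapMask (colF j.val) 21 lm ∈ lines0 := by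
  decide +kernel

set_option maxRecDepth 100000 in
theorem col_cls_check : ∀ j : Fin 6, ∀ k : Fin 3, ∀ m ∈ cls k.val,
    mapMask (colF j.val) 21 m ∈ cls (sig j.val k.val) := by
  decide +kernel

theorem col_lines (j : Fin 6) {l : Finset (Fin 21)} (hl : l ∈ L0) : l.image (colPerm j) ∈ L0 := by
  rw [mem_L0, m21_image_col]
  exact col_lines_check j _ hl

theorem col_cls (j : Fin 6) {k : ℕ} (hk : k < 3) {H : Finset (Fin 21)} (hH : m21 H ∈ cls k) :
    m21 (H.image (colPerm j)) ∈ cls (sig j.val k) := by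
  rw [m21_image_col]
  exact col_cls_check j ⟨k, hk⟩ _ hH

theorem sig_lt : ∀ j : Fin 6, ∀ k : Fin 3, sig j.val k.val < 3 := by decide

theorem exists_col : ∀ π : Fin 3 → Fin 3, Function.Injective π →
    ∃ j : Fin 6, ∀ k : Fin 3, sig j.val (π k).val = k.val := by
  decide

theorem m21_image_colsymm (j : Fin 6) (s : Finset (Fin 21)) :
    m21 (s.image (colPerm j).symm) = mapMask (colG j.val) 21 (m21 s) :=
  maskOf_image v21_lt (colPerm j).symm (colG j.val) (fun _ => rfl) s

theorem colinv_lines_check : ∀ j : Fin 6, ∀ lm ∈ lines0, mapMask (colG j.val) 21 lm ∈ lines0 := by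
  decide +kernel

theorem colsymm_lines (j : Fin 6) {l : Finset (Fin 21)} (hl : l ∈ L0) :
    l.image (colPerm j).symm ∈ L0 := by
  rw [mem_L0, m21_image_colsymm]
  exact colinv_lines_check j _ hl

/-! ### Triangles -/

theorem testBit_of_and_eq {m t i : ℕ} (h : m &&& t = t) (hi : t.testBit i = true) :
    m.testBit i = true := by
  have h1 : (m &&& t).testBit i = true := by rw [h]; exact hi
  rw [Nat.testBit_and, hi, Bool.and_true] at h1
  exact h1

theorem tri_bits (x y z : ℕ) : (2 ^ x ||| 2 ^ y ||| 2 ^ z).testBit x = true ∧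
    (2 ^ x ||| 2 ^ y ||| 2 ^ z).testBit y = true ∧ (2 ^ x ||| 2 ^ y ||| 2 ^ z).testBit z = true := by
  simp [Nat.testBit_or, Nat.testBit_two_pow_self]

/-- the property of a triple of points: collinear, or contained in a hyperoval of each class. -/
def TriProp (p q r : Fin 21) : Prop :=
  (∃ lm ∈ lines0, p ∈ f21 lm ∧ q ∈ f21 lm ∧ r ∈ f21 lm) ∨
    ∀ k < 3, ∃ m ∈ cls k, p ∈ f21 m ∧ q ∈ f21 m ∧ r ∈ f21 m

theorem triProp_sorted {p q r : Fin 21} (hpq : p < q) (hqr : q < r) : TriProp p q r := by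
  have hb := tri_bits p.val q.val r.val
  rcases triangle_sorted (x := p.val) (y := q.val) (z := r.val) hpq hqr r.isLt with h | h
  · left
    obtain ⟨lm, hlm, he⟩ := h
    refine ⟨lm, hlm, ?_, ?_, ?_⟩
    · exact (mem_ofMask v21 lm p).mpr (testBit_of_and_eq he hb.1)
    · exact (mem_ofMask v21 lm q).mpr (testBit_of_and_eq he hb.2.1)
    · exact (mem_ofMask v21 lm r).mpr (testBit_of_and_eq he hb.2.2)
  · right
    intro k hk
    obtain ⟨m, hm, he⟩ := h k hk
    refine ⟨m, hm, ?_, ?_, ?_⟩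
    · exact (mem_ofMask v21 m p).mpr (testBit_of_and_eq he hb.1)
    · exact (mem_ofMask v21 m q).mpr (testBit_of_and_eq he hb.2.1)
    · exact (mem_ofMask v21 m r).mpr (testBit_of_and_eq he hb.2.2)

theorem triProp_swap12 {p q r : Fin 21} (h : TriProp p q r) : TriProp q p r := by
  rcases h with ⟨lm, hlm, h1, h2, h3⟩ | h
  · exact Or.inl ⟨lm, hlm, h2, h1, h3⟩
  · right
    intro k hk
    obtain ⟨m, hm, h1, h2, h3⟩ := h k hk
    exact ⟨m, hm, h2, h1, h3⟩

theorem triProp_swap23 {p q r : Fin 21} (h : TriProp p q r) : TriProp p r q := by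
  rcases h with ⟨lm, hlm, h1, h2, h3⟩ | h
  · exact Or.inl ⟨lm, hlm, h1, h3, h2⟩
  · right
    intro k hk
    obtain ⟨m, hm, h1, h2, h3⟩ := h k hk
    exact ⟨m, hm, h1, h3, h2⟩

/-- every triple of distinct points is collinear or lies in a hyperoval of each class. -/
theorem triangle {p q r : Fin 21} (hpq : p ≠ q) (hpr : p ≠ r) (hqr : q ≠ r) : TriProp p q r := by
  rcases lt_or_gt_of_ne hpq with h1 | h1 <;> rcases lt_or_gt_of_ne hpr with h2 | h2 <;>
    rcases lt_or_gt_of_ne hqr with h3 | h3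
  · exact triProp_sorted h1 h3
  · exact triProp_swap23 (triProp_sorted h2 h3)
  · exact absurd (lt_trans h1 h3) (not_lt_of_gt h2)
  · exact triProp_swap23 (triProp_swap12 (triProp_sorted h2 h1))
  · exact triProp_swap12 (triProp_sorted h1 h2)
  · exact absurd (lt_trans h3 h1) (not_lt_of_gt h2)
  · exact triProp_swap12 (triProp_swap23 (triProp_sorted h3 h2))
  · exact triProp_swap12 (triProp_swap23 (triProp_swap12 (triProp_sorted h3 h1)))

/-- a triple of points not on a line. -/
theorem noncollinear_015 : ∀ lm ∈ lines0,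
    ¬ (lm.testBit 0 = true ∧ lm.testBit 1 = true ∧ lm.testBit 5 = true) := by
  decide +kernel

end Cfsg.Agent.Lib.Helper95.Pg24
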