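import Cfsg.Agent.Lib.Helper95.BitDfs
import Cfsg.Agent.Lib.Helper95.Pg24
import Mathlib

set_option autoImplicit false

/-! # The 120 Baer subplanes of the model plane meeting the lines and the hyperovals of classes
0 and 1 in an odd number of points -/

namespace Cfsg.Agent.Lib.Helper95.Pg24

open Cfsg.Agent.Lib.Helper35 Cfsg.Agent.Lib.Helper95 Cfsg.Agent.Lib.Helper95.BitDfs

/-- the lines and the hyperovals of classes 0 and 1, sorted by their highest bit. -/
def lvls : List (List ℕ) := [
  [],
  [],
  [],
  [],
  [31],
  [],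
  [],
  [],
  [481],
  [],
  [1656, 1926],
  [2740, 2890],
  [7681, 6246, 6552, 5290, 5460],
  [],
  [27808, 29504, 24684, 24978],
  [43532, 46098, 49364, 49450, 42688, 47392, 52248, 53766],
  [122881, 73930, 74036, 84498, 87052, 101696, 103072, 76806, 78360, 83744, 88256, 98418, 98700],
  [139810, 168008, 149764, 197776, 140357, 151683, 165937, 197385, 141449, 148049, 165123, 200741],
  [329768, 279618, 295696, 274564, 272643, 279077, 296073, 331857, 395968, 398624, 417816, 491526, 271409, 282889, 297029, 328323, 394764, 399378, 442528, 467264],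
  [544816, 559234, 590404, 533768, 533137, 542793, 561413, 590883, 655532, 655698, 706048, 735232, 789524, 791050, 827488, 868736, 536643, 541829, 557609, 592145, 658528, 660352, 696340, 737290, 786648, 786726, 813568, 889856],
  [1082404, 1118466, 1065608, 1966081, 1058896, 1060905, 1066257, 1081923, 1116293, 1182730, 1184276, 1220992, 1261664, 1310898, 1311052, 1366016, 1385984, 1575712, 1578176, 1597446, 1671192, 1057541, 1067043, 1085585, 1115209, 1179846, 1179960, 1209344, 1280512, 1314176, 1315424, 1351690, 1392660, 1574418, 1579020, 1622336, 1646752]]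

/-- the Baer subplanes of class 2. -/
def baer2 : List ℕ := [
  250128, 1847568, 143120, 1722512, 370832, 284304, 1475664, 615504, 563792, 1115088,
  1121328, 983600, 1106480, 558512, 280944, 143600, 952584, 1141000, 1087240, 1511560,
  585864, 593544, 277576, 377416, 1712712, 148936, 1852456, 238632, 154152, 271272,
  594280, 1083624, 1770756, 320772, 334596, 171140, 1868420, 221828, 938052, 1159236,
  1068612, 534980, 641060, 1452068, 538148, 1069476, 164708, 328932, 541468, 1057948,
  198748, 299068, 548098, 1458946, 631554, 1164418, 926850, 1063554, 1902658, 190530,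
  202306, 299458, 1740834, 356386, 298530, 199074, 1058146, 541410, 328986, 164506,
  1069146, 534586, 1083670, 594070, 270934, 148534, 143630, 280718, 558158, 1114670,
  478209, 1616897, 1659393, 438785, 79233, 52097, 1186113, 788289, 753857, 1335489,
  1409313, 680225, 792737, 1181345, 54369, 76385, 660505, 1313305, 41305, 82105,
  30741, 99861, 393621, 1572981, 1228813, 860173, 4813, 3373, 835603, 1253395,
  3283, 4915, 104459, 26123, 1573259, 393323, 1315847, 657927, 82247, 41127]

/-- the masks to be met oddly. -/
def oddM : List ℕ := lines0 ++ cls 0 ++ cls 1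

theorem lvls_ok : ∀ j : Fin 21, ∀ m ∈ lvls.getD j.val [], m < 2 ^ (j.val + 1) ∧ m ∈ oddM := by
  decide +kernel

/-- the pruning test. -/
def okB (j a : ℕ) : Bool :=
  decide (popc 21 a ≤ 7) && (lvls.getD j []).all (fun m => popc 21 (a &&& m) % 2 == 1)

/-- the final test. -/
def finB (a : ℕ) : Bool := popc 21 a == 7

set_option maxRecDepth 100000 in
theorem dfs_eq : dfs okB finB 21 0 0 = baer2 := by decide +kernel

/-- a mask of weight 7 meeting all lines and all hyperovals of classes 0 and 1 oddly is one of the
120 Baer subplanes of the list. -/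
theorem baer_sound {x : ℕ} (hx : x < 2 ^ 21) (h7 : popc 21 x = 7)
    (hodd : ∀ m ∈ oddM, popc 21 (x &&& m) % 2 = 1) : x ∈ baer2 := by
  rw [← dfs_eq]
  apply mem_dfs_root okB finB 21 x hx
  · unfold finB
    rw [h7]
    rfl
  · intro j hj
    unfold okB
    rw [Bool.and_eq_true]
    constructor
    · rw [decide_eq_true_eq]
      calc popc 21 (x % 2 ^ (j + 1)) ≤ popc 21 x := popc_mod_le 21 x (j + 1)
        _ = 7 := h7
        _ ≤ 7 := le_rfl
    · rw [List.all_eq_true]
      intro m hm
      obtain ⟨hlt, hmem⟩ := lvls_ok ⟨j, hj⟩ m hm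
      rw [mod_and_eq hlt, hodd m hmem]
      rfl

theorem baer2_basic : ∀ x ∈ baer2, x < 2 ^ 21 ∧ popc 21 x = 7 := by decide +kernel

set_option maxRecDepth 100000 in
theorem baer2_lines : ∀ x ∈ baer2, ∀ l ∈ lines0, popc 21 (x &&& l) ≤ 3 := by decide +kernel

/-- boolean form of the test against the hyperovals. -/
def baerOvalOK : Bool :=
  baer2.all fun x => (cls 0 ++ cls 1).all fun m => decide (popc 21 (x &&& m) ≤ 3)

set_option maxRecDepth 100000 in
theorem baerOvalOK_eq : baerOvalOK = true := by decide +kernel

theorem baer2_ovals {x m : ℕ} (hx : x ∈ baer2) (hm : m ∈ cls 0 ∨ m ∈ cls 1) :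
    popc 21 (x &&& m) ≤ 3 := by
  have h := baerOvalOK_eq
  unfold baerOvalOK at h
  rw [List.all_eq_true] at h
  have h1 := h x hx
  rw [List.all_eq_true] at h1
  have h2 := h1 m (List.mem_append.mpr hm)
  exact of_decide_eq_true h2

/-- boolean form of the pairwise intersection test. -/
def baerInterOK : Bool :=
  baer2.all fun x => baer2.all fun y => (x == y) || decide (popc 21 (x &&& y) ≤ 3)

set_option maxRecDepth 100000 in
theorem baerInterOK_eq : baerInterOK = true := by decide +kernel

theorem baer2_inter {x y : ℕ} (hx : x ∈ baer2) (hy : y ∈ baer2) (hne : x ≠ y) :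
    popc 21 (x &&& y) ≤ 3 := by
  have h := baerInterOK_eq
  unfold baerInterOK at h
  rw [List.all_eq_true] at h
  have h1 := h x hx
  rw [List.all_eq_true] at h1
  have h2 := h1 y hy
  rw [Bool.or_eq_true] at h2
  rcases h2 with h2 | h2
  · exact absurd (beq_iff_eq.mp h2) hne
  · exact of_decide_eq_true h2

end Cfsg.Agent.Lib.Helper95.Pg24
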