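import Cfsg.Agent.Lib.Helper35.BitMask
import Mathlib

set_option autoImplicit false

/-! # Depth-first enumeration of bit masks with pruning, and its soundness -/

namespace Cfsg.Agent.Lib.Helper95.BitDfs

open Cfsg.Agent.Lib.Helper35

/-- depth-first enumeration of the numbers below `2 ^ (k + d)` whose lowest `k` bits are `acc`,
pruned by `ok` (tested on the lowest `j + 1` bits after bit `j` has been chosen), filtered by
`fin`. -/
def dfs (ok : ℕ → ℕ → Bool) (fin : ℕ → Bool) : ℕ → ℕ → ℕ → List ℕ
  | 0, _, acc => if fin acc then [acc] else []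
  | d + 1, k, acc =>
      (if ok k acc then dfs ok fin d (k + 1) acc else []) ++
      (if ok k (acc + 2 ^ k) then dfs ok fin d (k + 1) (acc + 2 ^ k) else [])

theorem mem_dfs (ok : ℕ → ℕ → Bool) (fin : ℕ → Bool) : ∀ (d k x : ℕ), x < 2 ^ (k + d) →
    fin x = true → (∀ j, k ≤ j → j < k + d → ok j (x % 2 ^ (j + 1)) = true) →
    x ∈ dfs ok fin d k (x % 2 ^ k) := by
  intro d
  induction d with
  | zero =>
    intro k x hx hfin _
    rw [Nat.add_zero] at hx
    rw [Nat.mod_eq_of_lt hx, dfs, if_pos hfin]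
    exact List.mem_singleton.mpr rfl
  | succ d ih =>
    intro k x hx hfin hok
    have hk := hok k le_rfl (by omega)
    have hx' : x < 2 ^ (k + 1 + d) := by
      have : k + 1 + d = k + (d + 1) := by omega
      rw [this]; exact hx
    have hrec := ih (k + 1) x hx' hfin (fun j hj hj' => hok j (by omega) (by omega))
    have hmod : x % 2 ^ (k + 1) = x % 2 ^ k + 2 ^ k * (x / 2 ^ k % 2) := Nat.mod_pow_succ
    rw [dfs]
    rcases Nat.mod_two_eq_zero_or_one (x / 2 ^ k) with h | h
    · have hmod' : x % 2 ^ (k + 1) = x % 2 ^ k := by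
        rw [hmod, h]
        simp
      rw [hmod'] at hk hrec
      rw [if_pos hk]
      exact List.mem_append_left _ hrec
    · have hmod' : x % 2 ^ (k + 1) = x % 2 ^ k + 2 ^ k := by
        rw [hmod, h]
        simp
      rw [hmod'] at hk hrec
      rw [if_pos hk]
      exact List.mem_append_right _ hrec

/-- soundness at the root. -/
theorem mem_dfs_root (ok : ℕ → ℕ → Bool) (fin : ℕ → Bool) (n x : ℕ) (hx : x < 2 ^ n)
    (hfin : fin x = true) (hok : ∀ j, j < n → ok j (x % 2 ^ (j + 1)) = true) :
    x ∈ dfs ok fin n 0 0 := by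
  have h := mem_dfs ok fin n 0 x (by rw [Nat.zero_add]; exact hx) hfin
    (fun j _ hj => hok j (by omega))
  rwa [Nat.pow_zero, Nat.mod_one] at h

/-- masks below `2 ^ j` only see the lowest `j` bits. -/
theorem mod_and_eq {x m j : ℕ} (hm : m < 2 ^ j) : (x % 2 ^ j) &&& m = x &&& m := by
  apply Nat.eq_of_testBit_eq
  intro i
  rw [Nat.testBit_and, Nat.testBit_and, Nat.testBit_mod_two_pow]
  by_cases hi : i < j
  · simp [hi]
  · have : m.testBit i = false := by
      apply Nat.testBit_lt_two_pow
      exact lt_of_lt_of_le hm (Nat.pow_le_pow_right (by norm_num) (by omega))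
    rw [this]
    simp

theorem popc_mod_le (n x j : ℕ) : popc n (x % 2 ^ j) ≤ popc n x := by
  rw [popc_eq_sum, popc_eq_sum]
  apply Finset.sum_le_sum
  intro i _
  rw [Nat.testBit_mod_two_pow]
  by_cases hi : i < j <;> by_cases hb : x.testBit i = true <;> simp [hi, hb]

end Cfsg.Agent.Lib.Helper95.BitDfs
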