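import Mathlib
import Cfsg.Agent.Lib.Helper32.CoprimeDecomp

/-!
# K-CD3-GRP (keystone 446025, S4460): Isaacs 12.3(b), pure group theory

A finite solvable nonabelian group `X` in which every nontrivial normal subgroup contains `X'`
and which is not a `p`-group is a Frobenius group `X' ⋊ Q` with `X'` an elementary abelian
`r`-group and `Q` abelian.
-/

set_option autoImplicit false

namespace Cfsg.Agent.Lib.Helper95.CD3

universe u

open scoped commutatorElement

section
variable {X : Type u} [Group X]

theorem grp_comm_ne_bot (hnab : ∃ a b : X, a * b ≠ b * a) : commutator X ≠ ⊥ := by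
  obtain ⟨a, b, hab⟩ := hnab
  intro h
  have hm : ⁅a, b⁆ ∈ commutator X :=
    Subgroup.commutator_mem_commutator (Subgroup.mem_top a) (Subgroup.mem_top b)
  rw [h, Subgroup.mem_bot, commutatorElement_eq_one_iff_mul_comm] at hm
  exact hab hm

theorem grp_comm_abelian (hsolv : IsSolvable X) (hK : commutator X ≠ ⊥)
    (hmin : ∀ L : Subgroup X, L.Normal → L ≠ ⊥ → commutator X ≤ L) :
    ∀ a ∈ commutator X, ∀ b ∈ commutator X, a * b = b * a := by
  have hKK : ⁅commutator X, commutator X⁆ = ⊥ := by
    by_contra hne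
    have hle : commutator X ≤ ⁅commutator X, commutator X⁆ := hmin _ inferInstance hne
    have heq : ⁅commutator X, commutator X⁆ = commutator X :=
      le_antisymm (Subgroup.commutator_le_right _ _) hle
    obtain ⟨n, hn⟩ := hsolv.solvable
    have hall : ∀ n, derivedSeries X (n + 1) = commutator X := by
      intro n
      induction n with
      | zero => rfl
      | succ n ih => rw [derivedSeries_succ, ih]; exact heq
    cases n with
    | zero =>
      rw [derivedSeries_zero] at hn
      exact hK (eq_bot_iff.2 (hn ▸ le_top))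
    | succ m => exact hK ((hall m).symm.trans hn)
  intro a ha b hb
  have := (Subgroup.commutator_eq_bot_iff_le_centralizer.1 hKK) hb
  exact Subgroup.mem_centralizer_iff.1 this a ha

theorem grp_comm_exp [Finite X] (hK : commutator X ≠ ⊥)
    (hab : ∀ a ∈ commutator X, ∀ b ∈ commutator X, a * b = b * a)
    (hmin : ∀ L : Subgroup X, L.Normal → L ≠ ⊥ → commutator X ≤ L) :
    ∃ r : ℕ, r.Prime ∧ ∀ k ∈ commutator X, k ^ r = 1 := by
  have : Nontrivial (commutator X) := (Subgroup.nontrivial_iff_ne_bot _).2 hK
  have h1 : 1 < Nat.card (commutator X) := Finite.one_lt_card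
  obtain ⟨r, hr, hrd⟩ := Nat.exists_prime_and_dvd (ne_of_gt h1)
  have := Fact.mk hr
  obtain ⟨g, hg⟩ := exists_prime_orderOf_dvd_card' (G := commutator X) r hrd
  refine ⟨r, hr, ?_⟩
  let T : Subgroup X :=
    { carrier := {k | k ∈ commutator X ∧ k ^ r = 1}
      mul_mem' := by
        rintro a b ⟨ha, ha'⟩ ⟨hb, hb'⟩
        refine ⟨Subgroup.mul_mem _ ha hb, ?_⟩
        rw [(show Commute a b from hab a ha b hb).mul_pow, ha', hb', one_mul]
      one_mem' := ⟨Subgroup.one_mem _, one_pow _⟩
      inv_mem' := by
        rintro a ⟨ha, ha'⟩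
        exact ⟨Subgroup.inv_mem _ ha, by rw [inv_pow, ha', inv_one]⟩ }
  have hTn : T.Normal := ⟨by
    rintro a ⟨ha, ha'⟩ g
    refine ⟨(inferInstance : (commutator X).Normal).conj_mem a ha g, ?_⟩
    rw [conj_pow, ha', mul_one, mul_inv_cancel]⟩
  have hTne : T ≠ ⊥ := by
    intro h
    have hgT : (g : X) ∈ T := by
      refine ⟨g.2, ?_⟩
      have := pow_orderOf_eq_one g
      rw [hg] at this
      exact_mod_cast congrArg Subtype.val this
    rw [h, Subgroup.mem_bot] at hgT
    have hg1 : g = 1 := Subtype.ext hgT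
    rw [hg1, orderOf_one] at hg
    exact hr.one_lt.ne hg
  intro k hk
  exact (hmin T hTn hTne hk).2

theorem grp_center_bot [Finite X] (hK : commutator X ≠ ⊥)
    (hmin : ∀ L : Subgroup X, L.Normal → L ≠ ⊥ → commutator X ≤ L)
    (hnp : ∀ p : ℕ, p.Prime → ¬ IsPGroup p X) : Subgroup.center X = ⊥ := by
  by_contra hne
  have hKZ : commutator X ≤ Subgroup.center X := hmin _ inferInstance hne
  have hnil : Group.IsNilpotent X := by
    refine Subgroup.isNilpotent_of_ker_le_center (Abelianization.of (G := X)) ?_
    rw [Abelianization.ker_of]; exact hKZ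
  have hsyl := ((Group.isNilpotent_of_finite_tfae (G := X)).out 0 3).mp hnil
  have : Nontrivial (commutator X) := (Subgroup.nontrivial_iff_ne_bot _).2 hK
  have hcard : 1 < Nat.card X :=
    lt_of_lt_of_le (Finite.one_lt_card (α := commutator X)) (Nat.le_of_dvd Nat.card_pos (Subgroup.card_subgroup_dvd_card _))
  obtain ⟨p, hp, hpd⟩ := Nat.exists_prime_and_dvd (ne_of_gt hcard)
  have hnotp := hnp p hp
  have hex : ∃ q, q.Prime ∧ q ∣ Nat.card X ∧ q ≠ p := by
    by_contra hcon
    push Not at hcon
    have hpow := Nat.eq_prime_pow_of_unique_prime_dvd (n := Nat.card X) (p := p) (by omega)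
      (fun {d} hd hdd => hcon d hd hdd)
    have := Fact.mk hp
    exact hnotp (IsPGroup.iff_card.2 ⟨_, hpow⟩)
  obtain ⟨q, hq, hqd, hqp⟩ := hex
  have := Fact.mk hp
  have := Fact.mk hq
  obtain ⟨P⟩ := (inferInstance : Nonempty (Sylow p X))
  obtain ⟨Q⟩ := (inferInstance : Nonempty (Sylow q X))
  have hPn := hsyl p inferInstance P
  have hQn := hsyl q inferInstance Q
  have hKP : commutator X ≤ P := hmin _ hPn (P.ne_bot_of_dvd_card hpd)
  have hKQ : commutator X ≤ Q := hmin _ hQn (Q.ne_bot_of_dvd_card hqd)
  apply hK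
  rw [eq_bot_iff]
  intro k hk
  obtain ⟨n1, h1⟩ := P.2 ⟨k, hKP hk⟩
  obtain ⟨n2, h2⟩ := Q.2 ⟨k, hKQ hk⟩
  have e1 : k ^ (p ^ n1) = 1 := by simpa using congrArg Subtype.val h1
  have e2 : k ^ (q ^ n2) = 1 := by simpa using congrArg Subtype.val h2
  have hd1 := orderOf_dvd_of_pow_eq_one e1
  have hd2 := orderOf_dvd_of_pow_eq_one e2
  have hcop : Nat.Coprime (p ^ n1) (q ^ n2) :=
    Nat.Coprime.pow _ _ ((Nat.coprime_primes hp hq).2 hqp.symm)
  have : orderOf k = 1 := Nat.eq_one_of_dvd_coprimes hcop hd1 hd2
  rw [Subgroup.mem_bot]; exact orderOf_eq_one_iff.1 this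

/-- 446025 K-CD3-GRP: GROUP LEMMA (Isaacs 12.3(b), pure group theory). -/
theorem frobenius_structure {X : Type u} [Group X] [Finite X] (hsolv : Group.IsSolvable X)
    (hnab : ∃ a b : X, a * b ≠ b * a)
    (hmin : ∀ L : Subgroup X, L.Normal → L ≠ ⊥ → commutator X ≤ L)
    (hnp : ∀ p : ℕ, p.Prime → ¬ IsPGroup p X) :
    ∃ (r : ℕ) (Q : Subgroup X), r.Prime ∧ IsPGroup r (commutator X) ∧
      (∀ a ∈ commutator X, ∀ b ∈ commutator X, a * b = b * a) ∧
      (∀ a ∈ Q, ∀ b ∈ Q, a * b = b * a) ∧
      commutator X ⊓ Q = ⊥ ∧ commutator X ⊔ Q = ⊤ ∧ (Nat.card Q).Coprime r ∧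
      (∀ q ∈ Q, q ≠ 1 → ∀ v ∈ commutator X, q * v = v * q → v = 1) ∧
      (∀ g : X, g ∉ commutator X → ∀ v ∈ commutator X, g * v = v * g → v = 1) ∧
      (commutator X).index = Nat.card Q ∧ 1 < Nat.card Q ∧
      ∃ a : ℕ, 0 < a ∧ Nat.card (commutator X) = r ^ a := by
  have hK := grp_comm_ne_bot hnab
  have hab := grp_comm_abelian hsolv hK hmin
  obtain ⟨r, hr, hexp⟩ := grp_comm_exp hK hab hmin
  have hZ := grp_center_bot hK hmin hnp
  have hrf := Fact.mk hr
  have hKp : IsPGroup r (commutator X) := fun g =>
    ⟨1, by rw [pow_one]; exact Subtype.ext (by simpa using hexp g g.2)⟩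
  obtain ⟨P, hKP⟩ := hKp.exists_le_sylow
  have hPn : (P : Subgroup X).Normal := ⟨fun p hp g => by
    have e : g * p * g⁻¹ = ⁅g, p⁆ * p := by simp [commutatorElement_def]
    rw [e]
    exact (P : Subgroup X).mul_mem
      (hKP (Subgroup.commutator_mem_commutator (Subgroup.mem_top _) (Subgroup.mem_top _))) hp⟩
  have hPne : (P : Subgroup X) ≠ ⊥ := fun h => hK (eq_bot_iff.2 (h ▸ hKP))
  -- `K ≤ C(P)`
  have hKCP : commutator X ≤ Subgroup.centralizer ((P : Subgroup X) : Set X) := by
    have hnt : Nontrivial (P : Subgroup X) := (Subgroup.nontrivial_iff_ne_bot _).2 hPne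
    have hcn : Nontrivial (Subgroup.center (P : Subgroup X)) := P.isPGroup'.center_nontrivial
    obtain ⟨z, hz⟩ := exists_ne (1 : Subgroup.center (P : Subgroup X))
    have hle := hmin ((P : Subgroup X) ⊓ Subgroup.centralizer ((P : Subgroup X) : Set X))
      inferInstance ?_
    · exact hle.trans inf_le_right
    · intro hbot
      have hzmem : ((z : (P : Subgroup X)) : X) ∈
          (P : Subgroup X) ⊓ Subgroup.centralizer ((P : Subgroup X) : Set X) := by
        refine Subgroup.mem_inf.2 ⟨(z : (P : Subgroup X)).2, ?_⟩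
        rw [Subgroup.mem_centralizer_iff]
        intro h hh
        have := Subgroup.mem_center_iff.1 z.2 ⟨h, hh⟩
        exact congrArg Subtype.val this
      rw [hbot, Subgroup.mem_bot] at hzmem
      exact hz (Subtype.ext (Subtype.ext hzmem))
  -- Schur–Zassenhaus complement
  obtain ⟨H, hPH⟩ := Subgroup.exists_right_complement'_of_coprime (N := (P : Subgroup X))
    P.card_coprime_index
  have hdisj : ∀ x, x ∈ (P : Subgroup X) → x ∈ H → x = 1 := fun x h1 h2 =>
    Subgroup.disjoint_def.1 hPH.disjoint h1 h2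
  have hHab : ∀ a ∈ H, ∀ b ∈ H, a * b = b * a := by
    intro a ha b hb
    have h1 : ⁅a, b⁆ ∈ (P : Subgroup X) :=
      hKP (Subgroup.commutator_mem_commutator (Subgroup.mem_top _) (Subgroup.mem_top _))
    have h2 : ⁅a, b⁆ ∈ H := by
      rw [commutatorElement_def]
      exact H.mul_mem (H.mul_mem (H.mul_mem ha hb) (H.inv_mem ha)) (H.inv_mem hb)
    exact commutatorElement_eq_one_iff_mul_comm.1 (hdisj _ h1 h2)
  have hcardmul : Nat.card (P : Subgroup X) * Nat.card H = Nat.card X := hPH.card_mul_card
  have hidxP : (P : Subgroup X).index = Nat.card H := hPH.symm.index_eq_card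
  have hcop : (Nat.card (P : Subgroup X)).Coprime (Nat.card H) := hidxP ▸ P.card_coprime_index
  obtain ⟨k, hk⟩ := IsPGroup.iff_card.1 P.isPGroup'
  have hk0 : k ≠ 0 := by
    rintro rfl
    rw [pow_zero] at hk
    exact hPne (Subgroup.card_eq_one.1 hk)
  have hcopr : (Nat.card H).Coprime r := by
    have hrd : r ∣ Nat.card (P : Subgroup X) := hk ▸ dvd_pow_self r hk0
    exact (Nat.Coprime.coprime_dvd_left hrd hcop).symm
  have hH1 : 1 < Nat.card H := by
    by_contra hle
    have hpos := Nat.card_pos (α := H)
    have h1 : Nat.card H = 1 := by omega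
    rw [h1, mul_one] at hcardmul
    exact hnp r hr (IsPGroup.iff_card.2 ⟨k, hcardmul.symm.trans hk⟩)
  -- coprime decomposition `P = C_P(H) K`
  have hHN : H ≤ Subgroup.normalizer ((P : Subgroup X) : Set X) := by
    rw [Subgroup.normalizer_eq_top]; exact le_top
  have hsolvX : IsSolvable X := hsolv
  have hdec := Cfsg.Agent.Lib.Helper32.le_centralizer_sup_commutator hHN hcop
    (Or.inl inferInstance)
  have hPHK : ⁅(P : Subgroup X), H⁆ ≤ commutator X := Subgroup.commutator_mono le_top le_top
  have hPle : (P : Subgroup X) ≤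
      ((P : Subgroup X) ⊓ Subgroup.centralizer (H : Set X)) ⊔ commutator X :=
    hdec.trans (sup_le_sup_left hPHK _)
  have hsupPH : (P : Subgroup X) ⊔ H = ⊤ := hPH.sup_eq_top
  -- `C_P(H) ∩ K = 1`
  have hCPK : ∀ z, z ∈ (P : Subgroup X) ⊓ Subgroup.centralizer (H : Set X) →
      z ∈ commutator X → z = 1 := by
    intro z hz hzK
    have hzc : z ∈ Subgroup.center X := by
      have hPc : (P : Subgroup X) ≤ Subgroup.centralizer ({z} : Set X) := fun p hp => by
        rw [Subgroup.mem_centralizer_iff]
        intro y hy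
        rw [Set.mem_singleton_iff] at hy
        subst hy
        exact (Subgroup.mem_centralizer_iff.1 (hKCP hzK) p hp).symm
      have hHc : H ≤ Subgroup.centralizer ({z} : Set X) := fun h hh => by
        rw [Subgroup.mem_centralizer_iff]
        intro y hy
        rw [Set.mem_singleton_iff] at hy
        subst hy
        exact (Subgroup.mem_centralizer_iff.1 (Subgroup.mem_inf.1 hz).2 h hh).symm
      have htop : (⊤ : Subgroup X) ≤ Subgroup.centralizer ({z} : Set X) :=
        hsupPH ▸ sup_le hPc hHc
      rw [Subgroup.mem_center_iff]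
      intro g
      exact (Subgroup.mem_centralizer_iff.1 (htop (Subgroup.mem_top g)) z rfl).symm
    rw [hZ, Subgroup.mem_bot] at hzc
    exact hzc
  -- `C_P(H)` is normal
  have hCPn : ((P : Subgroup X) ⊓ Subgroup.centralizer (H : Set X)).Normal := by
    have hnorm : (⊤ : Subgroup X) ≤ Subgroup.normalizer
        (((P : Subgroup X) ⊓ Subgroup.centralizer (H : Set X) : Subgroup X) : Set X) := by
      rw [← hsupPH]
      refine sup_le (hPle.trans (sup_le Subgroup.le_normalizer ?_)) ?_
      · refine (hKCP.trans (Subgroup.centralizer_le ?_)).trans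
          (Subgroup.centralizer_le_normalizer _)
        intro x hx
        exact (Subgroup.mem_inf.1 hx).1
      · exact (Subgroup.le_centralizer_iff.1 inf_le_right).trans
          (Subgroup.centralizer_le_normalizer _)
    exact Subgroup.normalizer_eq_top_iff.1 (top_le_iff.1 hnorm)
  have hCPbot : (P : Subgroup X) ⊓ Subgroup.centralizer (H : Set X) = ⊥ := by
    by_contra hne
    have hle := hmin _ hCPn hne
    apply hK
    rw [eq_bot_iff]
    intro z hz
    rw [Subgroup.mem_bot]
    exact hCPK z (hle hz) hz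
  have hPK : (P : Subgroup X) ≤ commutator X := by
    have h := hPle
    rw [hCPbot, bot_sup_eq] at h
    exact h
  have hPeq : (P : Subgroup X) = commutator X := le_antisymm hPK hKP
  have hinf : commutator X ⊓ H = ⊥ := by
    rw [eq_bot_iff]
    intro x hx
    rw [Subgroup.mem_bot]
    exact hdisj x (hKP (Subgroup.mem_inf.1 hx).1) (Subgroup.mem_inf.1 hx).2
  have hsup : commutator X ⊔ H = ⊤ := by
    rw [← hPeq]; exact hsupPH
  -- fixed-point-freeness
  have hfpf : ∀ q ∈ H, q ≠ 1 → ∀ v ∈ commutator X, q * v = v * q → v = 1 := by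
    intro q hq hq1 v hv hqv
    have hCn : (commutator X ⊓ Subgroup.centralizer ({q} : Set X)).Normal := by
      have key : ∀ (h : X), h ∈ H →
          ∀ x ∈ commutator X ⊓ Subgroup.centralizer ({q} : Set X),
            h * x * h⁻¹ ∈ commutator X ⊓ Subgroup.centralizer ({q} : Set X) := by
        intro h hh x hx
        obtain ⟨hxK, hxq⟩ := Subgroup.mem_inf.1 hx
        refine Subgroup.mem_inf.2
          ⟨(inferInstance : (commutator X).Normal).conj_mem x hxK h, ?_⟩
        rw [Subgroup.mem_centralizer_iff]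
        intro y hy
        rw [Set.mem_singleton_iff] at hy
        subst hy
        have c1 : Commute y h := hHab y hq h hh
        have c2 : Commute y x := Subgroup.mem_centralizer_iff.1 hxq y rfl
        exact ((c1.mul_right c2).mul_right c1.inv_right).eq
      have hnorm : (⊤ : Subgroup X) ≤ Subgroup.normalizer
          ((commutator X ⊓ Subgroup.centralizer ({q} : Set X) : Subgroup X) : Set X) := by
        rw [← hsup]
        refine sup_le ?_ ?_
        · have hKcK : commutator X ≤
              Subgroup.centralizer ((commutator X : Subgroup X) : Set X) := by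
            intro a ha
            rw [Subgroup.mem_centralizer_iff]
            intro b hb
            exact hab b hb a ha
          refine (hKcK.trans (Subgroup.centralizer_le ?_)).trans
            (Subgroup.centralizer_le_normalizer _)
          intro x hx
          exact (Subgroup.mem_inf.1 hx).1
        · intro h hh
          rw [Subgroup.mem_normalizer_iff]
          intro x
          constructor
          · exact key h hh x
          · intro hx
            have := key h⁻¹ (H.inv_mem hh) _ hx
            simpa [mul_assoc] using this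
      exact Subgroup.normalizer_eq_top_iff.1 (top_le_iff.1 hnorm)
    by_contra hv1
    have hCne : commutator X ⊓ Subgroup.centralizer ({q} : Set X) ≠ ⊥ := by
      intro h
      have hvC : v ∈ commutator X ⊓ Subgroup.centralizer ({q} : Set X) := by
        refine Subgroup.mem_inf.2 ⟨hv, ?_⟩
        rw [Subgroup.mem_centralizer_iff]
        intro y hy
        rw [Set.mem_singleton_iff] at hy
        subst hy
        exact hqv
      rw [h, Subgroup.mem_bot] at hvC
      exact hv1 hvC
    have hle := hmin _ hCn hCne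
    have hqc : q ∈ Subgroup.center X := by
      have hKc : commutator X ≤ Subgroup.centralizer ({q} : Set X) := hle.trans inf_le_right
      have hHc : H ≤ Subgroup.centralizer ({q} : Set X) := fun h hh => by
        rw [Subgroup.mem_centralizer_iff]
        intro y hy
        rw [Set.mem_singleton_iff] at hy
        subst hy
        exact hHab y hq h hh
      have htop : (⊤ : Subgroup X) ≤ Subgroup.centralizer ({q} : Set X) :=
        hsup ▸ sup_le hKc hHc
      rw [Subgroup.mem_center_iff]
      intro g
      exact (Subgroup.mem_centralizer_iff.1 (htop (Subgroup.mem_top g)) q rfl).symm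
    rw [hZ, Subgroup.mem_bot] at hqc
    exact hq1 hqc
  have hout : ∀ g : X, g ∉ commutator X → ∀ v ∈ commutator X, g * v = v * g → v = 1 := by
    intro g hg v hv hgv
    have hgmem : g ∈ ((commutator X ⊔ H : Subgroup X) : Set X) := by
      rw [hsup]; exact Set.mem_univ g
    rw [Subgroup.normal_mul] at hgmem
    obtain ⟨k', hk', h, hh, rfl⟩ := Set.mem_mul.1 hgmem
    have hh1 : h ≠ 1 := by
      rintro rfl
      exact hg (by simpa using hk')
    refine hfpf h hh hh1 v hv ?_
    have e : v * k' = k' * v := hab v hv k' hk'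
    have e2 : k' * (h * v) = k' * (v * h) := by
      calc k' * (h * v) = k' * h * v := (mul_assoc _ _ _).symm
        _ = v * (k' * h) := hgv
        _ = v * k' * h := (mul_assoc _ _ _).symm
        _ = k' * v * h := by rw [e]
        _ = k' * (v * h) := mul_assoc _ _ _
    exact mul_left_cancel e2
  have hidxK : (commutator X).index = Nat.card H := by
    rw [← hPeq]; exact hidxP
  have hcardK : Nat.card (commutator X) = r ^ k := by
    rw [← hPeq]; exact hk
  exact ⟨r, H, hr, hKp, hab, hHab, hinf, hsup, hcopr, hfpf, hout, hidxK, hH1, k,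
    Nat.pos_of_ne_zero hk0, hcardK⟩

end

end Cfsg.Agent.Lib.Helper95.CD3
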