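import Cfsg.Agent.Lib.Helper10.M12c
import Cfsg.Agent.Lib.Helper35.GolayMask
import Mathlib

set_option autoImplicit false

/-! # Transport of subgroups of the group of the code along conjugation -/

namespace Cfsg.Agent.Lib.Helper95

open Cfsg MulAction
open scoped Pointwise
open Cfsg.Agent.Lib.Helper10 Cfsg.Agent.Lib.Helper35

/-- conjugation by `g` as an isomorphism from a subgroup of permutations onto a subgroup of the
group of the code. -/
noncomputable def conjIso (g : Equiv.Perm GolayPt) (hg : g ∈ M24)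
    (A : Subgroup (Equiv.Perm GolayPt)) (B : Subgroup ↥M24)
    (hAB : ∀ σ (hσ : σ ∈ M24), (⟨σ, hσ⟩ : ↥M24) ∈ B ↔ g⁻¹ * σ * g ∈ A) (hA : A ≤ M24) :
    ↥A ≃* ↥B where
  toFun a := ⟨⟨g * a.1 * g⁻¹, M24.mul_mem (M24.mul_mem hg (hA a.2)) (M24.inv_mem hg)⟩, by
    rw [hAB]
    have : g⁻¹ * (g * a.1 * g⁻¹) * g = a.1 := by group
    rw [this]; exact a.2⟩
  invFun b := ⟨g⁻¹ * b.1.1 * g, (hAB b.1.1 b.1.2).mp b.2⟩
  left_inv a := by
    apply Subtype.ext
    show g⁻¹ * (g * a.1 * g⁻¹) * g = a.1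
    group
  right_inv b := by
    apply Subtype.ext
    apply Subtype.ext
    show g * (g⁻¹ * b.1.1 * g) * g⁻¹ = b.1.1
    group
  map_mul' a b := by
    apply Subtype.ext
    apply Subtype.ext
    show g * (a.1 * b.1) * g⁻¹ = (g * a.1 * g⁻¹) * (g * b.1 * g⁻¹)
    group

theorem conj_smul_iff {X : Type*} [MulAction (Equiv.Perm GolayPt) X] (g σ : Equiv.Perm GolayPt)
    (x : X) : (g⁻¹ * σ * g) • x = x ↔ σ • (g • x) = g • x := by
  rw [mul_smul, mul_smul, inv_smul_eq_iff]

theorem gmask_fs {m : ℕ} (hm : m < 2 ^ 24) : gmask (fs m) = m := by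
  apply Nat.eq_of_testBit_eq
  intro i
  by_cases hi : i < 24
  · have h := testBit_maskOf_idx idx_injective (fs m) (pt i)
    rw [idx_pt hi] at h
    show (maskOf idx (fs m)).testBit i = m.testBit i
    rw [h]
    by_cases hb : m.testBit i = true
    · rw [hb]
      simp only [decide_eq_true_eq, mem_fs, idx_pt hi, hb]
    · have hb' : m.testBit i = false := by simpa using hb
      rw [hb']
      simp only [decide_eq_false_iff_not, mem_fs, idx_pt hi, hb']
      simp
  · have h1 : m.testBit i = false := by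
      apply Nat.testBit_lt_two_pow
      calc m < 2 ^ 24 := hm
        _ ≤ 2 ^ i := Nat.pow_le_pow_right (by omega) (by omega)
    rw [h1]
    apply testBit_maskOf_of_not_range
    rintro ⟨a, ha⟩
    exact hi (ha ▸ idx_lt a)

/-- the stabiliser of `d0` is transitive on `d0`. -/
theorem exists_K12_pt0 {c : GolayPt} (hc : c ∈ fs d0) : ∃ u ∈ K12, u (pt 0) = c := by
  obtain ⟨u, hu, -, h⟩ := level12 0 (by omega) c hc (by intro i hi; omega)
  exact ⟨u, hu, h⟩

/-- moving the base dodecad and its base point to a given dodecad and point. -/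
theorem exists_base_dp {d : Finset GolayPt} (hd : d ∈ dodecads) {p : GolayPt} (hp : p ∈ d) :
    ∃ g ∈ M24, g • fs d0 = d ∧ g (pt 0) = p := by
  obtain ⟨h, hh, rfl⟩ := exists_smul_d0_eq hd
  have hhM : h ∈ M24 := H_le_M24 hh
  have hp' : h⁻¹ p ∈ fs d0 := by
    have := Finset.inv_smul_mem_iff.mpr hp
    exact this
  obtain ⟨u, hu, e⟩ := exists_K12_pt0 hp'
  refine ⟨h * u, M24.mul_mem hhM ((mem_K12 u).mp hu).1, ?_, ?_⟩
  · rw [mul_smul, ((mem_K12 u).mp hu).2]
  · show h (u (pt 0)) = p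
    rw [e]; simp

end Cfsg.Agent.Lib.Helper95
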