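import Cfsg.Agent.Lib.Helper35.GolayMask
import Cfsg.Agent.Lib.Helper10.Count
import Cfsg.Agent.Lib.Helper95.SextetBasic
import Cfsg.Agent.S1557

set_option autoImplicit false

/-! Counting the octads, dodecads, sextets and trios mapped to themselves by a permutation given
by an index table, by enumeration of bit masks. -/

namespace Cfsg.Agent.Lib.Helper95

open Cfsg MulAction
open scoped Pointwise
open Cfsg.Agent.Lib.Helper10 Cfsg.Agent.Lib.Helper35

/-! ### conjugation invariance -/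

theorem ncard_fixed_conj {X : Type*} [MulAction (Equiv.Perm GolayPt) X] (F : Set X)
    (hF : ∀ k ∈ M24, ∀ x ∈ F, k • x ∈ F) {g k : Equiv.Perm GolayPt} (hk : k ∈ M24) :
    {x | x ∈ F ∧ g • x = x}.ncard = {x | x ∈ F ∧ (k * g * k⁻¹) • x = x}.ncard := by
  apply Set.ncard_congr (fun x _ => k • x)
  · rintro x ⟨hx, hgx⟩
    refine ⟨hF k hk x hx, ?_⟩
    rw [mul_smul, mul_smul, inv_smul_smul, hgx]
  · intro a b _ _ h
    exact smul_left_cancel k h
  · rintro y ⟨hy, hgy⟩
    refine ⟨k⁻¹ • y, ⟨hF k⁻¹ (M24.inv_mem hk) y hy, ?_⟩, smul_inv_smul k y⟩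
    have : g • k⁻¹ • y = k⁻¹ • ((k * g * k⁻¹) • y) := by
      rw [mul_smul, mul_smul, inv_smul_smul]
    rw [this, hgy]

/-! ### transfer to masks -/

theorem gmask_ofMask {m : ℕ} (hm : m < 2 ^ 24) : gmask (ofMask idx m) = m :=
  maskOf_ofMask (n := 24) (fun i hi => ⟨pt i, idx_pt hi⟩) hm

theorem ofMask_gmask (s : Finset GolayPt) : ofMask idx (gmask s) = s :=
  ofMask_maskOf idx_injective s

/-- counting a family of subsets through a list of masks. -/
theorem ncard_of_gmask (A : Set (Finset GolayPt)) (l : List ℕ) (hl : l.Nodup)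
    (hlt : ∀ m ∈ l, m < 2 ^ 24) (P : ℕ → Bool)
    (hA : ∀ s, s ∈ A ↔ gmask s ∈ l ∧ P (gmask s) = true) :
    A.ncard = (l.filter P).length := by
  classical
  have h1 : A.ncard = (gmask '' A).ncard :=
    (Set.ncard_image_of_injective A gmask_injective).symm
  have h2 : gmask '' A = ↑((l.filter P).toFinset) := by
    ext m
    rw [Finset.mem_coe, List.mem_toFinset, List.mem_filter, Set.mem_image]
    constructor
    · rintro ⟨s, hs, rfl⟩
      exact (hA s).mp hs
    · rintro ⟨hm, hP⟩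
      refine ⟨ofMask idx m, ?_, gmask_ofMask (hlt m hm)⟩
      rw [hA, gmask_ofMask (hlt m hm)]
      exact ⟨hm, hP⟩
  rw [h1, h2, Set.ncard_coe_finset, List.toFinset_card_of_nodup (hl.filter _)]

/-- the masks of the code words of weight `w`. -/
def codeL (w : ℕ) : List ℕ := ((List.range 4096).map enc).filter (fun m => popc 24 m == w)

theorem enc_enc (k : ℕ) (hk : k < 4096) : enc (enc k) = enc k := by
  rw [← enc_mod (enc k), enc_mod_self hk]

theorem nodup_encL : ((List.range 4096).map enc).Nodup := by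
  rw [List.nodup_map_iff_inj_on List.nodup_range]
  intro k hk k' hk' h
  exact enc_inj (List.mem_range.mp hk) (List.mem_range.mp hk') h

theorem nodup_codeL (w : ℕ) : (codeL w).Nodup := nodup_encL.filter _

theorem mem_codeL (w m : ℕ) : m ∈ codeL w ↔ m < 2 ^ 24 ∧ enc m = m ∧ popc 24 m = w := by
  unfold codeL
  rw [List.mem_filter, List.mem_map]
  simp only [List.mem_range, beq_iff_eq]
  constructor
  · rintro ⟨⟨k, hk, rfl⟩, hw⟩
    exact ⟨enc_lt k, enc_enc k hk, hw⟩
  · rintro ⟨_, he, hw⟩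
    refine ⟨⟨m % 4096, Nat.mod_lt _ (by decide), ?_⟩, hw⟩
    rw [enc_mod, he]

theorem codeL_lt (w : ℕ) : ∀ m ∈ codeL w, m < 2 ^ 24 := fun m hm => ((mem_codeL w m).mp hm).1

theorem mem_wordsOfWeight_gmask (w : ℕ) (s : Finset GolayPt) :
    s ∈ wordsOfWeight (golayCode : Set (GolayPt → ZMod 2)) w ↔ gmask s ∈ codeL w := by
  rw [mem_codeL]
  unfold wordsOfWeight
  rw [Set.mem_ofPred_eq, mem_supports_iff, card_eq_popc_gmask]
  constructor
  · rintro ⟨h1, h2⟩
    exact ⟨gmask_lt s, h1, h2⟩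
  · rintro ⟨_, h1, h2⟩
    exact ⟨h1, h2⟩

/-- code-word supports of weight `w` mapped to themselves by `σ`. -/
theorem ncard_fixed_words (σ : Equiv.Perm GolayPt) (t : List ℕ)
    (h : ∀ p, idx (σ p) = t.getD (idx p) 0) (w : ℕ) :
    {s : Finset GolayPt | s ∈ wordsOfWeight (golayCode : Set (GolayPt → ZMod 2)) w ∧ σ • s = s}.ncard =
      ((codeL w).filter (fun m => applyTbl t m == m)).length := by
  apply ncard_of_gmask _ _ (nodup_codeL w) (codeL_lt w)
  intro s
  rw [Set.mem_ofPred_eq, mem_wordsOfWeight_gmask, beq_iff_eq, ← gmask_smul σ t h s]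
  constructor
  · rintro ⟨h1, h2⟩
    exact ⟨h1, by rw [h2]⟩
  · rintro ⟨h1, h2⟩
    exact ⟨h1, gmask_injective h2⟩

end Cfsg.Agent.Lib.Helper95
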