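import Cfsg.Agent.Lib.Helper95.FixedOctLit
import Cfsg.Agent.Lib.Helper92.M24Ord3

set_option autoImplicit false

/-! The four classes of elements of order 2 and 3 of the group of the code, with index tables of
their representatives, and the reduction of fixed-structure counts to the representatives. -/

namespace Cfsg.Agent.Lib.Helper95

open Cfsg MulAction
open scoped Pointwise
open Cfsg.Agent.Lib.Helper10 Cfsg.Agent.Lib.Helper35 Cfsg.Agent.Lib.Helper92

def t1T : List ℕ :=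
  [19, 0, 6, 3, 4, 15, 7, 2, 12, 10, 17, 11, 13, 8, 5, 14, 18, 9, 22, 1, 20, 21, 16, 23]
def t2T : List ℕ :=
  [23, 0, 12, 16, 18, 10, 20, 14, 21, 6, 17, 3, 22, 8, 19, 4, 11, 5, 15, 7, 9, 13, 2, 1]
def z1T : List ℕ :=
  [0, 1, 2, 4, 3, 16, 6, 7, 9, 8, 12, 20, 10, 17, 22, 18, 5, 13, 15, 19, 11, 21, 14, 23]
def z2T : List ℕ :=
  [23, 22, 11, 15, 17, 9, 19, 13, 20, 5, 16, 2, 21, 7, 18, 3, 10, 4, 14, 6, 8, 12, 1, 0]

theorem t1T_check : ∀ i : Fin 24, evalW t1w i = t1T.getD i 0 := by decide +kernel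
theorem t2T_check : ∀ i : Fin 24, evalW t2w i = t2T.getD i 0 := by decide +kernel
theorem z1T_check : ∀ i : Fin 24, evalW z1w i = z1T.getD i 0 := by decide +kernel
theorem z2T_check : ∀ i : Fin 24, evalW z2w i = z2T.getD i 0 := by decide +kernel

theorem table_of_check {w t : List ℕ} (h : ∀ i : Fin 24, evalW w i = t.getD i 0) :
    ∀ p, idx (wordPerm w p) = t.getD (idx p) 0 := by
  intro p
  rw [evalW_spec]
  exact h ⟨idx p, idx_lt p⟩

theorem t1T_spec : ∀ p, idx (wordPerm t1w p) = t1T.getD (idx p) 0 := table_of_check t1T_check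
theorem t2T_spec : ∀ p, idx (wordPerm t2w p) = t2T.getD (idx p) 0 := table_of_check t2T_check
theorem z1T_spec : ∀ p, idx (wordPerm z1w p) = z1T.getD (idx p) 0 := table_of_check z1T_check
theorem z2T_spec : ∀ p, idx (wordPerm z2w p) = z2T.getD (idx p) 0 := table_of_check z2T_check

theorem fixed_conj {g k σ : Equiv.Perm GolayPt} (h : k * g * k⁻¹ = σ) {p : GolayPt}
    (hp : g p = p) : σ (k p) = k p := by
  rw [← h]
  show k (g (k⁻¹ (k p))) = k p
  have : k⁻¹ (k p) = p := by simp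
  rw [this, hp]

theorem fixed_conj' {g k σ : Equiv.Perm GolayPt} (h : k * g * k⁻¹ = σ) {q : GolayPt}
    (hq : σ q = q) : g (k⁻¹ q) = k⁻¹ q := by
  have hg : g = k⁻¹ * σ * k := by rw [← h]; group
  rw [hg]
  show k⁻¹ (σ (k (k⁻¹ q))) = k⁻¹ q
  have : k (k⁻¹ q) = q := by simp
  rw [this, hq]

/-- an element of order 3 with a fixed point is conjugate to the first representative. -/
theorem conj_t1 (g : Equiv.Perm GolayPt) (hg : g ∈ M24) (h₃ : orderOf g = 3) {p : GolayPt}
    (hp : g p = p) : ∃ k ∈ M24, k * g * k⁻¹ = wordPerm t1w := by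
  obtain ⟨k, hk, h | h⟩ := ord3_conj g hg h₃
  · exact ⟨k, hk, h⟩
  · exact absurd (fixed_conj h hp) (t2_fixed _)

theorem exists_fixed_of_card_pos {σ : Equiv.Perm GolayPt}
    (h : 0 < (Finset.univ.filter fun p => σ p = p).card) : ∃ p, σ p = p := by
  obtain ⟨p, hp⟩ := Finset.card_pos.mp h
  exact ⟨p, (Finset.mem_filter.mp hp).2⟩

/-- a fixed-point-free element of order 3 is conjugate to the second representative. -/
theorem conj_t2 (g : Equiv.Perm GolayPt) (hg : g ∈ M24) (h₃ : orderOf g = 3)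
    (h₀ : ∀ p, g p ≠ p) : ∃ k ∈ M24, k * g * k⁻¹ = wordPerm t2w := by
  obtain ⟨k, hk, h | h⟩ := ord3_conj g hg h₃
  · obtain ⟨q, hq⟩ := exists_fixed_of_card_pos (σ := wordPerm t1w) (by rw [t1_fixed_card]; decide)
    exact absurd (fixed_conj' h hq) (h₀ _)
  · exact ⟨k, hk, h⟩

/-- an involution with a fixed point is conjugate to the first representative. -/
theorem conj_z1 (g : Equiv.Perm GolayPt) (hg : g ∈ M24) (h₂ : orderOf g = 2) {p : GolayPt}
    (hp : g p = p) : ∃ k ∈ M24, k * g * k⁻¹ = wordPerm z1w := by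
  obtain ⟨k, hk, h | h⟩ := invol_conj g hg h₂
  · exact ⟨k, hk, h⟩
  · exact absurd (fixed_conj h hp) (z2_fixed _)

/-- a fixed-point-free involution is conjugate to the second representative. -/
theorem conj_z2 (g : Equiv.Perm GolayPt) (hg : g ∈ M24) (h₂ : orderOf g = 2)
    (h₀ : ∀ p, g p ≠ p) : ∃ k ∈ M24, k * g * k⁻¹ = wordPerm z2w := by
  obtain ⟨k, hk, h | h⟩ := invol_conj g hg h₂
  · have hc : (Finset.univ.filter fun p => wordPerm z1w p = p).card = 8 := by
      rw [z1_fixed, card_fs]; exact z1fix_octad.2.2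
    obtain ⟨q, hq⟩ := exists_fixed_of_card_pos (σ := wordPerm z1w) (by rw [hc]; decide)
    exact absurd (fixed_conj' h hq) (h₀ _)
  · exact ⟨k, hk, h⟩

/-! ### conjugation invariance for the four families -/

theorem fixed_octads_conj {g k : Equiv.Perm GolayPt} (hk : k ∈ M24) :
    {o : Finset GolayPt | o ∈ Cfsg.octads ∧ g • o = o}.ncard =
      {o : Finset GolayPt | o ∈ Cfsg.octads ∧ (k * g * k⁻¹) • o = o}.ncard :=
  ncard_fixed_conj Cfsg.octads (fun _ hk' _ hx => Cfsg.Agent.Lib.Helper10.smul_mem_octads hk' hx) hk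

theorem fixed_dodecads_conj {g k : Equiv.Perm GolayPt} (hk : k ∈ M24) :
    {o : Finset GolayPt | o ∈ Cfsg.dodecads ∧ g • o = o}.ncard =
      {o : Finset GolayPt | o ∈ Cfsg.dodecads ∧ (k * g * k⁻¹) • o = o}.ncard :=
  ncard_fixed_conj Cfsg.dodecads
    (fun _ hk' _ hx => Cfsg.Agent.Lib.Helper10.smul_mem_dodecads hk' hx) hk

theorem fixed_sextets_conj {g k : Equiv.Perm GolayPt} (hk : k ∈ M24) :
    {S : Finset (Finset GolayPt) | S ∈ Cfsg.sextets ∧ g • S = S}.ncard =
      {S : Finset (Finset GolayPt) | S ∈ Cfsg.sextets ∧ (k * g * k⁻¹) • S = S}.ncard :=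
  ncard_fixed_conj Cfsg.sextets (fun _ hk' _ hx => smul_mem_sextets hk' hx) hk

theorem fixed_trios_conj {g k : Equiv.Perm GolayPt} (hk : k ∈ M24) :
    {T : Finset (Finset GolayPt) | T ∈ Cfsg.trios ∧ g • T = T}.ncard =
      {T : Finset (Finset GolayPt) | T ∈ Cfsg.trios ∧ (k * g * k⁻¹) • T = T}.ncard :=
  ncard_fixed_conj Cfsg.trios (fun _ hk' _ hx => smul_mem_trios hk' hx) hk

/-- a cheaper form of the trio condition for kernel evaluation. -/
def condQ (t : List ℕ) (m1 m2 : ℕ) : Bool :=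
  match Nat.land m1 m2 with
  | 0 => mem3 m1 m2 (applyTbl t m1) && mem3 m1 m2 (applyTbl t m2)
  | _ + 1 => false

theorem condQ_eq (t : List ℕ) (m1 m2 : ℕ) : condQ t m1 m2 = condP t m1 m2 := by
  unfold condQ condP
  have : m1 &&& m2 = Nat.land m1 m2 := rfl
  rw [this]
  cases Nat.land m1 m2 with
  | zero => simp
  | succ n => simp

theorem ncard_fixed_trios'' {σ : Equiv.Perm GolayPt} (hσ : σ ∈ M24) (t : List ℕ)
    (h : ∀ p, idx (σ p) = t.getD (idx p) 0) :
    6 * {T : Finset (Finset GolayPt) | T ∈ Cfsg.trios ∧ σ • T = T}.ncard =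
      (octLit.map (fun m1 => (octLit.filter (condQ t m1)).length)).sum := by
  rw [ncard_fixed_trios' hσ t h]
  congr 2
  funext m1
  congr 2
  funext m2
  exact (condQ_eq t m1 m2).symm

end Cfsg.Agent.Lib.Helper95
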