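import Cfsg.Agent.Lib.Helper95.FixedBridge

set_option autoImplicit false

/-! Counting the sextets mapped to themselves by a permutation of the group of the code. -/

namespace Cfsg.Agent.Lib.Helper95

open Cfsg MulAction
open scoped Pointwise
open Cfsg.Agent.Lib.Helper10 Cfsg.Agent.Lib.Helper35

/-- masks below `2 ^ n` with exactly `k` one bits. -/
def masksK : ℕ → ℕ → List ℕ
  | 0, 0 => [0]
  | 0, _ + 1 => []
  | n + 1, 0 => (masksK n 0).map (2 * ·)
  | n + 1, k + 1 => (masksK n (k + 1)).map (2 * ·) ++ (masksK n k).map (2 * · + 1)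

theorem popc_succ_two_mul (n m : ℕ) : popc (n + 1) (2 * m) = popc n m := by
  rw [popc, Nat.mul_mod_right, Nat.mul_div_cancel_left m (by decide : 0 < 2), zero_add]

theorem popc_succ_two_mul_add_one (n m : ℕ) : popc (n + 1) (2 * m + 1) = 1 + popc n m := by
  rw [popc]
  have h1 : (2 * m + 1) % 2 = 1 := by omega
  have h2 : (2 * m + 1) / 2 = m := by omega
  rw [h1, h2]

theorem mem_masksK (n : ℕ) : ∀ k m : ℕ, m ∈ masksK n k ↔ m < 2 ^ n ∧ popc n m = k := by
  induction n with
  | zero =>
    intro k m
    cases k with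
    | zero =>
      show m ∈ [0] ↔ m < 2 ^ 0 ∧ popc 0 m = 0
      rw [List.mem_singleton, pow_zero]
      constructor
      · rintro rfl
        exact ⟨by decide, rfl⟩
      · rintro ⟨h, _⟩
        omega
    | succ k =>
      show m ∈ [] ↔ m < 2 ^ 0 ∧ popc 0 m = k + 1
      constructor
      · intro h
        exact absurd h List.not_mem_nil
      · rintro ⟨_, h⟩
        have : popc 0 m = 0 := rfl
        omega
  | succ n ih =>
    intro k m
    have hdiv : m < 2 ^ (n + 1) ↔ m / 2 < 2 ^ n := by
      rw [pow_succ]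
      omega
    have hpop : popc (n + 1) m = m % 2 + popc n (m / 2) := rfl
    cases k with
    | zero =>
      simp only [masksK, List.mem_map]
      constructor
      · rintro ⟨m', hm', rfl⟩
        rw [ih] at hm'
        refine ⟨by rw [pow_succ]; omega, ?_⟩
        rw [popc_succ_two_mul]; exact hm'.2
      · rintro ⟨h1, h2⟩
        rw [hpop] at h2
        refine ⟨m / 2, (ih 0 (m / 2)).mpr ⟨hdiv.mp h1, by omega⟩, by omega⟩
    | succ k =>
      simp only [masksK, List.mem_append, List.mem_map]
      constructor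
      · rintro (⟨m', hm', rfl⟩ | ⟨m', hm', rfl⟩)
        · rw [ih] at hm'
          refine ⟨by rw [pow_succ]; omega, ?_⟩
          rw [popc_succ_two_mul]; exact hm'.2
        · rw [ih] at hm'
          refine ⟨by rw [pow_succ]; omega, ?_⟩
          rw [popc_succ_two_mul_add_one]; omega
      · rintro ⟨h1, h2⟩
        rw [hpop] at h2
        rcases Nat.mod_two_eq_zero_or_one m with h0 | h0
        · left
          exact ⟨m / 2, (ih (k + 1) (m / 2)).mpr ⟨hdiv.mp h1, by omega⟩, by omega⟩
        · right
          exact ⟨m / 2, (ih k (m / 2)).mpr ⟨hdiv.mp h1, by omega⟩, by omega⟩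

theorem nodup_masksK (n : ℕ) : ∀ k : ℕ, (masksK n k).Nodup := by
  induction n with
  | zero =>
    intro k
    cases k with
    | zero => simp [masksK]
    | succ k => simp [masksK]
  | succ n ih =>
    intro k
    have inj0 : Function.Injective (fun x : ℕ => 2 * x) := fun a b h => by
      simp only at h; omega
    have inj1 : Function.Injective (fun x : ℕ => 2 * x + 1) := fun a b h => by
      simp only at h; omega
    cases k with
    | zero =>
      simp only [masksK]
      exact (ih 0).map inj0
    | succ k =>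
      simp only [masksK]
      rw [List.nodup_append]
      refine ⟨(ih (k + 1)).map inj0, (ih k).map inj1, ?_⟩
      intro a ha b hb
      rw [List.mem_map] at ha hb
      obtain ⟨a', -, rfl⟩ := ha
      obtain ⟨b', -, rfl⟩ := hb
      omega

/-- masks of the 4-sets containing the point of index 0. -/
def tet0L : List ℕ := (masksK 23 3).map (2 * · + 1)

theorem nodup_tet0L : tet0L.Nodup := by
  unfold tet0L
  apply (nodup_masksK 23 3).map
  intro a b h
  simp only at h
  omega

theorem mem_tet0L (m : ℕ) : m ∈ tet0L ↔ m < 2 ^ 24 ∧ popc 24 m = 4 ∧ m % 2 = 1 := by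
  unfold tet0L
  rw [List.mem_map]
  constructor
  · rintro ⟨m', hm', rfl⟩
    rw [mem_masksK] at hm'
    refine ⟨by have := hm'.1; omega, ?_, by omega⟩
    rw [popc_succ_two_mul_add_one, hm'.2]
  · rintro ⟨h1, h2, h3⟩
    refine ⟨m / 2, (mem_masksK 23 3 (m / 2)).mpr ⟨by omega, ?_⟩, by omega⟩
    have : popc 24 m = m % 2 + popc 23 (m / 2) := rfl
    omega

theorem tet0L_lt : ∀ m ∈ tet0L, m < 2 ^ 24 := fun m hm => ((mem_tet0L m).mp hm).1

theorem gmask_mem_tet0L (t : Finset GolayPt) : gmask t ∈ tet0L ↔ t.card = 4 ∧ pt 0 ∈ t := by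
  rw [mem_tet0L, ← card_eq_popc_gmask]
  have h0 : (gmask t).testBit 0 = decide (pt 0 ∈ t) := by
    have := testBit_maskOf_idx idx_injective t (pt 0)
    rw [idx_pt (by decide : 0 < 24)] at this
    exact this
  rw [Nat.testBit_zero] at h0
  constructor
  · rintro ⟨_, h1, h2⟩
    refine ⟨h1, ?_⟩
    rw [h2] at h0
    simpa using h0.symm
  · rintro ⟨h1, h2⟩
    refine ⟨gmask_lt t, h1, ?_⟩
    have : decide (pt 0 ∈ t) = true := by simpa using h2
    rw [this] at h0
    simpa using h0

/-- the complement in an octad of a tetrad of a sextet is a tetrad of that sextet. -/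
theorem octad_sdiff_mem_sextet {S : Finset (Finset GolayPt)} (hS : S ∈ Cfsg.sextets)
    {τ : Finset GolayPt} (hτ : τ ∈ S) {o : Finset GolayPt} (ho : o ∈ Cfsg.octads) (hsub : τ ⊆ o) :
    o \ τ ∈ S := by
  have hc : (o \ τ).card = 4 := by
    rw [Finset.card_sdiff_of_subset hsub, ho.2, hS.2.1 τ hτ]
  obtain ⟨p, hp⟩ := Finset.card_pos.mp (by rw [hc]; decide : 0 < (o \ τ).card)
  rw [Finset.mem_sdiff] at hp
  obtain ⟨u, hu, hpu⟩ := sextet_cover hS p
  have hne : τ ≠ u := by
    rintro rfl
    exact hp.2 hpu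
  have hoct : τ ∪ u ∈ Cfsg.octads := hS.2.2 τ hτ u hu hne
  have heq : τ ∪ u = o := by
    apply octads_inter_le hoct ho
    have hsub5 : insert p τ ⊆ (τ ∪ u) ∩ o := by
      intro x hx
      rw [Finset.mem_insert] at hx
      rw [Finset.mem_inter, Finset.mem_union]
      rcases hx with rfl | hx
      · exact ⟨Or.inr hpu, hp.1⟩
      · exact ⟨Or.inl hx, hsub hx⟩
    have := Finset.card_le_card hsub5
    rw [Finset.card_insert_of_notMem hp.2, hS.2.1 τ hτ] at this
    exact this
  have hd := sextet_disjoint hS hτ hu hne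
  have : o \ τ = u := by
    rw [← heq]
    exact Finset.union_sdiff_cancel_left hd
  rw [this]
  exact hu

theorem enc_zero : enc 0 = 0 := by decide

/-- criterion for a sextet to be mapped to itself, in terms of one of its tetrads. -/
theorem sextet_fixed_iff {σ : Equiv.Perm GolayPt} (hσ : σ ∈ M24) {S : Finset (Finset GolayPt)}
    (hS : S ∈ Cfsg.sextets) {τ : Finset GolayPt} (hτ : τ ∈ S) :
    σ • S = S ↔ enc (gmask τ ^^^ gmask (σ • τ)) = gmask τ ^^^ gmask (σ • τ) := by
  have hτ4 : τ.card = 4 := hS.2.1 τ hτ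
  have hστ4 : (σ • τ).card = 4 := by rw [Finset.card_smul_finset, hτ4]
  constructor
  · intro hfix
    have hmem : σ • τ ∈ S := by
      rw [← hfix]
      exact Finset.smul_mem_smul_finset hτ
    by_cases heq : σ • τ = τ
    · rw [heq, Nat.xor_self]
      exact enc_zero
    · have hd := sextet_disjoint hS hτ hmem (Ne.symm heq)
      have hoct := hS.2.2 τ hτ (σ • τ) hmem (Ne.symm heq)
      rw [← maskOf_symmDiff idx_injective, Disjoint.symmDiff_eq_sup hd]
      exact ((Cfsg.Agent.Lib.Helper35.mem_octads_iff _).mp hoct).1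
  · intro hc
    rw [← maskOf_symmDiff idx_injective] at hc
    have hsupp : symmDiff τ (σ • τ) ∈ supports (golayCode : Set (GolayPt → ZMod 2)) :=
      (mem_supports_iff _).mpr hc
    obtain ⟨w, hw, hws⟩ := hsupp
    have hle : (symmDiff τ (σ • τ)).card ≤ (τ ∪ σ • τ).card := by
      apply Finset.card_le_card
      intro x hx
      rw [Finset.mem_symmDiff] at hx
      rw [Finset.mem_union]
      rcases hx with h | h
      · exact Or.inl h.1
      · exact Or.inr h.1
    have hun : (τ ∪ σ • τ).card ≤ 8 := by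
      have := Finset.card_union_le τ (σ • τ)
      omega
    by_cases hlt : (support₂ w).card < 8
    · have hw0 := eq_zero_of_card_lt w hw hlt
      have hempty : symmDiff τ (σ • τ) = ∅ := by
        rw [← hws, hw0]
        ext p
        simp [mem_support₂]
      have heq : τ = σ • τ := by
        have := hempty
        rw [Finset.symmDiff_eq_empty] at this
        exact this
      exact smul_sextet_eq hσ hS hS hτ (by rw [← heq]; exact hτ)
    · rw [hws] at hlt
      have h8 : (τ ∪ σ • τ).card = 8 := by omega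
      have hd : Disjoint τ (σ • τ) := by
        rw [Finset.disjoint_iff_inter_eq_empty, ← Finset.card_eq_zero]
        have := Finset.card_union_add_card_inter τ (σ • τ)
        omega
      have hoct : τ ∪ σ • τ ∈ Cfsg.octads := by
        rw [Cfsg.Agent.Lib.Helper35.mem_octads_iff, ← card_eq_popc_gmask]
        refine ⟨?_, h8⟩
        have e : symmDiff τ (σ • τ) = τ ∪ σ • τ := Disjoint.symmDiff_eq_sup hd
        rw [← e]
        exact hc
      have hmem := octad_sdiff_mem_sextet hS hτ hoct Finset.subset_union_left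
      rw [Finset.union_sdiff_cancel_left hd] at hmem
      exact smul_sextet_eq hσ hS hS hτ hmem

/-- the number of sextets mapped to themselves by `σ`. -/
theorem ncard_fixed_sextets {σ : Equiv.Perm GolayPt} (hσ : σ ∈ M24) (t : List ℕ)
    (h : ∀ p, idx (σ p) = t.getD (idx p) 0) :
    {S : Finset (Finset GolayPt) | S ∈ Cfsg.sextets ∧ σ • S = S}.ncard =
      (tet0L.filter (fun m => enc (m ^^^ applyTbl t m) == (m ^^^ applyTbl t m))).length := by
  have hB : {S : Finset (Finset GolayPt) | S ∈ Cfsg.sextets ∧ σ • S = S}.ncard =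
      {τ : Finset GolayPt | gmask τ ∈ tet0L ∧
        (fun m => enc (m ^^^ applyTbl t m) == (m ^^^ applyTbl t m)) (gmask τ) = true}.ncard := by
    apply Set.ncard_congr (fun S hS => Classical.choose (sextet_cover hS.1 (pt 0)))
    · rintro S ⟨hS, hfix⟩
      obtain ⟨hτS, h0⟩ := Classical.choose_spec (sextet_cover hS (pt 0))
      set τ := Classical.choose (sextet_cover hS (pt 0))
      refine ⟨(gmask_mem_tet0L τ).mpr ⟨hS.2.1 τ hτS, h0⟩, ?_⟩
      simp only [beq_iff_eq]
      rw [← gmask_smul σ t h τ]
      exact (sextet_fixed_iff hσ hS hτS).mp hfix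
    · rintro S S' ⟨hS, _⟩ ⟨hS', _⟩ heq
      obtain ⟨hτS, _⟩ := Classical.choose_spec (sextet_cover hS (pt 0))
      obtain ⟨hτS', _⟩ := Classical.choose_spec (sextet_cover hS' (pt 0))
      have heq' : Classical.choose (sextet_cover hS (pt 0)) =
          Classical.choose (sextet_cover hS' (pt 0)) := heq
      rw [heq'] at hτS
      exact sextet_eq_of_mem hS hS' hτS hτS'
    · rintro τ ⟨hτ, hc⟩
      rw [gmask_mem_tet0L] at hτ
      obtain ⟨S, ⟨hS, hτS⟩, -⟩ := sextet_existsUnique τ hτ.1
      simp only [beq_iff_eq] at hc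
      rw [← gmask_smul σ t h τ] at hc
      refine ⟨S, ⟨hS, (sextet_fixed_iff hσ hS hτS).mpr hc⟩, ?_⟩
      obtain ⟨hτS', h0'⟩ := Classical.choose_spec (sextet_cover hS (pt 0))
      exact sextet_tetrad_unique hS hτS' hτS h0' hτ.2
  rw [hB]
  apply ncard_of_gmask _ _ nodup_tet0L tet0L_lt
  intro s
  rfl

end Cfsg.Agent.Lib.Helper95
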