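import Cfsg.Agent.Lib.Helper95.FixedBridge

set_option autoImplicit false

/-! Counting the trios mapped to themselves by a permutation of the group of the code. -/

namespace Cfsg.Agent.Lib.Helper95

open Cfsg MulAction
open scoped Pointwise
open Cfsg.Agent.Lib.Helper10 Cfsg.Agent.Lib.Helper35 Cfsg.Agent.S1557

theorem smul_mem_trios {σ : Equiv.Perm GolayPt} (hσ : σ ∈ M24) {T : Finset (Finset GolayPt)}
    (hT : T ∈ Cfsg.trios) : σ • T ∈ Cfsg.trios := by
  refine ⟨?_, ?_, ?_⟩
  · rw [Finset.card_smul_finset]; exact hT.1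
  · intro o ho
    obtain ⟨o0, ho0, rfl⟩ := Finset.mem_smul_finset.mp ho
    exact Cfsg.Agent.Lib.Helper10.smul_mem_octads hσ (hT.2.1 o0 ho0)
  · intro o ho o' ho' hne
    obtain ⟨o0, ho0, rfl⟩ := Finset.mem_smul_finset.mp ho
    obtain ⟨o1, ho1, rfl⟩ := Finset.mem_smul_finset.mp ho'
    have hne0 : o0 ≠ o1 := fun h => hne (by rw [h])
    have hd := hT.2.2 o0 ho0 o1 ho1 hne0
    rw [Finset.disjoint_iff_inter_eq_empty] at hd ⊢
    rw [← Finset.smul_finset_inter, hd, Finset.smul_finset_empty]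

theorem trio_fixed_iff {σ : Equiv.Perm GolayPt} (hσ : σ ∈ M24) {T : Finset (Finset GolayPt)}
    (hT : T ∈ Cfsg.trios) {o o' : Finset GolayPt} (ho : o ∈ T) (ho' : o' ∈ T) (hne : o ≠ o') :
    σ • T = T ↔ σ • o ∈ T ∧ σ • o' ∈ T := by
  constructor
  · intro h
    constructor
    · rw [← h]; exact Finset.smul_mem_smul_finset ho
    · rw [← h]; exact Finset.smul_mem_smul_finset ho'
  · rintro ⟨h1, h2⟩
    have hne' : σ • o ≠ σ • o' := fun h => hne (smul_left_cancel σ h)
    have hx : ((σ • o, σ • o') : Finset GolayPt × Finset GolayPt) ∈ T.offDiag :=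
      Finset.mem_offDiag.mpr ⟨h1, h2, hne'⟩
    have hx' : ((σ • o, σ • o') : Finset GolayPt × Finset GolayPt) ∈ (σ • T).offDiag :=
      Finset.mem_offDiag.mpr
        ⟨Finset.smul_mem_smul_finset ho, Finset.smul_mem_smul_finset ho', hne'⟩
    exact (eq_trioOf (σ • T) (smul_mem_trios hσ hT) _ hx').trans (eq_trioOf T hT _ hx).symm

theorem full_testBit (p : GolayPt) : (16777215 : ℕ).testBit (idx p) = true := by
  revert p; decide

theorem gmask_compl (s : Finset GolayPt) : gmask sᶜ = 16777215 ^^^ gmask s := by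
  apply Nat.eq_of_testBit_eq
  intro i
  rw [Nat.testBit_xor]
  by_cases hi : ∃ a : GolayPt, idx a = i
  · obtain ⟨a, rfl⟩ := hi
    rw [testBit_maskOf_idx idx_injective, testBit_maskOf_idx idx_injective, full_testBit]
    by_cases h : a ∈ s <;> simp [h]
  · rw [testBit_maskOf_of_not_range _ hi, testBit_maskOf_of_not_range _ hi]
    have : (16777215 : ℕ).testBit i = false := by
      apply Nat.testBit_lt_two_pow
      have h24 : 24 ≤ i := by
        by_contra hlt
        push Not at hlt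
        exact hi ⟨pt i, idx_pt hlt⟩
      calc (16777215 : ℕ) < 2 ^ 24 := by decide
        _ ≤ 2 ^ i := Nat.pow_le_pow_right (by decide) h24
    rw [this]
    rfl

/-- membership of a mask among the three masks of a trio. -/
def mem3 (m1 m2 x : ℕ) : Bool := x == m1 || x == m2 || x == 16777215 ^^^ (m1 ||| m2)

/-- the ordered pair of disjoint octads with masks `m1`, `m2` spans a trio mapped to itself. -/
def condP (t : List ℕ) (m1 m2 : ℕ) : Bool :=
  (m1 &&& m2 == 0) && mem3 m1 m2 (applyTbl t m1) && mem3 m1 m2 (applyTbl t m2)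

theorem mem_trioOf_iff (o o' x : Finset GolayPt) :
    x ∈ trioOf (o, o') ↔ mem3 (gmask o) (gmask o') (gmask x) = true := by
  unfold trioOf mem3
  simp only [Finset.mem_insert, Finset.mem_singleton, Bool.or_eq_true, beq_iff_eq]
  rw [← maskOf_union, ← gmask_compl]
  constructor
  · rintro (h | h | h)
    · exact Or.inl (Or.inl (by rw [h]))
    · exact Or.inl (Or.inr (by rw [h]))
    · exact Or.inr (by rw [h])
  · rintro ((h | h) | h)
    · exact Or.inl (gmask_injective h)
    · exact Or.inr (Or.inl (gmask_injective h))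
    · exact Or.inr (Or.inr (gmask_injective h))

theorem condP_iff {σ : Equiv.Perm GolayPt} (hσ : σ ∈ M24) (t : List ℕ)
    (h : ∀ p, idx (σ p) = t.getD (idx p) 0) {o o' : Finset GolayPt} (ho : o ∈ Cfsg.octads)
    (ho' : o' ∈ Cfsg.octads) :
    (Disjoint o o' ∧ σ • trioOf (o, o') = trioOf (o, o')) ↔ condP t (gmask o) (gmask o') = true := by
  unfold condP
  rw [Bool.and_eq_true, Bool.and_eq_true, beq_iff_eq, ← maskOf_disjoint_iff idx_injective,
    ← gmask_smul σ t h, ← gmask_smul σ t h, ← mem_trioOf_iff, ← mem_trioOf_iff]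
  constructor
  · rintro ⟨hd, hfix⟩
    obtain ⟨hT, hx⟩ := trioOf_mem (o, o') ho ho' hd
    rw [Finset.mem_offDiag] at hx
    have := (trio_fixed_iff hσ hT hx.1 hx.2.1 hx.2.2).mp hfix
    exact ⟨⟨hd, this.1⟩, this.2⟩
  · rintro ⟨⟨hd, h1⟩, h2⟩
    obtain ⟨hT, hx⟩ := trioOf_mem (o, o') ho ho' hd
    rw [Finset.mem_offDiag] at hx
    exact ⟨hd, (trio_fixed_iff hσ hT hx.1 hx.2.1 hx.2.2).mpr ⟨h1, h2⟩⟩

/-- six times the number of trios mapped to themselves by `σ`. -/
theorem ncard_fixed_trios {σ : Equiv.Perm GolayPt} (hσ : σ ∈ M24) (t : List ℕ)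
    (h : ∀ p, idx (σ p) = t.getD (idx p) 0) :
    6 * {T : Finset (Finset GolayPt) | T ∈ Cfsg.trios ∧ σ • T = T}.ncard =
      ((codeL 8).map (fun m1 => ((codeL 8).filter (condP t m1)).length)).sum := by
  classical
  set O : Finset (Finset GolayPt) := (Set.toFinite Cfsg.octads).toFinset with hO
  have hOmem : ∀ o, o ∈ O ↔ o ∈ Cfsg.octads := fun o => Set.Finite.mem_toFinset _
  have hfinT : {T : Finset (Finset GolayPt) | T ∈ Cfsg.trios ∧ σ • T = T}.Finite := Set.toFinite _
  set Tr : Finset (Finset (Finset GolayPt)) := hfinT.toFinset with hTr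
  have hTrmem : ∀ T, T ∈ Tr ↔ T ∈ Cfsg.trios ∧ σ • T = T := fun T => Set.Finite.mem_toFinset _
  set Pairs := (O ×ˢ O).filter
    (fun x => Disjoint x.1 x.2 ∧ σ • trioOf x = trioOf x) with hPairs
  have hP2 : Pairs = Tr.biUnion Finset.offDiag := by
    ext x
    rw [hPairs, Finset.mem_filter, Finset.mem_product, Finset.mem_biUnion, hOmem, hOmem]
    constructor
    · rintro ⟨⟨h1, h2⟩, hd, hfix⟩
      have := trioOf_mem x h1 h2 hd
      exact ⟨trioOf x, (hTrmem _).mpr ⟨this.1, hfix⟩, this.2⟩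
    · rintro ⟨T, hT, hx⟩
      have hT' := (hTrmem T).mp hT
      have hTx := eq_trioOf T hT'.1 x hx
      rw [Finset.mem_offDiag] at hx
      refine ⟨⟨hT'.1.2.1 _ hx.1, hT'.1.2.1 _ hx.2.1⟩, hT'.1.2.2 _ hx.1 _ hx.2.1 hx.2.2, ?_⟩
      rw [← hTx]
      exact hT'.2
  have hdisj : ∀ T ∈ Tr, ∀ T' ∈ Tr, T ≠ T' → Disjoint T.offDiag T'.offDiag := by
    intro T hT T' hT' hne
    rw [Finset.disjoint_left]
    intro x hx hx'
    apply hne
    rw [eq_trioOf T ((hTrmem T).mp hT).1 x hx, eq_trioOf T' ((hTrmem T').mp hT').1 x hx']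
  have hcard := Finset.card_biUnion hdisj
  rw [← hP2] at hcard
  have h6 : ∀ T ∈ Tr, T.offDiag.card = 6 := by
    intro T hT
    rw [Finset.offDiag_card, ((hTrmem T).mp hT).1.1]
  rw [Finset.sum_congr rfl h6, Finset.sum_const, smul_eq_mul] at hcard
  have hfin : {T : Finset (Finset GolayPt) | T ∈ Cfsg.trios ∧ σ • T = T}.ncard = Tr.card :=
    Set.ncard_eq_toFinset_card _ hfinT
  rw [hfin, mul_comm, ← hcard]
  -- now count the pairs through masks
  rw [hPairs, Finset.card_filter, Finset.sum_product]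
  have hinner : ∀ o ∈ O, ∑ o' ∈ O, (if Disjoint (o, o').1 (o, o').2 ∧
      σ • trioOf (o, o') = trioOf (o, o') then 1 else 0) =
      ((codeL 8).filter (condP t (gmask o))).length := by
    intro o ho
    rw [← Finset.card_filter]
    have hA := ncard_of_gmask
      {o' : Finset GolayPt | o' ∈ Cfsg.octads ∧ Disjoint o o' ∧ σ • trioOf (o, o') = trioOf (o, o')}
      (codeL 8) (nodup_codeL 8) (codeL_lt 8) (condP t (gmask o)) ?_
    · rw [← hA, ← Set.ncard_coe_finset]
      congr 1
      ext c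
      simp only [Finset.coe_filter, Set.mem_ofPred_eq, hOmem]
    · intro s
      rw [Set.mem_ofPred_eq, ← mem_wordsOfWeight_gmask]
      constructor
      · rintro ⟨h1, h2⟩
        exact ⟨h1, (condP_iff hσ t h ((hOmem o).mp ho) h1).mp h2⟩
      · rintro ⟨h1, h2⟩
        exact ⟨h1, (condP_iff hσ t h ((hOmem o).mp ho) h1).mpr h2⟩
  rw [Finset.sum_congr rfl hinner]
  -- outer sum
  rw [← List.sum_toFinset _ (nodup_codeL 8)]
  apply Finset.sum_nbij' (fun o => gmask o) (fun m => ofMask idx m)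
  · intro o ho
    rw [List.mem_toFinset, ← mem_wordsOfWeight_gmask]
    exact (hOmem o).mp ho
  · intro m hm
    rw [List.mem_toFinset] at hm
    rw [hOmem]
    show ofMask idx m ∈ wordsOfWeight (golayCode : Set (GolayPt → ZMod 2)) 8
    rw [mem_wordsOfWeight_gmask, gmask_ofMask (codeL_lt 8 m hm)]
    exact hm
  · intro o _
    exact ofMask_gmask o
  · intro m hm
    rw [List.mem_toFinset] at hm
    exact gmask_ofMask (codeL_lt 8 m hm)
  · intro o _
    rfl

end Cfsg.Agent.Lib.Helper95
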