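import Mathlib

/-!
Pack K-GAG (S4839), leaf G07c `frattini_involution`, parallel hand of helper95.
-/

set_option autoImplicit false

namespace Cfsg.Agent.Lib.Helper95.Gag

variable {G : Type*} [Group G] [Finite G]

theorem frattini_involution {p : ℕ} [Fact p.Prime] (hp2 : p ≠ 2) (N : Subgroup G) [N.Normal]
    (hNp : IsPGroup p N) (hcent : Subgroup.centralizer (N : Set G) ≤ N)
    (t : G) (ht : t * t = 1) (ht1 : t ≠ 1)
    (hall : ∀ s : G, s * s = 1 → s ≠ 1 → ∀ n ∈ N, s * n * s⁻¹ = n⁻¹) :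
    Subgroup.centralizer ({t} : Set G) ⊓ N = ⊥ ∧
      ∀ g : G, ∃ n ∈ N, ∃ l ∈ Subgroup.centralizer ({t} : Set G), g = n * l := by
  have hp : p.Prime := Fact.out
  have hpodd : Odd p := hp.odd_of_ne_two hp2
  have hNodd : ∀ n ∈ N, Odd (orderOf n) := by
    intro n hn
    obtain ⟨k, hk⟩ := (IsPGroup.iff_orderOf.mp hNp) ⟨n, hn⟩
    rw [Subgroup.orderOf_mk] at hk
    rw [hk]; exact hpodd.pow
  constructor
  · rw [Subgroup.eq_bot_iff_forall]
    intro n hn
    obtain ⟨hnc, hnN⟩ := Subgroup.mem_inf.mp hn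
    have h1 : t * n = n * t := (Subgroup.mem_centralizer_iff.mp hnc) t (Set.mem_singleton t)
    have h2 := hall t ht ht1 n hnN
    have h3 : n = n⁻¹ := by
      rw [← h2, h1]; group
    have h4 : n ^ 2 = 1 := by
      rw [pow_two]
      nth_rewrite 1 [h3]
      exact inv_mul_cancel n
    have h5 : orderOf n ∣ 2 := orderOf_dvd_of_pow_eq_one h4
    have h6 := hNodd n hnN
    have h7 : orderOf n = 1 := by
      rcases (Nat.dvd_prime Nat.prime_two).mp h5 with h | h
      · exact h
      · rw [h] at h6; exact absurd h6 (by decide)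
    exact orderOf_eq_one_iff.mp h7
  · intro g
    obtain ⟨s, hs⟩ : ∃ s, s = g * t * g⁻¹ := ⟨_, rfl⟩
    have hss : s * s = 1 := by
      rw [hs]
      calc g * t * g⁻¹ * (g * t * g⁻¹) = g * (t * t) * g⁻¹ := by group
        _ = 1 := by rw [ht]; group
    have hs1 : s ≠ 1 := by
      intro h
      apply ht1
      rw [hs] at h
      have h' : t = g⁻¹ * (g * t * g⁻¹) * g := by group
      rw [h', h]; group
    have hwN : s * t ∈ N := by
      apply hcent
      rw [Subgroup.mem_centralizer_iff]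
      intro n hn
      have h1 := hall t ht ht1 n hn
      have h2 := hall s hss hs1 n⁻¹ (N.inv_mem hn)
      rw [inv_inv] at h2
      have h3 : (s * t) * n * (s * t)⁻¹ = n := by
        calc (s * t) * n * (s * t)⁻¹ = s * (t * n * t⁻¹) * s⁻¹ := by group
          _ = s * n⁻¹ * s⁻¹ := by rw [h1]
          _ = n := h2
      calc n * (s * t) = ((s * t) * n * (s * t)⁻¹) * (s * t) := by rw [h3]
        _ = (s * t) * n := by group
    obtain ⟨k, hk⟩ := hNodd _ hwN
    obtain ⟨v, hv⟩ : ∃ v, v = (s * t) ^ (k + 1) := ⟨_, rfl⟩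
    have hvN : v ∈ N := by rw [hv]; exact N.pow_mem hwN _
    have hvv : v * v = s * t := by
      rw [hv, ← pow_add]
      have h' : k + 1 + (k + 1) = orderOf (s * t) + 1 := by omega
      rw [h', pow_succ, pow_orderOf_eq_one, one_mul]
    have htv := hall t ht ht1 v hvN
    have h4 : v * t * v⁻¹ = s := by
      have h5 : t * v⁻¹ = v * t := by
        have h' : t * v⁻¹ * t⁻¹ = v := by
          calc t * v⁻¹ * t⁻¹ = (t * v * t⁻¹)⁻¹ := by group
            _ = v := by rw [htv, inv_inv]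
        calc t * v⁻¹ = (t * v⁻¹ * t⁻¹) * t := by group
          _ = v * t := by rw [h']
      calc v * t * v⁻¹ = v * (t * v⁻¹) := by group
        _ = v * (v * t) := by rw [h5]
        _ = (v * v) * t := by group
        _ = (s * t) * t := by rw [hvv]
        _ = s * (t * t) := by group
        _ = s := by rw [ht, mul_one]
    refine ⟨v, hvN, v⁻¹ * g, ?_, by group⟩
    rw [Subgroup.mem_centralizer_iff]
    intro h hh
    rw [Set.mem_singleton_iff] at hh
    rw [hh]
    have h6 : (v⁻¹ * g) * t * (v⁻¹ * g)⁻¹ = t := by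
      calc (v⁻¹ * g) * t * (v⁻¹ * g)⁻¹ = v⁻¹ * (g * t * g⁻¹) * v := by group
        _ = v⁻¹ * s * v := by rw [hs]
        _ = v⁻¹ * (v * t * v⁻¹) * v := by rw [h4]
        _ = t := by group
    calc t * (v⁻¹ * g) = ((v⁻¹ * g) * t * (v⁻¹ * g)⁻¹) * (v⁻¹ * g) := by rw [h6]
      _ = (v⁻¹ * g) * t := by group

end Cfsg.Agent.Lib.Helper95.Gag
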