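import Mathlib
import Cfsg.Agent.Lib.Helper95.GolayCodeCount

set_option autoImplicit false
set_option linter.unusedSectionVars false
set_option linter.unusedVariables false

/-! Word counts through / avoiding a given coordinate for a 12-dimensional self-orthogonal
binary code of length 24 with minimum weight at least 8 containing the all-ones word:
253 / 506 words of weight 8, 1288 / 1288 of weight 12, 506 / 253 of weight 16. -/

namespace Cfsg.Agent.Lib.Helper95

open Cfsg.Agent.Lib.Helper09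

variable {ι : Type*} [Fintype ι] [DecidableEq ι]

/-- The words of `C` of weight `j` taking the value `b` at the coordinate `p`. -/
def wtAt (C : Submodule (ZMod 2) (ι → ZMod 2)) (p : ι) (j : ℕ) (b : ZMod 2) : Set (ι → ZMod 2) :=
  {w | w ∈ C ∧ hammingNorm w = j ∧ w p = b}

lemma zmod2_eq_zero_or_one (a : ZMod 2) : a = 0 ∨ a = 1 := by
  revert a; decide

lemma wtAt_split (C : Submodule (ZMod 2) (ι → ZMod 2)) (p : ι) (j : ℕ) :
    {w : ι → ZMod 2 | w ∈ C ∧ hammingNorm w = j}.ncard
      = (wtAt C p j 0).ncard + (wtAt C p j 1).ncard := by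
  have hset : {w : ι → ZMod 2 | w ∈ C ∧ hammingNorm w = j} = wtAt C p j 0 ∪ wtAt C p j 1 := by
    ext w
    simp only [wtAt, Set.mem_ofPred_eq, Set.mem_union]
    constructor
    · rintro ⟨h1, h2⟩
      rcases zmod2_eq_zero_or_one (w p) with h | h
      · exact Or.inl ⟨h1, h2, h⟩
      · exact Or.inr ⟨h1, h2, h⟩
    · rintro (⟨h1, h2, -⟩ | ⟨h1, h2, -⟩) <;> exact ⟨h1, h2⟩
  have hdisj : Disjoint (wtAt C p j 0) (wtAt C p j 1) := by
    rw [Set.disjoint_left]
    rintro w ⟨-, -, h0⟩ ⟨-, -, h1⟩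
    rw [h0] at h1
    exact absurd h1 (by decide)
  rw [hset, Set.ncard_union_eq hdisj (Set.toFinite _) (Set.toFinite _)]

lemma g24_hammingNorm_compl (hι : Fintype.card ι = 24) (w : ι → ZMod 2) :
    hammingNorm (1 + w) + hammingNorm w = 24 := by
  have h := hammingNorm_add_zmod2 (1 : ι → ZMod 2) w
  have h1 : bsupp (1 : ι → ZMod 2) = Finset.univ := by
    ext i; simp [mem_bsupp]
  rw [h1, Finset.univ_inter, ← hammingNorm_eq_card_bsupp] at h
  have h2 : hammingNorm (1 : ι → ZMod 2) = 24 := by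
    rw [hammingNorm_eq_card_bsupp, h1, Finset.card_univ, hι]
  omega

lemma one_add_one_add (w : ι → ZMod 2) : 1 + (1 + w) = w := by
  rw [← add_assoc, add_self_zmod2, zero_add]

lemma wtAt_compl (hι : Fintype.card ι = 24) (C : Submodule (ZMod 2) (ι → ZMod 2))
    (hone : (1 : ι → ZMod 2) ∈ C) (p : ι) (j : ℕ) (hj : j ≤ 24) (b : ZMod 2) :
    (wtAt C p (24 - j) (1 + b)).ncard = (wtAt C p j b).ncard := by
  have hset : wtAt C p (24 - j) (1 + b) = (fun w : ι → ZMod 2 => 1 + w) '' wtAt C p j b := by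
    ext v
    simp only [wtAt, Set.mem_image, Set.mem_ofPred_eq]
    constructor
    · rintro ⟨h1, h2, h3⟩
      refine ⟨1 + v, ⟨C.add_mem hone h1, ?_, ?_⟩, one_add_one_add v⟩
      · have := g24_hammingNorm_compl hι v
        omega
      · rw [Pi.add_apply, h3, Pi.one_apply, ← add_assoc]
        have : (1 : ZMod 2) + 1 = 0 := by decide
        rw [this, zero_add]
    · rintro ⟨w, ⟨h1, h2, h3⟩, rfl⟩
      refine ⟨C.add_mem hone h1, ?_, ?_⟩
      · have := g24_hammingNorm_compl hι w
        omega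
      · rw [Pi.add_apply, h3, Pi.one_apply]
  rw [hset]
  apply Set.ncard_image_of_injective
  intro a b hab
  exact add_left_cancel hab

section Code

variable (hι : Fintype.card ι = 24) (C : Submodule (ZMod 2) (ι → ZMod 2))
  (hdim : Module.finrank (ZMod 2) C = 12)
  (hmin : ∀ w ∈ C, w ≠ 0 → 8 ≤ hammingNorm w)

include hι hdim hmin in
theorem g24_octads_through (p : ι) : (wtAt C p 8 1).ncard = 253 := by
  classical
  have hS := g24_isSteinerSystem hι C hdim hmin
  have h := card_blocks_through_eq hS 1 253 (by norm_num) (by decide)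
    (by rw [hι]; decide) {p} (Finset.card_singleton p)
  rw [← h, ← Set.ncard_coe_finset]
  have hset : (↑((blocks (Cfsg.wordsOfWeight (C : Set (ι → ZMod 2)) 8)).filter ({p} ⊆ ·)) :
      Set (Finset ι)) = bsupp '' wtAt C p 8 1 := by
    ext b
    simp only [Finset.coe_filter, mem_blocks, Set.mem_ofPred_eq, Set.mem_image, wtAt,
      Finset.singleton_subset_iff, Cfsg.wordsOfWeight, Cfsg.supports, SetLike.mem_coe]
    constructor
    · rintro ⟨⟨⟨w, hw, rfl⟩, hk⟩, hp⟩
      rw [support₂_eq_bsupp] at hk hp ⊢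
      exact ⟨w, ⟨hw, by rw [hammingNorm_eq_card_bsupp, hk], (mem_bsupp w p).mp hp⟩, rfl⟩
    · rintro ⟨w, ⟨hw, hk, hp⟩, rfl⟩
      refine ⟨⟨⟨w, hw, support₂_eq_bsupp w⟩, ?_⟩, (mem_bsupp w p).mpr hp⟩
      rw [← hammingNorm_eq_card_bsupp, hk]
  rw [hset, Set.ncard_image_of_injective _ bsupp_injective]

include hι hdim hmin in
theorem g24_octads_avoiding (p : ι) : (wtAt C p 8 0).ncard = 506 := by
  have h1 := wtAt_split C p 8
  rw [← ncard_wordsOfWeight, g24_octads_ncard hι C hdim hmin,
    g24_octads_through hι C hdim hmin p] at h1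
  omega

variable (horth : ∀ v ∈ C, ∀ w ∈ C, ∑ i, v i * w i = 0) (hone : (1 : ι → ZMod 2) ∈ C)

include hι hdim hmin hone in
theorem g24_sixteen_through (p : ι) : (wtAt C p 16 1).ncard = 506 := by
  have h := wtAt_compl hι C hone p 8 (by norm_num) 0
  rw [g24_octads_avoiding hι C hdim hmin p] at h
  simpa using h

include hι hdim hmin hone in
theorem g24_sixteen_avoiding (p : ι) : (wtAt C p 16 0).ncard = 253 := by
  have h := wtAt_compl hι C hone p 8 (by norm_num) 1
  rw [g24_octads_through hι C hdim hmin p] at h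
  have h2 : (1 : ZMod 2) + 1 = 0 := by decide
  rw [h2] at h
  exact h

include hι hdim hmin horth hone in
theorem g24_dodecads_through (p : ι) :
    (wtAt C p 12 1).ncard = 1288 ∧ (wtAt C p 12 0).ncard = 1288 := by
  have h := wtAt_compl hι C hone p 12 (by norm_num) 0
  rw [add_zero] at h
  have h1 := wtAt_split C p 12
  rw [← ncard_wordsOfWeight, (g24_dodecads_ncard hι C hdim hmin horth hone).1] at h1
  have h3 : (24 : ℕ) - 12 = 12 := by norm_num
  rw [h3] at h
  omega

include hι hdim hmin horth hone in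
theorem g24_wtAt_eq_empty (p : ι) (j : ℕ) (b : ZMod 2)
    (hj : j ≠ 0 ∧ j ≠ 8 ∧ j ≠ 12 ∧ j ≠ 16 ∧ j ≠ 24) : wtAt C p j b = ∅ := by
  rw [Set.eq_empty_iff_forall_notMem]
  rintro w ⟨hw, hk, -⟩
  have := g24_weights hι C hdim hmin horth hone w hw
  omega

end Code

end Cfsg.Agent.Lib.Helper95
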