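import Mathlib
import Cfsg.Agent.Lib.Helper95.GolayDodecad
import Cfsg.Agent.Lib.Helper95.GolayCodePoint

set_option autoImplicit false
set_option linter.unusedSectionVars false
set_option linter.unusedVariables false

/-! Intersection numbers of the weight-12 words of a 12-dimensional self-orthogonal binary code of
length 24 with minimum weight at least 8 containing the all-ones word: a weight-12 word meets
the other weight-12 words in 0, 4, 6, 8 points, with multiplicities 1, 495, 1584, 495. -/

namespace Cfsg.Agent.Lib.Helper95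

variable {ι : Type*} [Fintype ι] [DecidableEq ι]

/-- Words of `C` of weight `j` whose support meets that of `w` in `k` points. -/
def interSet (C : Submodule (ZMod 2) (ι → ZMod 2)) (w : ι → ZMod 2) (j k : ℕ) :
    Set (ι → ZMod 2) :=
  {x | x ∈ C ∧ hammingNorm x = j ∧ (bsupp w ∩ bsupp x).card = k}

lemma ncard_inter_wordsOfWeight (C : Submodule (ZMod 2) (ι → ZMod 2)) (w : ι → ZMod 2) (j k : ℕ) :
    {o : Finset ι | o ∈ Cfsg.wordsOfWeight (C : Set (ι → ZMod 2)) j ∧ (bsupp w ∩ o).card = k}.ncard
      = (interSet C w j k).ncard := by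
  have : {o : Finset ι | o ∈ Cfsg.wordsOfWeight (C : Set (ι → ZMod 2)) j ∧ (bsupp w ∩ o).card = k}
      = bsupp '' interSet C w j k := by
    ext o
    simp only [Set.mem_ofPred_eq, Set.mem_image, interSet]
    constructor
    · rintro ⟨ho, hk⟩
      obtain ⟨c, hc, rfl, hcj⟩ := (mem_wordsOfWeight_iff C j o).mp ho
      exact ⟨c, ⟨hc, hcj, hk⟩, rfl⟩
    · rintro ⟨c, ⟨hc, hcj, hk⟩, rfl⟩
      exact ⟨(mem_wordsOfWeight_iff C j _).mpr ⟨c, hc, rfl, hcj⟩, hk⟩
  rw [this, Set.ncard_image_of_injective _ bsupp_injective]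

/-- `supp w ∩ supp (w + x) = supp w \ supp x`. -/
lemma card_inter_add (w x : ι → ZMod 2) :
    (bsupp w ∩ bsupp (w + x)).card + (bsupp w ∩ bsupp x).card = (bsupp w).card := by
  have h : bsupp w ∩ bsupp (w + x) = bsupp w \ bsupp x := by
    ext i
    rw [bsupp_add, Finset.mem_inter, Finset.mem_symmDiff, Finset.mem_sdiff]
    tauto
  rw [h, add_comm, Finset.card_inter_add_card_sdiff]

/-- `supp w ∩ supp (1 + x) = supp w \ supp x`. -/
lemma card_inter_one_add (w x : ι → ZMod 2) :
    (bsupp w ∩ bsupp (1 + x)).card + (bsupp w ∩ bsupp x).card = (bsupp w).card := by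
  have h : bsupp w ∩ bsupp (1 + x) = bsupp w \ bsupp x := by
    ext i
    rw [bsupp_add, Finset.mem_inter, Finset.mem_symmDiff, Finset.mem_sdiff]
    have : i ∈ bsupp (1 : ι → ZMod 2) := by simp [mem_bsupp]
    tauto
  rw [h, add_comm, Finset.card_inter_add_card_sdiff]

lemma add_add_cancel_zmod2 (w x : ι → ZMod 2) : w + (w + x) = x := by
  rw [← add_assoc, add_self_zmod2, zero_add]

/-- Translation by `w`. -/
lemma interSet_translate (C : Submodule (ZMod 2) (ι → ZMod 2)) (w : ι → ZMod 2) (hw : w ∈ C)
    (m j k j' k' : ℕ) (hm : hammingNorm w = m) (h1 : j' + 2 * k = m + j) (h2 : k' + k = m) :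
    (interSet C w j k).ncard = (interSet C w j' k').ncard := by
  have hset : interSet C w j' k' = (fun x : ι → ZMod 2 => w + x) '' interSet C w j k := by
    ext y
    simp only [interSet, Set.mem_image, Set.mem_ofPred_eq]
    constructor
    · rintro ⟨hy, hyj, hyk⟩
      refine ⟨w + y, ⟨C.add_mem hw hy, ?_, ?_⟩, add_add_cancel_zmod2 w y⟩
      · have := hammingNorm_add_zmod2 w y
        omega
      · have := card_inter_add w y
        rw [hammingNorm_eq_card_bsupp] at hm
        omega
    · rintro ⟨x, ⟨hx, hxj, hxk⟩, rfl⟩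
      refine ⟨C.add_mem hw hx, ?_, ?_⟩
      · have := hammingNorm_add_zmod2 w x
        omega
      · have := card_inter_add w x
        rw [hammingNorm_eq_card_bsupp] at hm
        omega
  rw [hset]
  symm
  apply Set.ncard_image_of_injective
  intro a b hab
  exact add_left_cancel hab

/-- Complementation. -/
lemma interSet_compl (hι : Fintype.card ι = 24) (C : Submodule (ZMod 2) (ι → ZMod 2))
    (hone : (1 : ι → ZMod 2) ∈ C) (w : ι → ZMod 2)
    (m j k j' k' : ℕ) (hm : hammingNorm w = m) (h1 : j' + j = 24) (h2 : k' + k = m) :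
    (interSet C w j k).ncard = (interSet C w j' k').ncard := by
  have hset : interSet C w j' k' = (fun x : ι → ZMod 2 => 1 + x) '' interSet C w j k := by
    ext y
    simp only [interSet, Set.mem_image, Set.mem_ofPred_eq]
    constructor
    · rintro ⟨hy, hyj, hyk⟩
      refine ⟨1 + y, ⟨C.add_mem hone hy, ?_, ?_⟩, one_add_one_add y⟩
      · have := g24_hammingNorm_compl hι y
        omega
      · have := card_inter_one_add w y
        rw [hammingNorm_eq_card_bsupp] at hm
        omega
    · rintro ⟨x, ⟨hx, hxj, hxk⟩, rfl⟩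
      refine ⟨C.add_mem hone hx, ?_, ?_⟩
      · have := g24_hammingNorm_compl hι x
        omega
      · have := card_inter_one_add w x
        rw [hammingNorm_eq_card_bsupp] at hm
        omega
  rw [hset]
  symm
  apply Set.ncard_image_of_injective
  intro a b hab
  exact add_left_cancel hab

section Code

variable (hι : Fintype.card ι = 24) (C : Submodule (ZMod 2) (ι → ZMod 2))
  (hdim : Module.finrank (ZMod 2) C = 12)
  (hmin : ∀ w ∈ C, w ≠ 0 → 8 ≤ hammingNorm w)
  (horth : ∀ v ∈ C, ∀ w ∈ C, ∑ i, v i * w i = 0) (hone : (1 : ι → ZMod 2) ∈ C)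

include hι hdim hmin horth hone in
/-- Two weight-12 words meet in 0, 4, 6, 8 or 12 points. -/
lemma g24_dodecad_inter (w x : ι → ZMod 2) (hw : w ∈ C) (hx : x ∈ C)
    (hw12 : hammingNorm w = 12) (hx12 : hammingNorm x = 12) :
    (bsupp w ∩ bsupp x).card = 0 ∨ (bsupp w ∩ bsupp x).card = 4 ∨ (bsupp w ∩ bsupp x).card = 6 ∨
      (bsupp w ∩ bsupp x).card = 8 ∨ (bsupp w ∩ bsupp x).card = 12 := by
  have hadd := hammingNorm_add_zmod2 w x
  have hwt := g24_weights hι C hdim hmin horth hone (w + x) (C.add_mem hw hx)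
  omega

lemma interSet_self (w : ι → ZMod 2) (hw : w ∈ C) (m : ℕ) (hm : hammingNorm w = m) :
    interSet C w m m = {w} := by
  ext x
  simp only [interSet, Set.mem_ofPred_eq, Set.mem_singleton_iff]
  constructor
  · rintro ⟨hx, hxm, hk⟩
    apply bsupp_injective
    have h1 : bsupp w ∩ bsupp x = bsupp w := by
      apply Finset.eq_of_subset_of_card_le Finset.inter_subset_left
      rw [hk, ← hammingNorm_eq_card_bsupp, hm]
    have h2 : bsupp w ∩ bsupp x = bsupp x := by
      apply Finset.eq_of_subset_of_card_le Finset.inter_subset_right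
      rw [hk, ← hammingNorm_eq_card_bsupp, hxm]
    rw [← h2, h1]
  · rintro rfl
    refine ⟨hw, hm, ?_⟩
    rw [Finset.inter_self, ← hammingNorm_eq_card_bsupp, hm]

include hι hdim hmin horth hone in
theorem g24_dodecad_numbers (w : ι → ZMod 2) (hw : w ∈ C) (hw12 : hammingNorm w = 12) :
    (interSet C w 12 0).ncard = 1 ∧ (interSet C w 12 4).ncard = 495 ∧
    (interSet C w 12 6).ncard = 1584 ∧ (interSet C w 12 8).ncard = 495 ∧
    (interSet C w 12 12).ncard = 1 := by
  classical
  have h12 : (interSet C w 12 12).ncard = 1 := by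
    rw [interSet_self C w hw 12 hw12, Set.ncard_singleton]
  have h0 : (interSet C w 12 0).ncard = 1 := by
    rw [interSet_compl hι C hone w 12 12 0 12 12 hw12 (by norm_num) (by norm_num), h12]
  have h8 : (interSet C w 12 8).ncard = 495 := by
    rw [interSet_translate C w hw 12 12 8 8 4 hw12 (by norm_num) (by norm_num),
      ← ncard_inter_wordsOfWeight]
    have hd : bsupp w ∈ Cfsg.wordsOfWeight (C : Set (ι → ZMod 2)) 12 :=
      (mem_wordsOfWeight_iff C 12 _).mpr ⟨w, hw, rfl, hw12⟩
    have := (g24_octads_vs_dodecad hι C hdim hmin horth hone (bsupp w) hd).2.2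
    rw [← this]
    congr 1
    ext o
    simp only [Set.mem_ofPred_eq, Finset.inter_comm]
  have h4 : (interSet C w 12 4).ncard = 495 := by
    rw [interSet_compl hι C hone w 12 12 4 12 8 hw12 (by norm_num) (by norm_num), h8]
  refine ⟨h0, h4, ?_, h8, h12⟩
  -- total count
  have htot : {x : ι → ZMod 2 | x ∈ C ∧ hammingNorm x = 12}.ncard = 2576 := by
    rw [← ncard_wordsOfWeight]
    exact (g24_dodecads_ncard hι C hdim hmin horth hone).1
  set A : Finset (ι → ZMod 2) :=
    (Finset.univ : Finset (ι → ZMod 2)).filter (fun x => x ∈ C ∧ hammingNorm x = 12) with hA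
  have hAcard : A.card = 2576 := by
    rw [← htot, ← Set.ncard_coe_finset]
    congr 1
    ext x
    simp [hA]
  have hfib : ∀ k, (A.filter (fun x => (bsupp w ∩ bsupp x).card = k)).card
      = (interSet C w 12 k).ncard := by
    intro k
    rw [← Set.ncard_coe_finset]
    congr 1
    ext x
    simp [hA, interSet, and_assoc]
  have hmaps : ∀ x ∈ A, (bsupp w ∩ bsupp x).card ∈ ({0, 4, 6, 8, 12} : Finset ℕ) := by
    intro x hx
    rw [hA, Finset.mem_filter] at hx
    have := g24_dodecad_inter hι C hdim hmin horth hone w x hw hx.2.1 hw12 hx.2.2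
    simp only [Finset.mem_insert, Finset.mem_singleton]
    exact this
  have hsum := Finset.card_eq_sum_card_fiberwise hmaps
  simp only [hfib] at hsum
  rw [hAcard] at hsum
  have hsum' : 2576 = (interSet C w 12 0).ncard + (interSet C w 12 4).ncard +
      (interSet C w 12 6).ncard + (interSet C w 12 8).ncard + (interSet C w 12 12).ncard := by
    rw [hsum]
    simp [Finset.sum_insert, add_assoc]
  omega

end Code

end Cfsg.Agent.Lib.Helper95
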