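import Mathlib
import Cfsg.Agent.Lib.Helper95.GolayCodePoint
import Cfsg.Agent.Lib.Helper95.GolayConcrete

set_option autoImplicit false
set_option linter.unusedSectionVars false
set_option linter.unusedVariables false

/-! The length-23 code obtained from `Cfsg.golayCode` by deleting the coordinate `none`. -/

namespace Cfsg.Agent.Lib.Helper95

/-- Delete the coordinate `none`. -/
def punc (w : Cfsg.GolayPt → ZMod 2) : ZMod 23 → ZMod 2 := fun x => w (some x)

/-- Extend by zero at the coordinate `none`. -/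
def unpunc (u : ZMod 23 → ZMod 2) : Cfsg.GolayPt → ZMod 2 := fun p => p.elim 0 u

lemma punc_unpunc (u : ZMod 23 → ZMod 2) : punc (unpunc u) = u := rfl

lemma unpunc_none (u : ZMod 23 → ZMod 2) : unpunc u none = 0 := rfl

lemma punc_sub (v w : Cfsg.GolayPt → ZMod 2) : punc (v - w) = punc v - punc w := rfl

lemma punc_add (v w : Cfsg.GolayPt → ZMod 2) : punc (v + w) = punc v + punc w := rfl

lemma punc_zero : punc 0 = 0 := rfl

lemma hammingNorm_punc (w : Cfsg.GolayPt → ZMod 2) :
    hammingNorm w = hammingNorm (punc w) + (if w none = 0 then 0 else 1) := by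
  classical
  unfold hammingNorm
  rw [Finset.card_filter, Finset.card_filter, Fintype.sum_option, add_comm]
  congr 1
  by_cases h : w none = 0 <;> simp [h]

lemma hammingNorm_punc_le (w : Cfsg.GolayPt → ZMod 2) : hammingNorm (punc w) ≤ hammingNorm w := by
  have := hammingNorm_punc w
  omega

lemma hammingNorm_le_punc (w : Cfsg.GolayPt → ZMod 2) :
    hammingNorm w ≤ hammingNorm (punc w) + 1 := by
  have := hammingNorm_punc w
  split_ifs at this <;> omega

lemma punc_injOn : Set.InjOn punc (Cfsg.golayCode : Set (Cfsg.GolayPt → ZMod 2)) := by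
  intro v hv w hw h
  have hmem : v - w ∈ Cfsg.golayCode := Cfsg.golayCode.sub_mem hv hw
  have h0 : punc (v - w) = 0 := by rw [punc_sub, h, sub_self]
  have hle := hammingNorm_le_punc (v - w)
  rw [h0, hammingNorm_zero] at hle
  by_contra hne
  have := golayCode_hmin (v - w) hmem (sub_ne_zero.mpr hne)
  omega

/-- The punctured code as the statement writes it. -/
lemma puncturedSet_eq :
    {u : ZMod 23 → ZMod 2 | ∃ w ∈ Cfsg.golayCode, ∀ x : ZMod 23, u x = w (some x)}
      = punc '' (Cfsg.golayCode : Set (Cfsg.GolayPt → ZMod 2)) := by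
  ext u
  simp only [Set.mem_ofPred_eq, Set.mem_image, SetLike.mem_coe]
  constructor
  · rintro ⟨w, hw, h⟩
    exact ⟨w, hw, (funext h).symm⟩
  · rintro ⟨w, hw, rfl⟩
    exact ⟨w, hw, fun x => rfl⟩

lemma punctured_ncard :
    {u : ZMod 23 → ZMod 2 | ∃ w ∈ Cfsg.golayCode, ∀ x : ZMod 23, u x = w (some x)}.ncard
      = 4096 := by
  rw [puncturedSet_eq, Set.InjOn.ncard_image punc_injOn]
  have := golayCode_card
  rw [← this]
  rfl

/-- The number of words of weight `k` of the punctured code. -/
lemma punctured_weight_ncard (k : ℕ) :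
    {u : ZMod 23 → ZMod 2 |
        u ∈ {u : ZMod 23 → ZMod 2 | ∃ w ∈ Cfsg.golayCode, ∀ x : ZMod 23, u x = w (some x)} ∧
          hammingNorm u = k}.ncard
      = (wtAt Cfsg.golayCode none k 0).ncard + (wtAt Cfsg.golayCode none (k + 1) 1).ncard := by
  rw [puncturedSet_eq]
  have hset : {u : ZMod 23 → ZMod 2 |
        u ∈ punc '' (Cfsg.golayCode : Set (Cfsg.GolayPt → ZMod 2)) ∧ hammingNorm u = k}
      = punc '' (wtAt Cfsg.golayCode none k 0 ∪ wtAt Cfsg.golayCode none (k + 1) 1) := by
    ext u
    simp only [Set.mem_ofPred_eq, Set.mem_image, SetLike.mem_coe, Set.mem_union, wtAt]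
    constructor
    · rintro ⟨⟨w, hw, rfl⟩, hk⟩
      refine ⟨w, ?_, rfl⟩
      have h := hammingNorm_punc w
      rcases zmod2_eq_zero_or_one (w none) with h0 | h1
      · left
        rw [if_pos h0] at h
        exact ⟨hw, by omega, h0⟩
      · right
        rw [if_neg (by rw [h1]; decide)] at h
        exact ⟨hw, by omega, h1⟩
    · rintro ⟨w, (⟨hw, hk, h0⟩ | ⟨hw, hk, h1⟩), rfl⟩
      · refine ⟨⟨w, hw, rfl⟩, ?_⟩
        have h := hammingNorm_punc w
        rw [if_pos h0] at h
        omega
      · refine ⟨⟨w, hw, rfl⟩, ?_⟩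
        have h := hammingNorm_punc w
        rw [if_neg (by rw [h1]; decide)] at h
        omega
  rw [hset, Set.InjOn.ncard_image, Set.ncard_union_eq _ (Set.toFinite _) (Set.toFinite _)]
  · rw [Set.disjoint_left]
    rintro w ⟨-, -, h0⟩ ⟨-, -, h1⟩
    rw [h0] at h1
    exact absurd h1 (by decide)
  · apply punc_injOn.mono
    rintro w (⟨hw, -, -⟩ | ⟨hw, -, -⟩) <;> exact hw

end Cfsg.Agent.Lib.Helper95
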