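import Cfsg.Agent.Lib.Helper95.M9
import Cfsg.Agent.Lib.Helper95.M12Hexad
import Mathlib

set_option autoImplicit false

/-! # The centraliser of an involution in the stabiliser `K11` of `d0` and `pt 0`: `GL(2,3)` -/

namespace Cfsg.Agent.Lib.Helper95

open Cfsg MulAction
open scoped Pointwise
open Cfsg.Agent.Lib.Helper10

/-! ### A general transport lemma -/

/-- a group embedded in `G` with image a conjugate of `A` is isomorphic to `A`. -/
theorem nonempty_iso_of_range {G S : Type*} [Group G] [Group S] (A : Subgroup G) (ι : S →* G)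
    (hι : Function.Injective ι) (g : G) (h : ∀ σ : G, σ ∈ ι.range ↔ g⁻¹ * σ * g ∈ A) :
    Nonempty (↥A ≃* S) := by
  have e1 : S ≃* ↥ι.range := MonoidHom.ofInjective hι
  have e2 : ↥A ≃* ↥(A.map (MulAut.conj g).toMonoidHom) :=
    A.equivMapOfInjective _ (MulAut.conj g).injective
  have e3 : A.map (MulAut.conj g).toMonoidHom = ι.range := by
    ext σ
    rw [h, Subgroup.mem_map_equiv, MulAut.conj_symm_apply]
  exact ⟨(e2.trans (MulEquiv.subgroupCongr e3)).trans e1.symm⟩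

/-! ### Agreement on many points of `d0` -/

theorem eq_of_agree_on {σ τ : Equiv.Perm GolayPt} (hσ : σ ∈ K12) (hτ : τ ∈ K12)
    (S : Finset GolayPt) (hS : S ⊆ fs d0) (hc : 5 ≤ S.card) (h : ∀ p ∈ S, σ p = τ p) : σ = τ := by
  have hk : τ⁻¹ * σ ∈ K12 := K12.mul_mem (K12.inv_mem hτ) hσ
  obtain ⟨hM, hd⟩ := (mem_K12 _).mp hk
  have h1 : τ⁻¹ * σ = 1 := by
    apply eq_one_of_fixes_subset fs_d0_mem hM hd S hS hc
    intro p hp
    show τ⁻¹ (σ p) = p
    rw [h p hp]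
    simp
  calc σ = τ * (τ⁻¹ * σ) := by group
    _ = τ := by rw [h1, mul_one]

theorem K12_mem_d0 {σ : Equiv.Perm GolayPt} (hσ : σ ∈ K12) {x : GolayPt} (hx : x ∈ fs d0) :
    σ x ∈ fs d0 := by
  have hP := pres_of_mem_K12 hσ x
  rw [mem_fs] at hx ⊢
  rw [hP]; exact hx

/-! ### The labelling of nine points of `d0` by the vectors of the plane over `F_3` -/

/-- the index of the point labelled by the vector `(x, y)`. -/
def bet (x y : ℕ) : ℕ := (([[0, 3, 4], [1, 18, 8], [2, 13, 6]] : List (List ℕ)).getD x []).getD y 0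

/-- the index of the point labelled by a vector. -/
def bv (v : Fin 2 → ZMod 3) : ℕ := bet (v 0).val (v 1).val

theorem bet_lt : ∀ x y : ZMod 3, bet x.val y.val < 24 := by decide

theorem bet_inj : ∀ x y x' y' : ZMod 3, bet x.val y.val = bet x'.val y'.val → x = x' ∧ y = y' := by
  decide

theorem bv_lt (v : Fin 2 → ZMod 3) : bv v < 24 := bet_lt _ _

theorem bv_injective : Function.Injective bv := by
  intro v w h
  obtain ⟨h0, h1⟩ := bet_inj _ _ _ _ h
  funext i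
  fin_cases i
  · exact h0
  · exact h1

/-- the mask of the nine labelled points. -/
def m9 : ℕ := 270687

theorem m9_sub : fs m9 ⊆ fs d0 := by
  intro p
  simp only [mem_fs]
  revert p
  decide +kernel

theorem card_m9 : (fs m9).card = 9 := by
  rw [card_fs]; decide +kernel

theorem m9_label : ∀ i : Fin 24, m9.testBit i = true → ∃ x y : ZMod 3, bet x.val y.val = i := by
  decide +kernel

theorem exists_label {p : GolayPt} (hp : p ∈ fs m9) : ∃ v : Fin 2 → ZMod 3, p = pt (bv v) := by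
  rw [mem_fs] at hp
  obtain ⟨x, y, h⟩ := m9_label ⟨idx p, idx_lt p⟩ hp
  refine ⟨![x, y], ?_⟩
  show p = pt (bet x.val y.val)
  rw [h, pt_idx]

theorem eq_of_agree9 {σ τ : Equiv.Perm GolayPt} (hσ : σ ∈ K12) (hτ : τ ∈ K12)
    (h : ∀ v : Fin 2 → ZMod 3, σ (pt (bv v)) = τ (pt (bv v))) : σ = τ := by
  apply eq_of_agree_on hσ hτ (fs m9) m9_sub (by rw [card_m9]; omega)
  intro p hp
  obtain ⟨v, rfl⟩ := exists_label hp
  exact h v

/-! ### The words of the 48 elements -/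

def glWords : List (List ℕ) := [
  [],
  [],
  [],
  [],
  [],
  [],
  [],
  [],
  [],
  [],
  [],
  [],
  [0, 3, 2, 2, 1, 2, 1, 0, 1, 0],
  [1, 1, 2, 2, 1, 1, 2, 3, 3, 0, 3],
  [1, 1, 0, 3, 2, 1, 1, 1, 1, 1, 2],
  [2, 1, 1, 2, 3, 0, 3, 2, 3, 3, 3],
  [0, 3, 3, 0, 1, 1, 1, 2, 2, 3, 2, 1, 1],
  [0, 3, 3, 2, 1, 0, 0, 3, 2, 3, 0, 0],
  [],
  [],
  [],
  [1, 1, 1, 0, 1, 2, 1, 0, 3, 3, 0],
  [2, 3, 0, 1, 0, 1, 1, 1],
  [3, 3, 3, 2, 1, 0, 1, 0, 3, 0, 0, 1],
  [0, 0, 1, 1, 2, 1, 0, 0, 3, 0, 1, 0],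
  [1, 0, 3, 3, 3, 0, 1, 0, 1, 0, 3],
  [1, 1, 0, 3, 2, 3, 3, 3, 2, 3, 2],
  [],
  [],
  [1, 0, 1, 0, 3, 0, 1, 1, 0, 1],
  [],
  [3, 3, 0, 3, 3, 0, 1, 1, 1, 1],
  [1, 1, 2, 3, 2, 3, 3, 3, 2, 3, 2, 1],
  [],
  [3, 3, 3, 3, 2, 1, 1, 2, 1, 1],
  [1, 0, 1, 0, 1, 0, 3, 3, 0, 3, 0, 0],
  [],
  [0, 1, 1, 2, 1, 2, 3, 2],
  [0, 0, 3, 2, 3, 0, 0, 1, 1, 2, 1, 0],
  [0, 1, 1, 1, 1, 1, 0, 1, 2, 3, 3],
  [],
  [1, 2, 1, 0, 1, 1, 1, 1, 2],
  [3, 3, 3, 2, 3, 2, 1, 0],
  [2, 1, 1, 2, 3, 3, 2, 3, 3, 3, 0, 0],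
  [],
  [],
  [0, 1, 0, 3, 0, 3, 3, 2],
  [3, 2, 2, 1, 2, 1, 0, 1, 0, 0],
  [1, 1, 2, 2, 3, 0, 3, 0, 1, 1, 1, 1, 1],
  [1, 1, 1, 0, 1, 2, 3, 2, 3, 3, 3, 0, 0],
  [],
  [0, 1, 0, 1, 1, 1, 0, 1, 2, 3, 3],
  [],
  [0, 1, 1, 1, 0, 0, 1, 1, 1, 1],
  [],
  [0, 1, 2, 2, 3, 3, 0, 3, 0, 0, 1],
  [0, 1, 1, 2, 1, 2, 1, 2, 3, 2],
  [],
  [2, 3, 0, 1, 1, 0, 1, 1, 0, 1, 0, 0],
  [3, 3, 3, 3, 0, 1, 2, 1, 0, 0],
  [],
  [1, 0, 1, 0, 1, 2, 1, 1, 0, 1, 2, 1, 2, 1],
  [2, 2, 3, 0, 3, 2, 1, 1, 1, 1],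
  [],
  [1, 1, 2, 1, 2, 1, 2, 3],
  [0, 1, 1, 2, 3, 2],
  [1, 2, 1, 1, 0, 3, 3, 0, 0, 3, 3],
  [3, 3, 3, 3, 2, 2, 3, 3, 3, 2],
  [],
  [3, 0, 3, 0, 1, 0, 0, 3, 0, 1, 1, 1],
  [],
  [0, 3, 2, 1, 1, 1, 1, 2, 1, 1, 1, 0],
  [],
  [0, 3, 0, 1, 0, 3, 3, 2, 2, 1, 0],
  [0, 1, 0, 3, 3, 2],
  [2, 3, 3, 2, 1, 2, 1, 0, 1, 0, 3, 0],
  [],
  [1, 1, 0, 1, 1, 0, 1, 2, 2, 3, 0, 3, 0],
  [1, 2, 3, 2, 3, 2, 1, 1, 1, 2, 3],
  [0, 3, 3, 3, 3, 2, 3, 0, 3],
  []]

/-- the word of the element acting as the matrix `[[a, b], [c, d]]`. -/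
def glW (a b c d : ℕ) : List ℕ := glWords.getD (27 * a + 9 * b + 3 * c + d) []

theorem gl_check : ∀ a b c d : ZMod 3, a * d - b * c ≠ 0 → ∀ x y : ZMod 3,
    evalW12 (glW a.val b.val c.val d.val) (bet x.val y.val) =
      bet (a * x + b * y).val (c * x + d * y).val := by
  decide +kernel

/-- the word of an invertible matrix. -/
def wM (M : GL (Fin 2) (ZMod 3)) : List ℕ :=
  glW (M.1 0 0).val (M.1 0 1).val (M.1 1 0).val (M.1 1 1).val

theorem glPerm_apply (M : GL (Fin 2) (ZMod 3)) (v : Fin 2 → ZMod 3) :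
    wordPerm12 (wM M) (pt (bv v)) = pt (bv (M.1.mulVec v)) := by
  have hdet : M.1 0 0 * M.1 1 1 - M.1 0 1 * M.1 1 0 ≠ 0 := by
    rw [← Matrix.det_fin_two]
    exact (Matrix.isUnits_det_units M).ne_zero
  have h := gl_check _ _ _ _ hdet (v 0) (v 1)
  have e0 : (M.1.mulVec v) 0 = M.1 0 0 * v 0 + M.1 0 1 * v 1 := by
    simp [Matrix.mulVec, dotProduct, Fin.sum_univ_two]
  have e1 : (M.1.mulVec v) 1 = M.1 1 0 * v 0 + M.1 1 1 * v 1 := by
    simp [Matrix.mulVec, dotProduct, Fin.sum_univ_two]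
  have h2 : bv (M.1.mulVec v) = bet (M.1 0 0 * v 0 + M.1 0 1 * v 1).val
      (M.1 1 0 * v 0 + M.1 1 1 * v 1).val := by
    unfold bv
    rw [e0, e1]
  rw [h2]
  exact wordPerm12_pt (bv_lt v) h

/-- the central involution. -/
def t0w : List ℕ := [0, 1, 1, 2, 1, 2, 1, 2, 3, 2]

noncomputable def t0c : Equiv.Perm GolayPt := wordPerm12 t0w

theorem t0_check : ∀ x y : ZMod 3, evalW12 t0w (bet x.val y.val) = bet (-x).val (-y).val := by
  decide +kernel

theorem t0c_mem : t0c ∈ K12 := wordPerm12_mem _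

theorem t0c_apply (v : Fin 2 → ZMod 3) : t0c (pt (bv v)) = pt (bv (-v)) :=
  wordPerm12_pt (bv_lt v) (t0_check (v 0) (v 1))

theorem t0c_base : t0c (pt 0) = pt 0 ∧ t0c (pt 1) = pt 2 ∧ t0c (pt 2) = pt 1 ∧
    t0c (pt 3) = pt 4 ∧ t0c (pt 4) = pt 3 :=
  ⟨wordPerm12_pt (by omega) (by decide +kernel), wordPerm12_pt (by omega) (by decide +kernel),
    wordPerm12_pt (by omega) (by decide +kernel), wordPerm12_pt (by omega) (by decide +kernel),
    wordPerm12_pt (by omega) (by decide +kernel)⟩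

/-- the centraliser of `t0c` in `K11`. -/
def C0c : Subgroup (Equiv.Perm GolayPt) := K11 ⊓ Subgroup.centralizer {t0c}

theorem mem_C0c (σ : Equiv.Perm GolayPt) : σ ∈ C0c ↔ σ ∈ K11 ∧ σ * t0c = t0c * σ := by
  unfold C0c
  rw [Subgroup.mem_inf, Subgroup.mem_centralizer_iff]
  constructor
  · rintro ⟨h1, h2⟩
    exact ⟨h1, (h2 t0c rfl).symm⟩
  · rintro ⟨h1, h2⟩
    refine ⟨h1, ?_⟩
    intro h hh
    rw [Set.mem_singleton_iff] at hh
    rw [hh, h2]

theorem glPerm_mem (M : GL (Fin 2) (ZMod 3)) : wordPerm12 (wM M) ∈ C0c := by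
  rw [mem_C0c, mem_K11]
  refine ⟨⟨wordPerm12_mem _, ?_⟩, ?_⟩
  · have h := glPerm_apply M 0
    rw [Matrix.mulVec_zero] at h
    exact h
  · apply eq_of_agree9 (K12.mul_mem (wordPerm12_mem _) t0c_mem)
      (K12.mul_mem t0c_mem (wordPerm12_mem _))
    intro v
    rw [Equiv.Perm.mul_apply, Equiv.Perm.mul_apply, t0c_apply, glPerm_apply, glPerm_apply,
      t0c_apply, Matrix.mulVec_neg]

/-- the isomorphism candidate from `GL(2,3)`. -/
noncomputable def glHom : GL (Fin 2) (ZMod 3) →* ↥C0c :=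
  MonoidHom.mk' (fun M => ⟨wordPerm12 (wM M), glPerm_mem M⟩) (by
    intro M N
    apply Subtype.ext
    show wordPerm12 (wM (M * N)) = wordPerm12 (wM M) * wordPerm12 (wM N)
    apply eq_of_agree9 (wordPerm12_mem _) (K12.mul_mem (wordPerm12_mem _) (wordPerm12_mem _))
    intro v
    rw [Equiv.Perm.mul_apply, glPerm_apply, glPerm_apply, glPerm_apply, Matrix.mulVec_mulVec]
    rfl)

theorem pt_inj' {i j : ℕ} (hi : i < 24) (hj : j < 24) (h : pt i = pt j) : i = j := by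
  have := congrArg idx h
  rwa [idx_pt hi, idx_pt hj] at this

theorem glHom_injective : Function.Injective glHom := by
  intro M N h
  have h1 : wordPerm12 (wM M) = wordPerm12 (wM N) := congrArg Subtype.val h
  apply Units.ext
  apply Matrix.mulVec_injective
  funext v
  have h2 := glPerm_apply M v
  rw [h1, glPerm_apply] at h2
  exact (bv_injective (pt_inj' (bv_lt _) (bv_lt _) h2)).symm

/-! ### The order of the centraliser -/

/-- the mask of the eight points of `d0` moved by `t0c`. -/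
def m8 : ℕ := 270686

def okC (c c' : ℕ) : Bool :=
  m8.testBit c && m8.testBit c' && (c' != c) && (c' != evalW12 t0w c)

def pairsC : Finset (ℕ × ℕ) :=
  (Finset.range 24 ×ˢ Finset.range 24).filter (fun q => okC q.1 q.2)

theorem card_pairsC : pairsC.card = 48 := by decide +kernel

theorem moved_check : ∀ i : Fin 24, d0.testBit i = true → evalW12 t0w i ≠ i →
    m8.testBit i = true := by
  decide +kernel

theorem card_C0c_le : Nat.card C0c ≤ 48 := by
  rw [← card_pairsC, ← Set.ncard_coe_finset, ← Nat.card_coe_set_eq]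
  apply Set.ncard_le_ncard_of_injOn (fun σ : Equiv.Perm GolayPt => (idx (σ (pt 1)), idx (σ (pt 3))))
  · intro σ hσ
    obtain ⟨hK, hc⟩ := (mem_C0c σ).mp hσ
    obtain ⟨hK12, h0⟩ := (mem_K11 σ).mp hK
    obtain ⟨t0, t1, t2, t3, t4⟩ := t0c_base
    have hP := pres_of_mem_K12 hK12
    have comm : ∀ p, t0c (σ p) = σ (t0c p) := fun p => by
      have := DFunLike.congr_fun hc p
      rw [Equiv.Perm.mul_apply, Equiv.Perm.mul_apply] at this
      exact this.symm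
    have mv : ∀ i j : ℕ, i < 24 → j < 24 → i ≠ j → d0.testBit i = true → t0c (pt i) = pt j →
        m8.testBit (idx (σ (pt i))) = true := by
      intro i j hi hj hij hd ht
      apply moved_check ⟨idx (σ (pt i)), idx_lt _⟩
      · show d0.testBit (idx (σ (pt i))) = true
        rw [hP, idx_pt hi]; exact hd
      · show evalW12 t0w (idx (σ (pt i))) ≠ idx (σ (pt i))
        rw [← evalW12_spec]
        show idx (t0c (σ (pt i))) ≠ _
        rw [comm, ht]
        intro h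
        exact hij (pt_inj' hi hj (σ.injective (idx_injective h.symm)))
    have a1 := mv 1 2 (by omega) (by omega) (by omega) (by decide) t1
    have a3 := mv 3 4 (by omega) (by omega) (by omega) (by decide) t3
    have n31 : idx (σ (pt 3)) ≠ idx (σ (pt 1)) := fun h => by
      have := pt_inj' (by omega) (by omega) (σ.injective (idx_injective h))
      omega
    have n32 : idx (σ (pt 3)) ≠ evalW12 t0w (idx (σ (pt 1))) := by
      rw [← evalW12_spec]
      show _ ≠ idx (t0c (σ (pt 1)))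
      rw [comm, t1]
      intro h
      have := pt_inj' (by omega) (by omega) (σ.injective (idx_injective h))
      omega
    rw [Finset.mem_coe]
    unfold pairsC
    rw [Finset.mem_filter, Finset.mem_product, Finset.mem_range, Finset.mem_range]
    refine ⟨⟨idx_lt _, idx_lt _⟩, ?_⟩
    unfold okC
    simp only [Bool.and_eq_true, bne_iff_ne, ne_eq]
    exact ⟨⟨⟨a1, a3⟩, n31⟩, n32⟩
  · intro σ hσ τ hτ h
    simp only [Prod.mk.injEq] at h
    obtain ⟨hK, hc⟩ := (mem_C0c σ).mp hσ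
    obtain ⟨hK12, h0⟩ := (mem_K11 σ).mp hK
    obtain ⟨hK', hc'⟩ := (mem_C0c τ).mp hτ
    obtain ⟨hK12', h0'⟩ := (mem_K11 τ).mp hK'
    obtain ⟨t0, t1, t2, t3, t4⟩ := t0c_base
    have comm : ∀ p, t0c (σ p) = σ (t0c p) := fun p => by
      have := DFunLike.congr_fun hc p
      rw [Equiv.Perm.mul_apply, Equiv.Perm.mul_apply] at this
      exact this.symm
    have comm' : ∀ p, t0c (τ p) = τ (t0c p) := fun p => by
      have := DFunLike.congr_fun hc' p
      rw [Equiv.Perm.mul_apply, Equiv.Perm.mul_apply] at this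
      exact this.symm
    have e1 : σ (pt 1) = τ (pt 1) := idx_injective h.1
    have e3 : σ (pt 3) = τ (pt 3) := idx_injective h.2
    apply eq_of_base12 hK12 hK12'
    intro i hi
    interval_cases i
    · rw [h0, h0']
    · exact e1
    · rw [← t1, ← comm, ← comm', e1]
    · exact e3
    · rw [← t3, ← comm, ← comm', e3]

theorem card_GL23 : Nat.card (GL (Fin 2) (ZMod 3)) = 48 := by
  rw [Matrix.card_GL_field]
  simp [Fin.prod_univ_two]

theorem glHom_bijective : Function.Bijective glHom := by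
  rw [Nat.bijective_iff_injective_and_card]
  refine ⟨glHom_injective, ?_⟩
  have h1 := Nat.card_le_card_of_injective glHom glHom_injective
  rw [card_GL23] at h1 ⊢
  have h2 := card_C0c_le
  omega

/-- the centraliser of `t0c` in `K11` is `GL(2,3)`. -/
theorem C0c_iso : Nonempty (↥C0c ≃* GL (Fin 2) (ZMod 3)) :=
  ⟨(MulEquiv.ofBijective glHom glHom_bijective).symm⟩

end Cfsg.Agent.Lib.Helper95
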