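import Cfsg.Agent.Lib.Helper10.M12b
import Mathlib

set_option autoImplicit false

/-! # The pointwise stabiliser of three points of the dodecad `d0`: `M9 = 3^2 : Q8`

Concrete facts, by enumeration of the 72 elements (sharp 5-transitivity of `K12`). -/

namespace Cfsg.Agent.Lib.Helper95

open Cfsg MulAction
open scoped Pointwise
open Cfsg.Agent.Lib.Helper10

/-- the pointwise stabiliser of `pt 0, pt 1, pt 2` in the stabiliser of `d0`. -/
def M9c : Subgroup (Equiv.Perm GolayPt) := fixL K12 (bsL12 3)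

theorem bpt12_eq (i : ℕ) (hi : i < 5) : bpt12 i = pt i := by
  interval_cases i <;> rfl

theorem mem_M9c (σ : Equiv.Perm GolayPt) :
    σ ∈ M9c ↔ σ ∈ K12 ∧ σ (pt 0) = pt 0 ∧ σ (pt 1) = pt 1 ∧ σ (pt 2) = pt 2 := by
  unfold M9c
  rw [mem_fixL]
  constructor
  · rintro ⟨h, h2⟩
    refine ⟨h, ?_, ?_, ?_⟩
    · exact h2 _ ((mem_bsL12 3 _).mpr ⟨0, by omega, rfl⟩)
    · exact h2 _ ((mem_bsL12 3 _).mpr ⟨1, by omega, rfl⟩)
    · exact h2 _ ((mem_bsL12 3 _).mpr ⟨2, by omega, rfl⟩)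
  · rintro ⟨h, h0, h1, h2⟩
    refine ⟨h, ?_⟩
    intro b hb
    obtain ⟨i, hi, rfl⟩ := (mem_bsL12 3 b).mp hb
    interval_cases i
    · exact h0
    · exact h1
    · exact h2

theorem card_M9c : Nat.card M9c = 72 := by
  have h0 : Nat.card (fixL K12 (bsL12 0)) = 12 * Nat.card (fixL K12 (bsL12 1)) :=
    chain12_step 0 (by omega)
  have h1 : Nat.card (fixL K12 (bsL12 1)) = 11 * Nat.card (fixL K12 (bsL12 2)) :=
    chain12_step 1 (by omega)
  have h2 : Nat.card (fixL K12 (bsL12 2)) = 10 * Nat.card (fixL K12 (bsL12 3)) :=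
    chain12_step 2 (by omega)
  have e0 : fixL K12 (bsL12 0) = K12 := rfl
  rw [e0, card_K12] at h0
  unfold M9c
  omega

/-- two elements of `K12` agreeing on the five base points are equal. -/
theorem eq_of_base12 {σ τ : Equiv.Perm GolayPt} (hσ : σ ∈ K12) (hτ : τ ∈ K12)
    (h : ∀ i < 5, σ (pt i) = τ (pt i)) : σ = τ := by
  have h1 : τ⁻¹ * σ = 1 := by
    apply eq_one_of_fixes_base12 (K12.mul_mem (K12.inv_mem hτ) hσ)
    intro i hi
    rw [bpt12_eq i hi]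
    show τ⁻¹ (σ (pt i)) = pt i
    rw [h i hi]
    simp
  calc σ = τ * (τ⁻¹ * σ) := by group
    _ = τ := by rw [h1, mul_one]

def m9Words : List (List (List ℕ)) := [
  [[], [], [], [], [], [], [], [], [], [], [], [], [], [], [], [], [], [], [], [], [], [], [], []],
  [[], [], [], [], [], [], [], [], [], [], [], [], [], [], [], [], [], [], [], [], [], [], [], []],
  [[], [], [], [], [], [], [], [], [], [], [], [], [], [], [], [], [], [], [], [], [], [], [], []],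
  [[], [], [], [], [], [], [1, 2, 3, 3, 0, 1, 1, 0, 1, 1, 1, 2], [], [1, 1, 0, 1, 2, 1, 1, 1, 2, 3, 0, 1], [0, 3, 3, 3, 2, 3, 3, 2, 1, 1, 0, 3], [], [], [1, 1, 0, 0, 3, 0, 3, 3, 3, 2, 1, 0, 0], [1, 0, 1, 1, 1, 1, 2, 1, 2], [], [], [3, 2, 1, 0, 3, 3, 3, 0, 3, 2, 3, 3], [], [0, 3, 0, 3, 3, 3, 3, 2, 3], [], [], [], [], []],
  [[], [], [], [1, 0, 1, 0, 3, 0, 1, 1, 0, 1], [], [], [1, 1, 2, 3, 2, 3, 3, 3, 2, 3, 2, 1, 0], [], [3, 2, 1, 1, 0, 3, 2, 3, 3, 0], [2, 2, 3, 2, 3, 3, 3, 2, 2], [], [], [3, 0, 1, 0, 3, 0, 3, 0, 1, 1], [3, 0, 3, 3, 3, 3, 0, 1, 2, 3, 0, 1, 1], [], [], [0, 3, 0, 0, 1, 1, 2, 1, 1, 1, 0], [], [2, 1, 0, 1, 0, 3, 3, 2, 1, 1, 1, 0], [], [], [], [], []],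
  [[], [], [], [], [], [], [], [], [], [], [], [], [], [], [], [], [], [], [], [], [], [], [], []],
  [[], [], [], [2, 1, 0, 1, 1, 2, 2, 3, 2, 1, 1], [1, 1, 1, 1, 1, 0, 1, 2, 3, 3], [], [], [], [1, 1, 0, 1, 1, 0, 1, 0, 1, 0, 3, 0, 1], [3, 3, 0, 1, 2, 3, 2, 1, 1, 2, 3], [], [], [0, 0, 1, 1, 0, 3, 0, 0, 1], [2, 3, 0, 1, 1, 2, 3, 3, 2, 3], [], [], [1, 1, 2, 2, 1, 1, 2, 2], [], [3, 2, 2, 1, 2, 1, 0, 1, 0, 0], [], [], [], [], []],
  [[], [], [], [], [], [], [], [], [], [], [], [], [], [], [], [], [], [], [], [], [], [], [], []],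
  [[], [], [], [0, 0, 1, 1, 1, 0, 1, 0, 0], [1, 1, 0, 3, 2, 1, 1, 1, 1, 1], [], [0, 1, 1, 0, 3, 2, 3, 0, 3, 3, 2, 1], [], [], [1, 1, 2, 3, 0, 1, 0, 1, 1, 0, 1, 1], [], [], [2, 1, 0, 3, 3, 0, 1, 2, 1, 1, 0, 0], [0, 0, 3, 2, 3, 0, 0, 1, 1, 2, 1, 0], [], [], [0, 1, 0, 3, 3, 0, 0, 1, 0, 3, 3, 0], [], [3, 3, 0, 3, 0, 3, 3, 0, 1, 2, 3], [], [], [], [], []],
  [[], [], [], [1, 2, 3, 2, 3, 2, 1, 2, 3, 3, 0, 3, 0], [3, 2, 2, 1, 0, 1, 2, 3, 3, 0, 1, 1], [], [0, 3, 0, 1, 1, 0, 1, 2, 3, 0], [], [0, 3, 2, 3, 0, 3, 3, 2, 1, 0, 1, 0], [], [], [], [3, 0, 1, 1, 2, 1, 0, 1, 2, 3, 3, 2], [0, 0, 3, 3, 0, 0, 3, 3], [], [], [3, 2, 3, 3, 3, 3, 0, 0, 1, 2, 1], [], [1, 0, 3, 3, 2, 1, 1, 1, 0, 1, 0], [], [], [], [], []],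
  [[], [], [], [], [], [], [], [], [], [], [], [], [], [], [], [], [], [], [], [], [], [], [], []],
  [[], [], [], [], [], [], [], [], [], [], [], [], [], [], [], [], [], [], [], [], [], [], [], []],
  [[], [], [], [3, 3, 2, 1, 2, 1, 2, 3, 2, 1], [1, 1, 0, 3, 0, 1, 1, 1, 2, 1, 0], [], [2, 1, 1, 2, 3, 2, 2, 1, 1, 2, 3, 2], [], [1, 0, 3, 0, 0, 1, 0, 1, 0, 1, 1], [1, 2, 3, 2, 3, 3, 3, 3, 0, 1], [], [], [], [0, 3, 2, 1, 0, 1, 1, 1, 1, 2, 3], [], [], [2, 1, 2, 1, 0, 1, 1, 1, 1, 2], [], [0, 3, 2, 1, 0, 3, 3, 2, 1, 2], [], [], [], [], []],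
  [[], [], [], [2, 1, 1, 0, 1, 2, 3, 3, 0, 1], [3, 3, 2, 2, 3, 0, 3, 2, 1, 1, 0, 1], [], [1, 0, 1, 1, 0, 3, 3, 2, 1, 0], [], [0, 1, 0, 3, 0, 3, 3, 2], [1, 2, 1, 1, 1, 0, 1, 2, 3, 3, 0, 0, 1], [], [], [2, 3, 2, 3, 3, 3, 0, 1, 1, 2, 3], [], [], [], [2, 2, 3, 3, 0, 3, 2, 1, 1, 2, 3, 0], [], [0, 3, 3, 3, 3, 2, 3, 0, 3, 0], [], [], [], [], []],
  [[], [], [], [], [], [], [], [], [], [], [], [], [], [], [], [], [], [], [], [], [], [], [], []],
  [[], [], [], [], [], [], [], [], [], [], [], [], [], [], [], [], [], [], [], [], [], [], [], []],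
  [[], [], [], [2, 3, 3, 3, 0, 1, 1, 2, 3, 2, 3, 0], [3, 2, 3, 3, 0, 1, 1, 2, 2, 1, 0, 1], [], [3, 0, 1, 0, 3, 3, 2, 2, 1, 0, 0], [], [1, 0, 3, 3, 3, 3, 0, 1, 2, 3, 0], [3, 0, 3, 2, 2, 1, 1, 1, 1, 0, 1], [], [], [0, 1, 1, 1, 2, 1, 1, 0, 3, 2, 3, 0, 0], [2, 1, 0, 3, 3, 3, 0, 0, 1, 2, 1, 0], [], [], [], [], [0, 1, 0, 0, 3, 3, 3, 2, 1, 2, 1, 0], [], [], [], [], []],
  [[], [], [], [], [], [], [], [], [], [], [], [], [], [], [], [], [], [], [], [], [], [], [], []],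
  [[], [], [], [0, 3, 0, 3, 3, 3, 0, 3, 0, 1, 1, 0, 1], [1, 0, 1, 1, 1, 2, 1, 1, 0, 3, 0, 0], [], [0, 1, 1, 2, 1, 2, 3, 2], [], [1, 0, 3, 2, 1, 1, 2, 1, 2, 1, 1], [3, 0, 3, 0, 1, 1, 0, 0, 1], [], [], [2, 3, 0, 3, 2, 2, 1, 1, 1, 2, 3, 0], [3, 2, 1, 1, 1, 1, 0, 1, 0, 3], [], [], [0, 0, 1, 2, 1, 1, 1, 0, 1, 0, 1, 0, 0], [], [], [], [], [], [], []],
  [[], [], [], [], [], [], [], [], [], [], [], [], [], [], [], [], [], [], [], [], [], [], [], []],
  [[], [], [], [], [], [], [], [], [], [], [], [], [], [], [], [], [], [], [], [], [], [], [], []],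
  [[], [], [], [], [], [], [], [], [], [], [], [], [], [], [], [], [], [], [], [], [], [], [], []],
  [[], [], [], [], [], [], [], [], [], [], [], [], [], [], [], [], [], [], [], [], [], [], [], []],
  [[], [], [], [], [], [], [], [], [], [], [], [], [], [], [], [], [], [], [], [], [], [], [], []]]

/-- the word of the element of `M9c` mapping `pt 3, pt 4` to `pt c, pt c'`. -/
def m9w (c c' : ℕ) : List ℕ := (m9Words.getD c []).getD c' []

/-- admissible images of the pair `pt 3, pt 4`. -/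
def okPair (c c' : ℕ) : Bool :=
  d0.testBit c && d0.testBit c' && decide (2 < c) && decide (2 < c') && (c != c')

theorem m9w_check : ∀ c c' : Fin 24, okPair c c' = true →
    evalW12 (m9w c c') 0 = 0 ∧ evalW12 (m9w c c') 1 = 1 ∧ evalW12 (m9w c c') 2 = 2 ∧
      evalW12 (m9w c c') 3 = c ∧ evalW12 (m9w c c') 4 = c' := by
  decide +kernel

theorem isTab_wordPerm12 (w : List ℕ) : ∀ p, idx (wordPerm12 w p) = evalW12 w (idx p) :=
  evalW12_spec w

theorem pt_inj {i j : ℕ} (hi : i < 24) (hj : j < 24) (h : pt i = pt j) : i = j := by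
  have := congrArg idx h
  rwa [idx_pt hi, idx_pt hj] at this

theorem wordPerm12_mem_M9c {c c' : Fin 24} (h : okPair c c' = true) :
    wordPerm12 (m9w c c') ∈ M9c := by
  obtain ⟨h0, h1, h2, -, -⟩ := m9w_check c c' h
  rw [mem_M9c]
  exact ⟨wordPerm12_mem _, wordPerm12_pt (by omega) h0, wordPerm12_pt (by omega) h1,
    wordPerm12_pt (by omega) h2⟩

/-- every element of `M9c` is one of the 72 words. -/
theorem exists_word_of_mem_M9c {σ : Equiv.Perm GolayPt} (hσ : σ ∈ M9c) :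
    ∃ c c' : Fin 24, okPair c c' = true ∧ σ (pt 3) = pt c ∧ σ (pt 4) = pt c' ∧
      σ = wordPerm12 (m9w c c') := by
  obtain ⟨hK, f0, f1, f2⟩ := (mem_M9c σ).mp hσ
  have hP := pres_of_mem_K12 hK
  set c : Fin 24 := ⟨idx (σ (pt 3)), idx_lt _⟩ with hc
  set c' : Fin 24 := ⟨idx (σ (pt 4)), idx_lt _⟩ with hc'
  have e3 : σ (pt 3) = pt c := (pt_idx _).symm
  have e4 : σ (pt 4) = pt c' := (pt_idx _).symm
  have ne : ∀ i j : ℕ, i < 24 → j < 24 → i ≠ j → idx (σ (pt i)) ≠ idx (σ (pt j)) := by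
    intro i j hi hj hij h
    exact hij (pt_inj hi hj (σ.injective (idx_injective h)))
  have i0 : idx (σ (pt 0)) = 0 := by rw [f0]; rfl
  have i1 : idx (σ (pt 1)) = 1 := by rw [f1]; rfl
  have i2 : idx (σ (pt 2)) = 2 := by rw [f2]; rfl
  have hok : okPair c c' = true := by
    have b3 : d0.testBit (idx (σ (pt 3))) = true := by rw [hP]; rfl
    have b4 : d0.testBit (idx (σ (pt 4))) = true := by rw [hP]; rfl
    have n30 := ne 3 0 (by omega) (by omega) (by omega)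
    have n31 := ne 3 1 (by omega) (by omega) (by omega)
    have n32 := ne 3 2 (by omega) (by omega) (by omega)
    have n40 := ne 4 0 (by omega) (by omega) (by omega)
    have n41 := ne 4 1 (by omega) (by omega) (by omega)
    have n42 := ne 4 2 (by omega) (by omega) (by omega)
    have n34 := ne 3 4 (by omega) (by omega) (by omega)
    rw [i0] at n30 n40
    rw [i1] at n31 n41
    rw [i2] at n32 n42
    unfold okPair
    simp only [Bool.and_eq_true, decide_eq_true_eq, bne_iff_ne, ne_eq]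
    refine ⟨⟨⟨⟨b3, b4⟩, ?_⟩, ?_⟩, ?_⟩
    · show 2 < idx (σ (pt 3)); omega
    · show 2 < idx (σ (pt 4)); omega
    · exact n34
  refine ⟨c, c', hok, e3, e4, ?_⟩
  obtain ⟨h0, h1, h2, h3, h4⟩ := m9w_check c c' hok
  apply eq_of_base12 hK (wordPerm12_mem _)
  intro i hi
  interval_cases i
  · rw [f0, wordPerm12_pt (by omega) h0]
  · rw [f1, wordPerm12_pt (by omega) h1]
  · rw [f2, wordPerm12_pt (by omega) h2]
  · rw [e3, wordPerm12_pt (by omega) h3]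
  · rw [e4, wordPerm12_pt (by omega) h4]

/-! ### Elements of order dividing nine -/

theorem idx_pow (w : List ℕ) (n : ℕ) (p : GolayPt) :
    idx ((wordPerm12 w ^ n) p) = (evalW12 w)^[n] (idx p) := by
  induction n with
  | zero => rfl
  | succ n ih =>
    rw [pow_succ', Function.iterate_succ_apply']
    show idx (wordPerm12 w ((wordPerm12 w ^ n) p)) = _
    rw [evalW12_spec, ih]

theorem pow_pt (w : List ℕ) (n : ℕ) {i j : ℕ} (hi : i < 24) (h : (evalW12 w)^[n] i = j) :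
    (wordPerm12 w ^ n) (pt i) = pt j := by
  have := idx_pow w n (pt i)
  rw [idx_pt hi, h] at this
  rw [← this, pt_idx]

/-- the nine pairs giving the elements of order dividing three. -/
def l9 : List (ℕ × ℕ) :=
  [(3, 4), (4, 12), (6, 16), (8, 9), (9, 13), (12, 3), (13, 8), (16, 18), (18, 6)]

theorem nine_check : ∀ c c' : Fin 24, okPair c c' = true →
    (evalW12 (m9w c c'))^[9] 3 = 3 → (evalW12 (m9w c c'))^[9] 4 = 4 →
      (c.val, c'.val) ∈ l9 ∧ (evalW12 (m9w c c'))^[3] 3 = 3 ∧ (evalW12 (m9w c c'))^[3] 4 = 4 := by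
  decide +kernel

theorem pow_fix_of_fix {σ : Equiv.Perm GolayPt} {x : GolayPt} (h : σ x = x) (n : ℕ) :
    (σ ^ n) x = x := by
  induction n with
  | zero => rfl
  | succ n ih =>
    rw [pow_succ']
    show σ ((σ ^ n) x) = x
    rw [ih, h]

theorem nine_spec {σ : Equiv.Perm GolayPt} (hσ : σ ∈ M9c) (h9 : σ ^ 9 = 1) :
    σ ^ 3 = 1 ∧ (idx (σ (pt 3)), idx (σ (pt 4))) ∈ l9 := by
  obtain ⟨c, c', hok, e3, e4, rfl⟩ := exists_word_of_mem_M9c hσ
  obtain ⟨hK, f0, f1, f2⟩ := (mem_M9c _).mp hσ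
  have a3 : (evalW12 (m9w c c'))^[9] 3 = 3 := by
    have h1 := idx_pow (m9w c c') 9 (pt 3)
    rw [h9] at h1
    exact h1.symm
  have a4 : (evalW12 (m9w c c'))^[9] 4 = 4 := by
    have h1 := idx_pow (m9w c c') 9 (pt 4)
    rw [h9] at h1
    exact h1.symm
  obtain ⟨hm, b3, b4⟩ := nine_check c c' hok a3 a4
  refine ⟨?_, ?_⟩
  · apply eq_of_base12 (K12.pow_mem hK 3) K12.one_mem
    intro i hi
    interval_cases i
    · exact pow_fix_of_fix f0 3
    · exact pow_fix_of_fix f1 3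
    · exact pow_fix_of_fix f2 3
    · exact pow_pt _ 3 (by omega) b3
    · exact pow_pt _ 3 (by omega) b4
  · rw [e3, e4, idx_pt c.isLt, idx_pt c'.isLt]
    exact hm

theorem pow_three_of_pow_nine {σ : Equiv.Perm GolayPt} (hσ : σ ∈ M9c) (h9 : σ ^ 9 = 1) :
    σ ^ 3 = 1 := (nine_spec hσ h9).1

theorem ncard_pow_nine : {σ : Equiv.Perm GolayPt | σ ∈ M9c ∧ σ ^ 9 = 1}.ncard ≤ 9 := by
  have h := Set.ncard_le_ncard_of_injOn (s := {σ : Equiv.Perm GolayPt | σ ∈ M9c ∧ σ ^ 9 = 1})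
    (t := (↑l9.toFinset : Set (ℕ × ℕ))) (fun σ => (idx (σ (pt 3)), idx (σ (pt 4))))
    (by
      rintro σ ⟨hσ, h9⟩
      simp only [Finset.mem_coe, List.mem_toFinset]
      exact (nine_spec hσ h9).2)
    (by
      rintro σ ⟨hσ, -⟩ τ ⟨hτ, -⟩ h
      simp only [Prod.mk.injEq] at h
      obtain ⟨hK, f0, f1, f2⟩ := (mem_M9c _).mp hσ
      obtain ⟨hK', g0, g1, g2⟩ := (mem_M9c _).mp hτ
      apply eq_of_base12 hK hK'
      intro i hi
      interval_cases i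
      · rw [f0, g0]
      · rw [f1, g1]
      · rw [f2, g2]
      · exact idx_injective h.1
      · exact idx_injective h.2)
    (Finset.finite_toSet _)
  rw [Set.ncard_coe_finset] at h
  exact h.trans (by decide)

/-! ### A quaternion subgroup -/

def qwA : List (List ℕ) := [[], [1, 2, 3, 3, 0, 1, 1, 0, 1, 1, 1, 2],
  [1, 1, 0, 0, 3, 0, 3, 3, 3, 2, 1, 0, 0], [0, 3, 3, 3, 2, 3, 3, 2, 1, 1, 0, 3]]

def qwX : List (List ℕ) := [[1, 0, 1, 1, 1, 1, 2, 1, 2], [1, 1, 0, 1, 2, 1, 1, 1, 2, 3, 0, 1],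
  [0, 3, 0, 3, 3, 3, 3, 2, 3], [3, 2, 1, 0, 3, 3, 3, 0, 3, 2, 3, 3]]

/-- words for the eight elements of a quaternion subgroup of `M9c`. -/
def qw : QuaternionGroup 2 → List ℕ
  | .a i => qwA.getD i.val []
  | .xa i => qwX.getD i.val []

theorem qw_fix : ∀ x : QuaternionGroup 2, evalW12 (qw x) 0 = 0 ∧ evalW12 (qw x) 1 = 1 ∧
    evalW12 (qw x) 2 = 2 ∧ evalW12 (qw x) 3 = 3 := by
  decide +kernel

theorem qw_mul : ∀ x y : QuaternionGroup 2,
    evalW12 (qw (x * y)) 4 = evalW12 (qw x) (evalW12 (qw y) 4) := by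
  decide +kernel

theorem qw_inj : ∀ x y : QuaternionGroup 2, evalW12 (qw x) 4 = evalW12 (qw y) 4 → x = y := by
  decide +kernel

theorem qw_lt : ∀ x : QuaternionGroup 2, evalW12 (qw x) 4 < 24 := by
  decide +kernel

theorem qw_mem (x : QuaternionGroup 2) : wordPerm12 (qw x) ∈ M9c := by
  obtain ⟨h0, h1, h2, -⟩ := qw_fix x
  rw [mem_M9c]
  exact ⟨wordPerm12_mem _, wordPerm12_pt (by omega) h0, wordPerm12_pt (by omega) h1,
    wordPerm12_pt (by omega) h2⟩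

/-- an embedding of the quaternion group in `M9c`. -/
noncomputable def q8Hom : QuaternionGroup 2 →* ↥M9c :=
  MonoidHom.mk' (fun x => ⟨wordPerm12 (qw x), qw_mem x⟩) (by
    intro x y
    apply Subtype.ext
    show wordPerm12 (qw (x * y)) = wordPerm12 (qw x) * wordPerm12 (qw y)
    obtain ⟨a0, a1, a2, a3⟩ := qw_fix (x * y)
    obtain ⟨b0, b1, b2, b3⟩ := qw_fix x
    obtain ⟨c0, c1, c2, c3⟩ := qw_fix y
    apply eq_of_base12 (wordPerm12_mem _) (K12.mul_mem (wordPerm12_mem _) (wordPerm12_mem _))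
    intro i hi
    show _ = wordPerm12 (qw x) (wordPerm12 (qw y) (pt i))
    interval_cases i
    · rw [wordPerm12_pt (by omega) a0, wordPerm12_pt (by omega) c0, wordPerm12_pt (by omega) b0]
    · rw [wordPerm12_pt (by omega) a1, wordPerm12_pt (by omega) c1, wordPerm12_pt (by omega) b1]
    · rw [wordPerm12_pt (by omega) a2, wordPerm12_pt (by omega) c2, wordPerm12_pt (by omega) b2]
    · rw [wordPerm12_pt (by omega) a3, wordPerm12_pt (by omega) c3, wordPerm12_pt (by omega) b3]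
    · rw [wordPerm12_pt (by omega) (qw_mul x y), wordPerm12_pt (by omega) rfl,
        wordPerm12_pt (qw_lt y) rfl])

theorem q8Hom_injective : Function.Injective q8Hom := by
  intro x y h
  have h1 : wordPerm12 (qw x) = wordPerm12 (qw y) := congrArg Subtype.val h
  apply qw_inj
  have h2 := evalW12_spec (qw x) (pt 4)
  rw [h1, evalW12_spec, idx_pt (by omega)] at h2
  exact h2.symm

end Cfsg.Agent.Lib.Helper95
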