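import Mathlib

/-!
Pack K-N3 (S4004), leaf C4c `normalizer_zpowers_le` (norm trick 2), parallel hand of helper95.
-/

set_option autoImplicit false

namespace Cfsg.Agent.Lib.Helper95.N3

/-- Abstract norm trick: a finite subgroup `C ∋ c` of `Γ` acting on a commutative group `A`,
`c` fixed point free, `x` normalising `C`, all "norms" of the elements `e * x` trivial:
then `A` has exponent dividing `card C`. -/
theorem norm_trick {A Γ : Type*} [CommGroup A] [Group Γ] (φ : Γ →* MulAut A)
    (C : Subgroup Γ) [Fintype C] (c x : Γ) (hc : c ∈ C) (r : ℕ)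
    (hfpf : ∀ a : A, φ c a = a → a = 1)
    (hnorm : ∀ k : ℕ, ∀ e ∈ C, x ^ k * e * (x ^ k)⁻¹ ∈ C)
    (hinj : ∀ i, 0 < i → i < r → ∀ e ∈ C, ∀ e' ∈ C, (e * x) ^ i = (e' * x) ^ i → e = e')
    (hN : ∀ e ∈ C, ∀ a : A, ∏ i ∈ Finset.range r, φ ((e * x) ^ i) a = 1)
    (hr : 0 < r) (a : A) : a ^ Fintype.card C = 1 := by
  classical
  have hT : ∀ b : A, ∏ e : C, φ (e : Γ) b = 1 := by
    intro b
    apply hfpf
    rw [map_prod]
    have h1 : ∀ e : C, φ c (φ (e : Γ) b) = φ (((⟨c, hc⟩ : C) * e : C) : Γ) b := by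
      intro e
      rw [Subgroup.coe_mul, map_mul, MulAut.mul_apply]
    simp_rw [h1]
    exact Fintype.prod_equiv (Equiv.mulLeft (⟨c, hc⟩ : C)) _ _ (fun e => rfl)
  have hmem : ∀ i : ℕ, ∀ e ∈ C, (e * x) ^ i * (x ^ i)⁻¹ ∈ C := by
    intro i
    induction i with
    | zero => intro e _; simp
    | succ i ih =>
      intro e he
      have h1 := ih e he
      have h2 := hnorm i e he
      have h3 : (e * x) ^ (i + 1) * (x ^ (i + 1))⁻¹
          = ((e * x) ^ i * (x ^ i)⁻¹) * (x ^ i * e * (x ^ i)⁻¹) := by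
        rw [pow_succ, pow_succ]; group
      rw [h3]; exact C.mul_mem h1 h2
  have h2 : ∀ i, 0 < i → i < r → ∏ e : C, φ (((e : Γ) * x) ^ i) a = 1 := by
    intro i hi hir
    let g : C → C := fun e => ⟨((e : Γ) * x) ^ i * (x ^ i)⁻¹, hmem i e e.2⟩
    have hg : Function.Injective g := by
      intro e e' h
      have h' : ((e : Γ) * x) ^ i * (x ^ i)⁻¹ = ((e' : Γ) * x) ^ i * (x ^ i)⁻¹ :=
        congrArg Subtype.val h
      have h'' := mul_right_cancel h'
      exact Subtype.ext (hinj i hi hir e e.2 e' e'.2 h'')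
    have hgb : Function.Bijective g := Finite.injective_iff_bijective.mp hg
    have h4 : ∀ e : C, φ (((e : Γ) * x) ^ i) a = φ ((g e : C) : Γ) (φ (x ^ i) a) := by
      intro e
      show _ = φ (((e : Γ) * x) ^ i * (x ^ i)⁻¹) (φ (x ^ i) a)
      rw [← MulAut.mul_apply, ← map_mul, inv_mul_cancel_right]
    simp_rw [h4]
    rw [Function.Bijective.prod_comp hgb (fun e => φ (e : Γ) (φ (x ^ i) a))]
    exact hT _
  have h3 : ∏ e : C, ∏ i ∈ Finset.range r, φ (((e : Γ) * x) ^ i) a = 1 :=
    Finset.prod_eq_one (fun e _ => hN e e.2 a)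
  rw [Finset.prod_comm] at h3
  obtain ⟨k, rfl⟩ : ∃ k, r = k + 1 := Nat.exists_eq_succ_of_ne_zero hr.ne'
  rw [Finset.prod_range_succ'] at h3
  have h5 : ∏ i ∈ Finset.range k, ∏ e : C, φ (((e : Γ) * x) ^ (i + 1)) a = 1 :=
    Finset.prod_eq_one (fun i hi => h2 (i + 1) (Nat.succ_pos i)
      (by have := Finset.mem_range.mp hi; omega))
  rw [h5, one_mul] at h3
  simpa using h3

/-- if `a ^ i = b ^ i` for two elements of the same prime order `r` and `0 < i < r` then `a = b`. -/
theorem eq_of_pow_eq_of_prime_order {Γ : Type*} [Group Γ] {r : ℕ} (hr : r.Prime) {a b : Γ}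
    (ha : orderOf a = r) (hb : orderOf b = r) {i : ℕ} (hi : 0 < i) (hir : i < r)
    (h : a ^ i = b ^ i) : a = b := by
  have hcop : Nat.Coprime i r := by
    rw [Nat.coprime_comm, Nat.Prime.coprime_iff_not_dvd hr]
    intro hd
    exact absurd (Nat.le_of_dvd hi hd) (by omega)
  obtain ⟨m, -, hm⟩ := Nat.exists_mul_mod_eq_one_of_coprime hcop hr.one_lt
  have h1 : ∀ z : Γ, orderOf z = r → (z ^ i) ^ m = z := by
    intro z hz
    rw [← pow_mul, ← pow_mod_orderOf, hz, hm, pow_one]
  rw [← h1 a ha, ← h1 b hb, h]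

theorem normalizer_zpowers_le {G : Type*} [Group G] [Finite G] (r r' : ℕ) (hr : r.Prime) [Fact r'.Prime] (hrr : r ≠ r')
    (hord : ∀ g : G, orderOf g = 1 ∨ orderOf g = r ∨ orderOf g = r')
    (V : Subgroup G) (hVn : V.Normal) (hV : V ≠ ⊥) (hVr : IsPGroup r V) (hVc : ∀ a ∈ V, ∀ b ∈ V, a * b = b * a)
    (hQ : ∀ Q : Sylow r' G, Nat.card Q = r') (c : G) (hc : orderOf c = r') :
    Subgroup.normalizer ((Subgroup.zpowers c : Subgroup G) : Set G) ≤ Subgroup.zpowers c := by
  classical
  have hr'p : r'.Prime := Fact.out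
  have instr : Fact r.Prime := ⟨hr⟩
  have h2r := hr.two_le
  have h2r' := hr'p.two_le
  intro x hx
  by_contra hxC
  have hCcard : Nat.card (Subgroup.zpowers c) = r' := by rw [Nat.card_zpowers, hc]
  -- no element of order r' * r
  have hnot : ∀ g : G, orderOf g ≠ r' * r := by
    intro g hg
    rcases hord g with h | h | h <;> rw [hg] at h <;> nlinarith
  -- elements of V have order 1 or r
  have hVord : ∀ w ∈ V, orderOf w = 1 ∨ orderOf w = r := by
    intro w hw
    rcases hord w with h | h | h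
    · exact Or.inl h
    · exact Or.inr h
    · exfalso
      obtain ⟨k, hk⟩ := (IsPGroup.iff_orderOf.mp hVr) ⟨w, hw⟩
      rw [Subgroup.orderOf_mk, h] at hk
      have hk0 : k ≠ 0 := by
        rintro rfl
        rw [pow_zero] at hk; omega
      have : r ∣ r' := by rw [hk]; exact dvd_pow_self r hk0
      exact hrr ((Nat.prime_dvd_prime_iff_eq hr hr'p).mp this)
  -- S1
  have hS1 : ∀ y ∈ Subgroup.normalizer ((Subgroup.zpowers c : Subgroup G) : Set G),
      y ∉ Subgroup.zpowers c → orderOf y = r := by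
    intro y hy hyC
    rcases hord y with h | h | h
    · exfalso; apply hyC; rw [orderOf_eq_one_iff] at h; rw [h]; exact Subgroup.one_mem _
    · exact h
    · exfalso
      have hCp : IsPGroup r' (Subgroup.zpowers c) :=
        IsPGroup.of_card (n := 1) (by rw [hCcard, pow_one])
      have hYp : IsPGroup r' (Subgroup.zpowers y) :=
        IsPGroup.of_card (n := 1) (by rw [Nat.card_zpowers, h, pow_one])
      have hle : Subgroup.zpowers y ≤ Subgroup.normalizer ((Subgroup.zpowers c : Subgroup G) : Set G) := by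
        rw [Subgroup.zpowers_le]; exact hy
      have hsup : IsPGroup r' (Subgroup.zpowers y ⊔ Subgroup.zpowers c : Subgroup G) :=
        IsPGroup.to_sup_of_normal_right' hYp hCp hle
      obtain ⟨Q, hQle⟩ := hsup.exists_le_sylow
      have hCQ : Subgroup.zpowers c ≤ Q := le_trans le_sup_right hQle
      have hCeq : Subgroup.zpowers c = Q := by
        apply Subgroup.eq_of_le_of_card_ge hCQ
        rw [hCcard]; exact le_of_eq (hQ Q)
      apply hyC
      rw [hCeq]
      exact hQle (Subgroup.mem_sup_left (Subgroup.mem_zpowers y))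
  -- S2
  have hS2 : ∀ e ∈ Subgroup.zpowers c, orderOf (e * x) = r := by
    intro e he
    apply hS1
    · exact Subgroup.mul_mem _ (Subgroup.le_normalizer he) hx
    · intro h
      apply hxC
      have := Subgroup.mul_mem _ (Subgroup.inv_mem _ he) h
      simpa using this
  -- fpf
  have hfpf : ∀ v ∈ V, c * v * c⁻¹ = v → v = 1 := by
    intro v hv hcv
    by_contra hv1
    have hov : orderOf v = r := by
      rcases hVord v hv with h | h
      · exact absurd (orderOf_eq_one_iff.mp h) hv1
      · exact h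
    have hcomm : Commute c v := by
      show c * v = v * c
      calc c * v = c * v * c⁻¹ * c := by group
        _ = v * c := by rw [hcv]
    have hcop : Nat.Coprime (orderOf c) (orderOf v) := by
      rw [hc, hov]
      exact (Nat.coprime_primes hr'p hr).mpr (Ne.symm hrr)
    have := hcomm.orderOf_mul_eq_mul_orderOf_of_coprime hcop
    rw [hc, hov] at this
    exact hnot _ this
  -- the action
  let instV : CommGroup ↥V :=
    { (inferInstance : Group ↥V) with mul_comm := fun a b => Subtype.ext (hVc a a.2 b b.2) }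
  have instVn := hVn
  let φ : G →* MulAut ↥V := MulAut.conjNormal
  have hφ : ∀ (g : G) (v : ↥V), ((φ g v : ↥V) : G) = g * v * g⁻¹ := fun g v => rfl
  -- power identity
  have hpow : ∀ (v : ↥V) (y : G) (n : ℕ),
      ((v : G) * y) ^ n = ((∏ i ∈ Finset.range n, φ (y ^ i) v : ↥V) : G) * y ^ n := by
    intro v y n
    induction n with
    | zero => simp
    | succ n ih =>
      rw [pow_succ, ih, Finset.prod_range_succ, Subgroup.coe_mul, hφ, pow_succ]
      group
  -- norms are trivial
  have hN : ∀ e ∈ Subgroup.zpowers c, ∀ v : ↥V,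
      ∏ i ∈ Finset.range r, φ ((e * x) ^ i) v = 1 := by
    intro e he v
    have hy := hS2 e he
    have hz := hpow v (e * x) r
    rw [← hy, pow_orderOf_eq_one, mul_one, hy] at hz
    -- hz : (v * (e*x))^r = ↑P
    have hzr : ((v : G) * (e * x)) ^ r = 1 := by
      rcases hord ((v : G) * (e * x)) with h | h | h
      · rw [orderOf_eq_one_iff.mp h, one_pow]
      · rw [← h, pow_orderOf_eq_one]
      · exfalso
        have hcop : Nat.Coprime (orderOf ((v : G) * (e * x))) r := by
          rw [h]; exact (Nat.coprime_primes hr'p hr).mpr (Ne.symm hrr)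
        have ho := hcop.orderOf_pow
        rw [h, hz] at ho
        rcases hVord _ (Subtype.prop _) with h' | h' <;> rw [ho] at h'
        · omega
        · exact hrr h'.symm
    rw [hzr] at hz
    exact Subtype.ext hz.symm
  have hinj : ∀ i, 0 < i → i < r → ∀ e ∈ Subgroup.zpowers c, ∀ e' ∈ Subgroup.zpowers c,
      (e * x) ^ i = (e' * x) ^ i → e = e' := by
    intro i hi hir e he e' he' h
    have := eq_of_pow_eq_of_prime_order hr (hS2 e he) (hS2 e' he') hi hir h
    exact mul_right_cancel this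
  have hnorm : ∀ k : ℕ, ∀ e ∈ Subgroup.zpowers c, x ^ k * e * (x ^ k)⁻¹ ∈ Subgroup.zpowers c := by
    intro k e he
    have hxk := Subgroup.pow_mem _ hx k
    exact (Subgroup.mem_normalizer_iff.mp hxk e).mp he
  have instFC : Fintype ↥(Subgroup.zpowers c) := Fintype.ofFinite _
  have hfpf' : ∀ a : ↥V, φ c a = a → a = 1 := by
    intro a ha
    have := hfpf a a.2 (by rw [← hφ, ha])
    exact Subtype.ext this
  have key := norm_trick φ (Subgroup.zpowers c) c x (Subgroup.mem_zpowers c) r hfpf' hnorm hinj hN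
    hr.pos
  rw [← Nat.card_eq_fintype_card, hCcard] at key
  apply hV
  rw [Subgroup.eq_bot_iff_forall]
  intro v hv
  have h1 := key ⟨v, hv⟩
  have h2 : v ^ r' = 1 := by
    have := congrArg Subtype.val h1
    simpa using this
  rcases hVord v hv with h | h
  · exact orderOf_eq_one_iff.mp h
  · exfalso
    have : r ∣ r' := by rw [← h]; exact orderOf_dvd_of_pow_eq_one h2
    exact hrr ((Nat.prime_dvd_prime_iff_eq hr hr'p).mp this)

end Cfsg.Agent.Lib.Helper95.N3
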