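import Mathlib
import Cfsg.Agent.Lib.Helper95.TransvectionGen

set_option autoImplicit false
set_option linter.unusedSectionVars false

namespace Cfsg.Agent.Lib.Helper95

open scoped MatrixGroups Matrix

variable {ι : Type} [Fintype ι] [DecidableEq ι] {F : Type*} [Field F]

lemma tvGL_congr_right (φ v v' : ι → F) (h : φ ⬝ᵥ v = 0) (hv : v = v') (h' : φ ⬝ᵥ v' = 0) :
    tvGL φ v h = tvGL φ v' h' := by
  subst hv
  rfl

/-- An element fixing `W` pointwise stabilises `W`. -/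
lemma mem_stabilizer_of_fix (W : Submodule F (ι → F)) (g : GL ι F)
    (hfix : ∀ x ∈ W, (g : Matrix ι ι F) *ᵥ x = x) : g ∈ Cfsg.Geo.subspaceStabilizer W := by
  rw [mem_subspaceStabilizer_iff]
  intro x
  constructor
  · intro hx
    rw [hfix x hx]; exact hx
  · intro hx
    have := hfix _ hx
    have := GL_mulVec_inj g this
    rw [← this]; exact hx

/-- A subgroup `M` of SL containing the stabiliser `P` of a proper non-zero subspace `W` in SL,
and containing an element that moves `W`, contains every transvection. -/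
lemma all_tvGL_mem_of_parabolic_lt (W : Submodule F (ι → F))
    (M : Subgroup (GL ι F))
    (hPM : Cfsg.Geo.subspaceStabilizer W ⊓ Cfsg.Geo.specialLinear ι F ≤ M)
    (g : GL ι F) (hgM : g ∈ M) (hgW : g ∉ Cfsg.Geo.subspaceStabilizer W) :
    ∀ (φ v : ι → F) (h : φ ⬝ᵥ v = 0), tvGL φ v h ∈ M := by
  -- transvections in P
  have hP1 : ∀ (φ v : ι → F) (h : φ ⬝ᵥ v = 0), v ∈ W → tvGL φ v h ∈ M := fun φ v h hv =>
    hPM ⟨tvGL_mem_stabilizer_of_mem W φ v h hv, tvGL_mem_specialLinear φ v h⟩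
  have hP2 : ∀ (φ v : ι → F) (h : φ ⬝ᵥ v = 0), (∀ x ∈ W, φ ⬝ᵥ x = 0) → tvGL φ v h ∈ M :=
    fun φ v h hW =>
      hPM ⟨tvGL_mem_stabilizer_of_ker W φ v h hW, tvGL_mem_specialLinear φ v h⟩
  -- find g' ∈ M and w ∈ W with g' w ∉ W
  obtain ⟨g', hg'M, w, hwW, hgw⟩ : ∃ g' ∈ M, ∃ w ∈ W, (g' : Matrix ι ι F) *ᵥ w ∉ W := by
    rw [mem_subspaceStabilizer_iff] at hgW
    push Not at hgW
    obtain ⟨x, hx⟩ := hgW
    rcases hx with ⟨hx1, hx2⟩ | ⟨hx1, hx2⟩
    · exact ⟨g, hgM, x, hx1, hx2⟩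
    · refine ⟨g⁻¹, M.inv_mem hgM, (g : Matrix ι ι F) *ᵥ x, hx2, ?_⟩
      rw [GL_inv_mulVec_mulVec]
      exact hx1
  set v₀ := (g' : Matrix ι ι F) *ᵥ w with hv₀
  -- B1
  have hB1 : ∀ (ψ : ι → F) (h : ψ ⬝ᵥ v₀ = 0), tvGL ψ v₀ h ∈ M := by
    intro ψ h
    have h0 : (ψ ᵥ* (g' : Matrix ι ι F)) ⬝ᵥ w = 0 := by
      rw [← Matrix.dotProduct_mulVec]; exact h
    exact tvGL_mem_of_conj M g' hg'M ψ w h h0 (hP1 _ _ h0 hwW)
  -- B2
  have hB2 : ∀ (μ : F) (ψ : ι → F) (h : ψ ⬝ᵥ (μ • v₀) = 0), tvGL ψ (μ • v₀) h ∈ M := by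
    intro μ ψ h
    have h' : (μ • ψ) ⬝ᵥ v₀ = 0 := by
      rw [smul_dotProduct]; rw [dotProduct_smul] at h; exact h
    rw [tvGL_smul_right ψ v₀ μ h h']
    exact hB1 _ h'
  -- B3
  have hB3 : ∀ v : ι → F, v ∉ W → ∃ p ∈ M, ∃ μ : F, (p : Matrix ι ι F) *ᵥ (μ • v₀) = v := by
    intro v hvW
    by_cases hcase : v₀ ∉ W ⊔ Submodule.span F {v - v₀}
    · obtain ⟨φ, h, hS, hmove⟩ := exists_tv_move W v₀ v hcase
      exact ⟨tvGL φ (v - v₀) h, hP2 _ _ h hS, 1, by rw [one_smul]; exact hmove⟩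
    · push Not at hcase
      obtain ⟨s, hs, y, hy, hsy⟩ := Submodule.mem_sup.mp hcase
      obtain ⟨l, rfl⟩ := Submodule.mem_span_singleton.mp hy
      have hl : l ≠ 0 := by
        rintro rfl
        rw [zero_smul, add_zero] at hsy
        exact hgw (hsy ▸ hs)
      have h2 : l • v = (1 + l) • v₀ - s := by
        linear_combination (norm := module) hsy
      set μ : F := l⁻¹ * (1 + l) with hμ
      set w' : ι → F := (-l⁻¹) • s with hw'
      have hw'W : w' ∈ W := W.smul_mem _ hs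
      have hv : v = μ • v₀ + w' := by
        have : v = l⁻¹ • (l • v) := by rw [smul_smul, inv_mul_cancel₀ hl, one_smul]
        rw [this, h2, hμ, hw', smul_sub, smul_smul, neg_smul]
        abel
      have hμv₀ : μ • v₀ ∉ Submodule.span F {w'} := by
        intro hmem
        have h3 : μ • v₀ ∈ W :=
          (Submodule.span_singleton_le_iff_mem w' W).mpr hw'W hmem
        apply hvW
        rw [hv]
        exact W.add_mem h3 hw'W
      obtain ⟨φ, hφS, hφ1⟩ := exists_dotProduct_separating _ _ hμv₀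
      have hφw' : φ ⬝ᵥ w' = 0 := hφS w' (Submodule.mem_span_singleton_self w')
      refine ⟨tvGL φ w' hφw', hP1 _ _ hφw' hw'W, μ, ?_⟩
      rw [tvGL_apply, hφ1, one_smul, hv]
  -- B4
  intro ψ v h
  by_cases hvW : v ∈ W
  · exact hP1 ψ v h hvW
  · obtain ⟨p, hpM, μ, hpv⟩ := hB3 v hvW
    have h1 : ψ ⬝ᵥ ((p : Matrix ι ι F) *ᵥ (μ • v₀)) = 0 := by rw [hpv]; exact h
    have h0 : (ψ ᵥ* (p : Matrix ι ι F)) ⬝ᵥ (μ • v₀) = 0 := by
      rw [← Matrix.dotProduct_mulVec]; exact h1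
    have := tvGL_mem_of_conj M p hpM ψ (μ • v₀) h1 h0 (hB2 μ _ h0)
    rw [tvGL_congr_right ψ _ v h1 hpv h] at this
    exact this

/-- The stabiliser in SL of a proper non-zero subspace is a maximal subgroup of SL. -/
theorem parabolic_isMaximalIn (W : Submodule F (ι → F)) (hW0 : W ≠ ⊥) (hW1 : W ≠ ⊤) :
    Cfsg.Geo.IsMaximalIn (Cfsg.Geo.specialLinear ι F)
      (Cfsg.Geo.subspaceStabilizer W ⊓ Cfsg.Geo.specialLinear ι F) := by
  refine ⟨?_, ?_⟩
  · rw [SetLike.lt_iff_le_and_exists]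
    refine ⟨inf_le_right, ?_⟩
    obtain ⟨g, hgSL, hgW⟩ := exists_specialLinear_not_stabilizing W hW0 hW1
    exact ⟨g, hgSL, fun h => hgW h.1⟩
  · intro M hPM hMSL
    by_cases hMP : M = Cfsg.Geo.subspaceStabilizer W ⊓ Cfsg.Geo.specialLinear ι F
    · left; exact hMP
    · right
      obtain ⟨g, hgM, hgP⟩ := SetLike.exists_of_lt (lt_of_le_of_ne hPM (Ne.symm hMP))
      have hgW : g ∉ Cfsg.Geo.subspaceStabilizer W := fun h => hgP ⟨h, hMSL hgM⟩
      have hM := all_tvGL_mem_of_parabolic_lt W M hPM g hgM hgW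
      apply le_antisymm hMSL
      intro x hx
      obtain ⟨t, htM, htfix⟩ := exists_mul_fixing M hM W hW1 x
      have h1 : t * x ∈ M :=
        hPM ⟨mem_stabilizer_of_fix W (t * x) htfix,
          (Cfsg.Geo.specialLinear ι F).mul_mem (hMSL htM) hx⟩
      have : x = t⁻¹ * (t * x) := by group
      rw [this]
      exact M.mul_mem (M.inv_mem htM) h1

end Cfsg.Agent.Lib.Helper95
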