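import Mathlib
import Cfsg.Agent.Lib.Helper48.RSpDefs2

/-!
# K-RSp pack (S2281), leaf P3: the base of the induction in characteristic `2`, `n ≥ 3` (helper95)

Symmetric matrices supported on the indices `0, 1, 2` are written in coordinates `sym6 a b c d e f`
(`a E_00 + b B_01 + c E_11 + d B_02 + e B_12 + f E_22`); conjugation by `U` and by `L` is computed once, in every
characteristic, and the rest is bookkeeping in coordinates.
-/

set_option autoImplicit false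
set_option linter.unusedVariables false

namespace Cfsg.Agent.Lib.Helper95.RSp

open Matrix Cfsg.Agent.Lib.Helper48.RSp Cfsg.Agent.Lib.Helper18

variable {m : ℕ} {F : Type*} [Field F]

/-- the basis vector `e_i` of `F^n`, `n = m + 3` -/
def pv (i : Fin (m + 1 + 2)) : Fin (m + 1 + 2) → F := Pi.single i 1

/-- `v wᵀ + w vᵀ` -/
def symV (v w : Fin (m + 1 + 2) → F) : SM (m + 1) F := vecMulVec v w + vecMulVec w v

/-- coordinates on the symmetric matrices supported on `0, 1, 2` -/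
def sym6 (a b c d e f : F) : SM (m + 1) F :=
  a • vecMulVec (pv 0) (pv 0) + b • symV (pv 0) (pv 1) + c • vecMulVec (pv 1) (pv 1) +
    d • symV (pv 0) (pv 2) + e • symV (pv 1) (pv 2) + f • vecMulVec (pv 2) (pv 2)

theorem conj_vecMulVec (A B : SM (m + 1) F) (v w : Fin (m + 1 + 2) → F) :
    A * vecMulVec v w * Bᵀ = vecMulVec (A *ᵥ v) (B *ᵥ w) := by
  rw [mul_vecMulVec, vecMulVec_mul, vecMul_transpose]

theorem conj_symV (A : SM (m + 1) F) (v w : Fin (m + 1 + 2) → F) :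
    A * symV v w * Aᵀ = symV (A *ᵥ v) (A *ᵥ w) := by
  unfold symV
  rw [mul_add, add_mul, conj_vecMulVec, conj_vecMulVec]

theorem U_pv0 : Uup (m + 1) F *ᵥ pv 0 = pv 0 := by
  unfold pv
  rw [mulVec_single_one]
  ext i
  simp only [Matrix.col_apply, Uup, Nup, Matrix.add_apply, Matrix.one_apply, Pi.single_apply]
  have : ¬ (i.val + 1 = (0 : Fin (m + 1 + 2)).val) := by simp
  simp [this]

theorem U_pv1 : Uup (m + 1) F *ᵥ pv 1 = pv 1 + pv 0 := by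
  unfold pv
  rw [mulVec_single_one]
  ext i
  simp only [Matrix.col_apply, Uup, Nup, Matrix.add_apply, Matrix.one_apply, Pi.single_apply, Pi.add_apply]
  have h1 : ((1 : Fin (m + 1 + 2)).val) = 1 := rfl
  rw [h1]
  by_cases hi : i = 0
  · subst hi; simp
  · have : ¬ (i.val + 1 = 1) := by
      intro h; apply hi; apply Fin.ext; simp at h ⊢; omega
    simp [this, hi]

theorem U_pv2 : Uup (m + 1) F *ᵥ pv 2 = pv 2 + pv 1 := by
  unfold pv
  rw [mulVec_single_one]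
  ext i
  simp only [Matrix.col_apply, Uup, Nup, Matrix.add_apply, Matrix.one_apply, Pi.single_apply, Pi.add_apply]
  have h2 : ((2 : Fin (m + 1 + 2)).val) = 2 := rfl
  rw [h2]
  by_cases hi : i = 1
  · subst hi
    have h1 : ((1 : Fin (m + 1 + 2)).val) = 1 := rfl
    simp [h1]
  · have : ¬ (i.val + 1 = 2) := by
      intro h; apply hi; apply Fin.ext
      have h1 : ((1 : Fin (m + 1 + 2)).val) = 1 := rfl
      rw [h1]; omega
    simp [this, hi]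

theorem L_pv0 (δ : Fin (m + 1 + 2) → F) : Lbi (m + 1) δ *ᵥ pv 0 = pv 0 + δ 0 • pv 1 := by
  unfold pv
  rw [mulVec_single_one]
  ext i
  simp only [Matrix.col_apply, Lbi, Pi.single_apply, Pi.add_apply, Pi.smul_apply, smul_eq_mul, Fin.ext_iff]
  have h0 : ((0 : Fin (m + 1 + 2)).val) = 0 := rfl
  have h1 : ((1 : Fin (m + 1 + 2)).val) = 1 := rfl
  simp only [h0, h1]
  rcases (by omega : i.val = 0 ∨ i.val = 1 ∨ 2 ≤ i.val) with h | h | h
  · simp [h]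
  · simp [h]
  · have a : ¬ i.val = 0 := by omega
    have b : ¬ i.val = 1 := by omega
    have c : ¬ (0 + 1 = i.val) := by omega
    simp [a, b, c]

theorem L_pv1 (δ : Fin (m + 1 + 2) → F) : Lbi (m + 1) δ *ᵥ pv 1 = pv 1 + δ 1 • pv 2 := by
  unfold pv
  rw [mulVec_single_one]
  ext i
  simp only [Matrix.col_apply, Lbi, Pi.single_apply, Pi.add_apply, Pi.smul_apply, smul_eq_mul, Fin.ext_iff]
  have h1 : ((1 : Fin (m + 1 + 2)).val) = 1 := rfl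
  have h2 : ((2 : Fin (m + 1 + 2)).val) = 2 := rfl
  simp only [h1, h2]
  rcases (by omega : i.val = 1 ∨ i.val = 2 ∨ (i.val ≠ 1 ∧ i.val ≠ 2)) with h | h | ⟨ha, hb⟩
  · simp [h]
  · simp [h]
  · have c : ¬ (1 + 1 = i.val) := by omega
    simp [ha, hb, c]

theorem U_conj_sym6 (a b c d e f : F) :
    Uup (m + 1) F * sym6 a b c d e f * (Uup (m + 1) F)ᵀ =
      sym6 (a + 2 * b + c) (b + c + d + e) (c + 2 * e + f) (d + e) (e + f) f := by
  unfold sym6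
  simp only [mul_add, add_mul, Matrix.mul_smul, Matrix.smul_mul, conj_vecMulVec, conj_symV, U_pv0, U_pv1, U_pv2]
  unfold symV
  simp only [add_vecMulVec, vecMulVec_add]
  module

theorem L_conj_sym6 (δ : Fin (m + 1 + 2) → F) (a b c : F) :
    Lbi (m + 1) δ * sym6 a b c 0 0 0 * (Lbi (m + 1) δ)ᵀ =
      sym6 a (b + δ 0 * a) (c + 2 * (δ 0 * b) + δ 0 ^ 2 * a) (δ 1 * b) (δ 1 * c + δ 0 * δ 1 * b) (δ 1 ^ 2 * c) := by
  unfold sym6
  simp only [mul_add, add_mul, Matrix.mul_smul, Matrix.smul_mul, conj_vecMulVec, conj_symV, L_pv0, L_pv1,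
    zero_smul, add_zero]
  unfold symV
  simp only [add_vecMulVec, vecMulVec_add, smul_vecMulVec, vecMulVec_smul]
  module

theorem sym6_add (a b c d e f a' b' c' d' e' f' : F) :
    (sym6 a b c d e f : SM (m + 1) F) + sym6 a' b' c' d' e' f' =
      sym6 (a + a') (b + b') (c + c') (d + d') (e + e') (f + f') := by
  unfold sym6; module

theorem sym6_sub (a b c d e f a' b' c' d' e' f' : F) :
    (sym6 a b c d e f : SM (m + 1) F) - sym6 a' b' c' d' e' f' =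
      sym6 (a - a') (b - b') (c - c') (d - d') (e - e') (f - f') := by
  unfold sym6; module

theorem sym6_zero : (sym6 0 0 0 0 0 0 : SM (m + 1) F) = 0 := by
  unfold sym6; simp

theorem sym6_transpose (a b c d e f : F) :
    (sym6 a b c d e f : SM (m + 1) F)ᵀ = sym6 a b c d e f := by
  unfold sym6 symV
  simp only [transpose_add, transpose_smul, transpose_vecMulVec]
  module

theorem pv_last0 : (pv 0 : Fin (m + 1 + 2) → F) (Fin.last (m + 1 + 1)) = 0 := by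
  unfold pv
  rw [Pi.single_apply, if_neg]
  intro h
  have := congrArg Fin.val h
  simp at this

theorem pv_last1 : (pv 1 : Fin (m + 1 + 2) → F) (Fin.last (m + 1 + 1)) = 0 := by
  unfold pv
  rw [Pi.single_apply, if_neg]
  intro h
  have := congrArg Fin.val h
  have h1 : ((1 : Fin (m + 1 + 2)).val) = 1 := rfl
  rw [h1] at this
  simp at this

theorem sym6_last (a b c : F) (j : Fin (m + 1 + 2)) :
    (sym6 a b c 0 0 0 : SM (m + 1) F) (Fin.last (m + 1 + 1)) j = 0 := by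
  unfold sym6 symV
  simp only [Matrix.add_apply, Matrix.smul_apply, vecMulVec_apply, pv_last0, pv_last1, zero_smul,
    Matrix.zero_apply, zero_mul, mul_zero, smul_zero, add_zero]

theorem E00_eq : E00 (m + 1) F = vecMulVec (pv 0) (pv 0) := by
  ext i j
  unfold E00 pv
  simp only [Matrix.single_apply, vecMulVec_apply, Pi.single_apply]
  by_cases hi : i = 0 <;> by_cases hj : j = 0 <;> simp [hi, hj, eq_comm]

theorem smul_E00 (x : F) : x • E00 (m + 1) F = sym6 x 0 0 0 0 0 := by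
  rw [E00_eq]; unfold sym6; simp

theorem eq_sym6_of_SymLE (S : SM (m + 1) F) (hS : S ∈ SymLE (m + 1) (F := F) 1) :
    S = sym6 (S 0 0) (S 0 1) (S 1 1) 0 0 0 := by
  obtain ⟨hT, hz⟩ := hS
  have h10 : S 1 0 = S 0 1 := congrFun (congrFun hT 0) 1
  have v0 : ((0 : Fin (m + 1 + 2)).val) = 0 := rfl
  have v1 : ((1 : Fin (m + 1 + 2)).val) = 1 := rfl
  ext i j
  unfold sym6 symV pv
  simp only [Matrix.add_apply, Matrix.smul_apply, vecMulVec_apply, Pi.single_apply, zero_smul,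
    Matrix.zero_apply, add_zero, smul_eq_mul]
  rcases (by omega : i.val = 0 ∨ i.val = 1 ∨ 1 < i.val) with hi | hi | hi
  · have hi' : i = 0 := Fin.ext (by rw [hi, v0])
    subst hi'
    rcases (by omega : j.val = 0 ∨ j.val = 1 ∨ 1 < j.val) with hj | hj | hj
    · have hj' : j = 0 := Fin.ext (by rw [hj, v0])
      subst hj'
      simp [Fin.ext_iff, v0, v1]
    · have hj' : j = 1 := Fin.ext (by rw [hj, v1])
      subst hj'
      simp [Fin.ext_iff, v0, v1]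
    · rw [hz 0 j (Or.inr hj)]
      have a : ¬ j = 0 := fun h => by rw [h, v0] at hj; omega
      have b : ¬ j = 1 := fun h => by rw [h, v1] at hj; omega
      simp [a, b]
  · have hi' : i = 1 := Fin.ext (by rw [hi, v1])
    subst hi'
    rcases (by omega : j.val = 0 ∨ j.val = 1 ∨ 1 < j.val) with hj | hj | hj
    · have hj' : j = 0 := Fin.ext (by rw [hj, v0])
      subst hj'
      simp [Fin.ext_iff, v0, v1, h10]
    · have hj' : j = 1 := Fin.ext (by rw [hj, v1])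
      subst hj'
      simp [Fin.ext_iff, v0, v1]
    · rw [hz 1 j (Or.inr hj)]
      have a : ¬ j = 0 := fun h => by rw [h, v0] at hj; omega
      have b : ¬ j = 1 := fun h => by rw [h, v1] at hj; omega
      simp [a, b]
  · rw [hz i j (Or.inl hi)]
    have a : ¬ i = 0 := fun h => by rw [h, v0] at hi; omega
    have b : ¬ i = 1 := fun h => by rw [h, v1] at hi; omega
    simp [a, b]

/-- the step `(U - 1)` in coordinates, characteristic `2` -/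
theorem opU_mem (X : AddSubgroup (SM (m + 1) F))
    (hU : ∀ S ∈ X, Uup (m + 1) F * S * (Uup (m + 1) F)ᵀ ∈ X) (h2 : (2 : F) = 0)
    (a b c d e f : F) (h : sym6 a b c d e f ∈ X) : sym6 c (c + d + e) f e f 0 ∈ X := by
  have e2 : ∀ x : F, 2 * x = 0 := fun x => by rw [h2, zero_mul]
  have h1 := X.sub_mem (hU _ h) h
  rw [U_conj_sym6, sym6_sub] at h1
  have e : (sym6 (a + 2 * b + c - a) (b + c + d + e - b) (c + 2 * e + f - c) (d + e - d) (e + f - e) (f - f) :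
      SM (m + 1) F) = sym6 c (c + d + e) f e f 0 := by
    rw [e2, e2]
    congr 1 <;> ring
  rw [e] at h1
  exact h1

/-- the step `(L - 1)` in coordinates, characteristic `2` -/
theorem opL_mem (X : AddSubgroup (SM (m + 1) F)) (δ : Fin (m + 1 + 2) → F)
    (hL : ∀ S ∈ X, Sᵀ = S → (∀ j, S (Fin.last (m + 1 + 1)) j = 0) →
      Lbi (m + 1) δ * S * (Lbi (m + 1) δ)ᵀ ∈ X) (h2 : (2 : F) = 0)
    (a b c : F) (h : sym6 a b c 0 0 0 ∈ X) :
    sym6 0 (δ 0 * a) (δ 0 ^ 2 * a) (δ 1 * b) (δ 1 * c + δ 0 * δ 1 * b) (δ 1 ^ 2 * c) ∈ X := by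
  have e2 : ∀ x : F, 2 * x = 0 := fun x => by rw [h2, zero_mul]
  have h1 := X.sub_mem (hL _ h (sym6_transpose _ _ _ _ _ _) (sym6_last a b c)) h
  rw [L_conj_sym6, sym6_sub] at h1
  have e : (sym6 (a - a) (b + δ 0 * a - b) (c + 2 * (δ 0 * b) + δ 0 ^ 2 * a - c) (δ 1 * b - 0)
      (δ 1 * c + δ 0 * δ 1 * b - 0) (δ 1 ^ 2 * c - 0) : SM (m + 1) F) =
      sym6 0 (δ 0 * a) (δ 0 ^ 2 * a) (δ 1 * b) (δ 1 * c + δ 0 * δ 1 * b) (δ 1 ^ 2 * c) := by
    rw [e2]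
    congr 1 <;> ring
  rw [e] at h1
  exact h1

theorem sym_base_even_aux (X : AddSubgroup (SM (m + 1) F))
    (δ : Fin (m + 1 + 2) → F) (hδ : ∀ j, δ j ≠ 0)
    (hU : ∀ S ∈ X, Uup (m + 1) F * S * (Uup (m + 1) F)ᵀ ∈ X)
    (hL : ∀ S ∈ X, Sᵀ = S → (∀ j, S (Fin.last (m + 1 + 1)) j = 0) →
      Lbi (m + 1) δ * S * (Lbi (m + 1) δ)ᵀ ∈ X)
    (h2 : (2 : F) = 0) (l : F) (hl0 : l ≠ 0) (hl : l • E00 (m + 1) F ∈ X)
    (hgenM : ∀ x : F, x ≠ 0 → ∃ k : ℕ, x = (δ 0 * δ 1) ^ k)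
    (hgenL : ∀ x : F, x ≠ 0 → ∃ k : ℕ, x = (δ 0 ^ 2) ^ k) :
    SymLE (m + 1) 1 ⊆ (X : Set (SM (m + 1) F)) := by
  have hd0 : δ 0 ≠ 0 := hδ 0
  have hd1 : δ 1 ≠ 0 := hδ 1
  -- the consequences of `λ E_00 ∈ X`
  have stepA : ∀ x : F, sym6 x 0 0 0 0 0 ∈ X →
      sym6 0 (δ 0 * x) (δ 0 ^ 2 * x) 0 0 0 ∈ X ∧ sym6 (δ 0 ^ 2 * x) (δ 0 ^ 2 * x) 0 0 0 0 ∈ X ∧
        sym6 0 (δ 0 * δ 1 * (δ 0 ^ 2 * x)) 0 0 0 0 ∈ X := by
    intro x hx
    have y1 := opL_mem X δ hL h2 x 0 0 hx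
    have y1' : sym6 0 (δ 0 * x) (δ 0 ^ 2 * x) 0 0 0 ∈ X := by
      have e : (sym6 0 (δ 0 * x) (δ 0 ^ 2 * x) (δ 1 * 0) (δ 1 * 0 + δ 0 * δ 1 * 0) (δ 1 ^ 2 * 0) :
          SM (m + 1) F) = sym6 0 (δ 0 * x) (δ 0 ^ 2 * x) 0 0 0 := by congr 1 <;> ring
      rw [e] at y1; exact y1
    have y3 := opU_mem X hU h2 _ _ _ _ _ _ y1'
    have y3' : sym6 (δ 0 ^ 2 * x) (δ 0 ^ 2 * x) 0 0 0 0 ∈ X := by
      have e : (sym6 (δ 0 ^ 2 * x) (δ 0 ^ 2 * x + 0 + 0) 0 0 0 0 : SM (m + 1) F) =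
          sym6 (δ 0 ^ 2 * x) (δ 0 ^ 2 * x) 0 0 0 0 := by congr 1 <;> ring
      rw [e] at y3; exact y3
    have y4 := opL_mem X δ hL h2 _ _ _ y3'
    have y5 := opU_mem X hU h2 _ _ _ _ _ _ y4
    have y6 := opU_mem X hU h2 _ _ _ _ _ _ y5
    refine ⟨y1', y3', ?_⟩
    have e : (sym6 (δ 1 ^ 2 * 0) (δ 1 ^ 2 * 0 + (δ 1 * 0 + δ 0 * δ 1 * (δ 0 ^ 2 * x)) + δ 1 ^ 2 * 0) 0
        (δ 1 ^ 2 * 0) 0 0 : SM (m + 1) F) = sym6 0 (δ 0 * δ 1 * (δ 0 ^ 2 * x)) 0 0 0 0 := by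
      congr 1 <;> ring
    rw [e] at y6; exact y6
  -- `M` is closed under multiplication by `δ_0 δ_1`
  have stepB : ∀ y : F, sym6 0 y 0 0 0 0 ∈ X → sym6 0 (δ 0 * δ 1 * y) 0 0 0 0 ∈ X := by
    intro y hy
    have z1 := opL_mem X δ hL h2 0 y 0 hy
    have z2 := opU_mem X hU h2 _ _ _ _ _ _ z1
    have z3 := opU_mem X hU h2 _ _ _ _ _ _ z2
    have e : (sym6 (δ 1 ^ 2 * 0) (δ 1 ^ 2 * 0 + (δ 1 * 0 + δ 0 * δ 1 * y) + δ 1 ^ 2 * 0) 0
        (δ 1 ^ 2 * 0) 0 0 : SM (m + 1) F) = sym6 0 (δ 0 * δ 1 * y) 0 0 0 0 := by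
      congr 1 <;> ring
    rw [e] at z3; exact z3
  have hl' : sym6 l 0 0 0 0 0 ∈ X := by rw [← smul_E00]; exact hl
  -- `M = F`
  set μ0 : F := δ 0 * δ 1 * (δ 0 ^ 2 * l) with hμ0
  have hμ0ne : μ0 ≠ 0 := by
    rw [hμ0]; exact mul_ne_zero (mul_ne_zero hd0 hd1) (mul_ne_zero (pow_ne_zero 2 hd0) hl0)
  have hMpow : ∀ k : ℕ, sym6 0 ((δ 0 * δ 1) ^ k * μ0) 0 0 0 0 ∈ X := by
    intro k
    induction k with
    | zero => rw [pow_zero, one_mul]; exact (stepA l hl').2.2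
    | succ k ih =>
      have := stepB _ ih
      rw [pow_succ]
      have e : (δ 0 * δ 1) ^ k * (δ 0 * δ 1) * μ0 = δ 0 * δ 1 * ((δ 0 * δ 1) ^ k * μ0) := by ring
      rw [e]; exact this
  have hM : ∀ y : F, sym6 0 y 0 0 0 0 ∈ X := by
    intro y
    by_cases hy : y = 0
    · subst hy; rw [sym6_zero]; exact X.zero_mem
    · obtain ⟨k, hk⟩ := hgenM (y / μ0) (div_ne_zero hy hμ0ne)
      have : y = (δ 0 * δ 1) ^ k * μ0 := by rw [← hk]; field_simp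
      rw [this]; exact hMpow k
  -- `Λ = F`
  have stepC : ∀ x : F, sym6 x 0 0 0 0 0 ∈ X → sym6 (δ 0 ^ 2 * x) 0 0 0 0 0 ∈ X := by
    intro x hx
    have h1 := X.sub_mem (stepA x hx).2.1 (hM (δ 0 ^ 2 * x))
    rw [sym6_sub] at h1
    have e : (sym6 (δ 0 ^ 2 * x - 0) (δ 0 ^ 2 * x - δ 0 ^ 2 * x) (0 - 0) (0 - 0) (0 - 0) (0 - 0) :
        SM (m + 1) F) = sym6 (δ 0 ^ 2 * x) 0 0 0 0 0 := by congr 1 <;> ring
    rw [e] at h1; exact h1
  have hLpow : ∀ k : ℕ, sym6 ((δ 0 ^ 2) ^ k * l) 0 0 0 0 0 ∈ X := by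
    intro k
    induction k with
    | zero => rw [pow_zero, one_mul]; exact hl'
    | succ k ih =>
      have := stepC _ ih
      rw [pow_succ]
      have e : (δ 0 ^ 2) ^ k * δ 0 ^ 2 * l = δ 0 ^ 2 * ((δ 0 ^ 2) ^ k * l) := by ring
      rw [e]; exact this
  have hΛ : ∀ x : F, sym6 x 0 0 0 0 0 ∈ X := by
    intro x
    by_cases hx : x = 0
    · subst hx; rw [sym6_zero]; exact X.zero_mem
    · obtain ⟨k, hk⟩ := hgenL (x / l) (div_ne_zero hx hl0)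
      have : x = (δ 0 ^ 2) ^ k * l := by rw [← hk]; field_simp
      rw [this]; exact hLpow k
  -- `E_11`
  have hE : ∀ z : F, sym6 0 0 z 0 0 0 ∈ X := by
    intro z
    have hx := hΛ (z / δ 0 ^ 2)
    have h1 := X.sub_mem (stepA _ hx).1 (hM (δ 0 * (z / δ 0 ^ 2)))
    rw [sym6_sub] at h1
    have e : (sym6 (0 - 0) (δ 0 * (z / δ 0 ^ 2) - δ 0 * (z / δ 0 ^ 2)) (δ 0 ^ 2 * (z / δ 0 ^ 2) - 0)
        (0 - 0) (0 - 0) (0 - 0) : SM (m + 1) F) = sym6 0 0 z 0 0 0 := by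
      congr 1 <;> first | ring1 | (rw [sub_zero, mul_div_cancel₀ _ (pow_ne_zero 2 hd0)])
    rw [e] at h1; exact h1
  -- conclusion
  intro S hS
  rw [eq_sym6_of_SymLE S hS]
  have h1 := X.add_mem (X.add_mem (hΛ (S 0 0)) (hM (S 0 1))) (hE (S 1 1))
  rw [sym6_add, sym6_add] at h1
  have e : (sym6 (S 0 0 + 0 + 0) (0 + S 0 1 + 0) (0 + 0 + S 1 1) (0 + 0 + 0) (0 + 0 + 0) (0 + 0 + 0) :
      SM (m + 1) F) = sym6 (S 0 0) (S 0 1) (S 1 1) 0 0 0 := by congr 1 <;> ring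
  rw [e] at h1; exact h1

/-- K-RSp-P3 -/
theorem sym_base_even {m : ℕ} (hm : 1 ≤ m) {F : Type*} [Field F] (X : AddSubgroup (SM m F))
    (δ : Fin (m + 2) → F) (hδ : ∀ j, δ j ≠ 0)
    (hU : ∀ S ∈ X, Uup m F * S * (Uup m F)ᵀ ∈ X)
    (hL : ∀ S ∈ X, Sᵀ = S → (∀ j, S (Fin.last (m + 1)) j = 0) → Lbi m δ * S * (Lbi m δ)ᵀ ∈ X)
    (h2 : (2 : F) = 0) (l : F) (hl0 : l ≠ 0) (hl : l • E00 m F ∈ X)
    (hgenM : ∀ x : F, x ≠ 0 → ∃ k : ℕ, x = (δ 0 * δ 1) ^ k)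
    (hgenL : ∀ x : F, x ≠ 0 → ∃ k : ℕ, x = (δ 0 ^ 2) ^ k) :
    SymLE m 1 ⊆ (X : Set (SM m F)) := by
  obtain ⟨m', rfl⟩ : ∃ m', m = m' + 1 := ⟨m - 1, by omega⟩
  exact sym_base_even_aux X δ hδ hU hL h2 l hl0 hl hgenM hgenL

end Cfsg.Agent.Lib.Helper95.RSp
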