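import Mathlib
import Cfsg.Agent.Lib.Helper14.SchurTwoD

/-!
K-S2037-H: the index hypothesis `hKD` of the core theorem, for degrees 7 and 8.
-/

set_option autoImplicit false

namespace Cfsg.Agent.Lib.Helper95.SchurTwo

open Cfsg.Agent.Lib.Helper14.SchurTwo

/-- instance of `hKD` for degree 7: immediate from K-D with `F = ⊤`. -/
theorem hKD_of_alt_seven {A E : Type*} [Group A] [Group E] [Finite E]
    (eA : A ≃* alternatingGroup (Fin 7)) (π : E →* A) (hπ : Function.Surjective π)
    (S : Subgroup E) (hS : π.ker ≤ S) (c : A)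
    (h : ∀ F : Subgroup E, (∀ x : E, π x = c → x ∈ F) →
      S.relIndex F ≤ 16 ∧ S.relIndex F % 5 = 1) : S = ⊤ := by
  have h1 := h ⊤ (fun _ _ => Subgroup.mem_top _)
  rw [Subgroup.relIndex_top_right] at h1
  exact eq_top_of_index_alt_seven π.ker
    ((QuotientGroup.quotientKerEquivOfSurjective π hπ).trans eA) S hS h1.1 h1.2

/-- instance of `hKD` for degree 8, through a point stabiliser of index 8. -/
theorem hKD_of_alt_eight {A E : Type*} [Group A] [Group E] [Finite E]
    (A₇ : Subgroup A) (e₇ : ↥A₇ ≃* alternatingGroup (Fin 7)) (h8 : A₇.index = 8)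
    (π : E →* A) (hπ : Function.Surjective π)
    (S : Subgroup E) (hS : π.ker ≤ S) (c : A) (hc : c ∈ A₇)
    (h : ∀ F : Subgroup E, (∀ x : E, π x = c → x ∈ F) →
      S.relIndex F ≤ 16 ∧ S.relIndex F % 5 = 1) : S = ⊤ := by
  classical
  -- the preimage of the point stabiliser
  let F : Subgroup E := A₇.comap π
  have hcF : ∀ x : E, π x = c → x ∈ F := fun x hx => by
    show π x ∈ A₇
    rw [hx]; exact hc
  have hF := h F hcF
  -- the restriction of `π` to `F`
  let π' : ↥F →* ↥A₇ := (π.comp F.subtype).codRestrict A₇ (fun x => x.2)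
  have hπ' : Function.Surjective π' := by
    rintro ⟨a, ha⟩
    obtain ⟨x, rfl⟩ := hπ a
    exact ⟨⟨x, ha⟩, rfl⟩
  have hker' : π'.ker = π.ker.subgroupOf F := by
    ext x
    rw [MonoidHom.mem_ker, Subgroup.mem_subgroupOf, MonoidHom.mem_ker]
    constructor
    · intro hx
      exact congrArg Subtype.val hx
    · intro hx
      exact Subtype.ext hx
  have hS' : π'.ker ≤ S.subgroupOf F := by
    rw [hker']
    intro x hx
    exact hS hx
  have hidx' : (S.subgroupOf F).index = S.relIndex F := rfl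
  have htop : S.subgroupOf F = ⊤ :=
    eq_top_of_index_alt_seven π'.ker
      ((QuotientGroup.quotientKerEquivOfSurjective π' hπ').trans e₇) (S.subgroupOf F) hS'
      (by rw [hidx']; exact hF.1) (by rw [hidx']; exact hF.2)
  have hFS : F ≤ S := Subgroup.subgroupOf_eq_top.mp htop
  have hFidx : F.index = 8 := by
    rw [Subgroup.index_comap_of_surjective A₇ hπ, h8]
  have hdvd : S.index ∣ 8 := hFidx ▸ Subgroup.index_dvd_of_le hFS
  have h1 := h ⊤ (fun _ _ => Subgroup.mem_top _)
  rw [Subgroup.relIndex_top_right] at h1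
  have hle : S.index ≤ 8 := Nat.le_of_dvd (by norm_num) hdvd
  have key : ∀ s : ℕ, s ≤ 8 → s ∣ 8 → s % 5 = 1 → s = 1 := by decide
  have hone : S.index = 1 := key _ hle hdvd h1.2
  exact Subgroup.index_eq_one.mp hone

end Cfsg.Agent.Lib.Helper95.SchurTwo
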