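import Cfsg.Agent.Lib.Helper95.SextetBasic

set_option autoImplicit false

/-! Sextets versus a fixed 3-set `Y`: the number of tetrads meeting `Y`, and counts. -/

namespace Cfsg.Agent.Lib.Helper95

open Cfsg MulAction
open scoped Pointwise
open Cfsg.Agent.Lib.Helper10

/-- The number of `k`-subsets meeting `Y` in exactly `j` points. -/
theorem card_filter_inter {α : Type*} [Fintype α] [DecidableEq α] (Y : Finset α) (k j : ℕ)
    (hj : j ≤ k) :
    ((Finset.powersetCard k (Finset.univ : Finset α)).filter (fun T => (T ∩ Y).card = j)).card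
      = Y.card.choose j * (Fintype.card α - Y.card).choose (k - j) := by
  classical
  have h1 : (Finset.powersetCard j Y ×ˢ Finset.powersetCard (k - j) Yᶜ).card
      = Y.card.choose j * (Fintype.card α - Y.card).choose (k - j) := by
    rw [Finset.card_product, Finset.card_powersetCard, Finset.card_powersetCard, Finset.card_compl]
  rw [← h1]
  apply Finset.card_nbij' (fun T => (T ∩ Y, T \ Y)) (fun AB => AB.1 ∪ AB.2)
  · intro T hT
    rw [Finset.mem_coe, Finset.mem_filter, Finset.mem_powersetCard] at hT
    rw [Finset.mem_coe, Finset.mem_product, Finset.mem_powersetCard, Finset.mem_powersetCard]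
    refine ⟨⟨Finset.inter_subset_right, hT.2⟩, ?_, ?_⟩
    · intro x hx
      rw [Finset.mem_sdiff] at hx
      rw [Finset.mem_compl]
      exact hx.2
    · have := Finset.card_sdiff_add_card_inter T Y
      show (T \ Y).card = k - j
      omega
  · intro AB hAB
    rw [Finset.mem_coe, Finset.mem_product, Finset.mem_powersetCard, Finset.mem_powersetCard] at hAB
    obtain ⟨⟨hA, hAc⟩, hB, hBc⟩ := hAB
    have hdisj : Disjoint AB.1 AB.2 := by
      rw [Finset.disjoint_left]
      intro x hx1 hx2
      have := hB hx2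
      rw [Finset.mem_compl] at this
      exact this (hA hx1)
    have hinter : (AB.1 ∪ AB.2) ∩ Y = AB.1 := by
      ext x
      rw [Finset.mem_inter, Finset.mem_union]
      constructor
      · rintro ⟨h | h, hY⟩
        · exact h
        · have := hB h
          rw [Finset.mem_compl] at this
          exact absurd hY this
      · intro h
        exact ⟨Or.inl h, hA h⟩
    rw [Finset.mem_coe, Finset.mem_filter, Finset.mem_powersetCard]
    refine ⟨⟨Finset.subset_univ _, ?_⟩, ?_⟩
    · rw [Finset.card_union_of_disjoint hdisj, hAc, hBc]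
      omega
    · show ((AB.1 ∪ AB.2) ∩ Y).card = j
      rw [hinter, hAc]
  · intro T _
    show T ∩ Y ∪ T \ Y = T
    ext x
    rw [Finset.mem_union, Finset.mem_inter, Finset.mem_sdiff]
    tauto
  · intro AB hAB
    rw [Finset.mem_coe, Finset.mem_product, Finset.mem_powersetCard, Finset.mem_powersetCard] at hAB
    obtain ⟨⟨hA, hAc⟩, hB, hBc⟩ := hAB
    show ((AB.1 ∪ AB.2) ∩ Y, (AB.1 ∪ AB.2) \ Y) = AB
    apply Prod.ext
    · show (AB.1 ∪ AB.2) ∩ Y = AB.1
      ext x
      rw [Finset.mem_inter, Finset.mem_union]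
      constructor
      · rintro ⟨h | h, hY⟩
        · exact h
        · have := hB h
          rw [Finset.mem_compl] at this
          exact absurd hY this
      · intro h
        exact ⟨Or.inl h, hA h⟩
    · show (AB.1 ∪ AB.2) \ Y = AB.2
      ext x
      rw [Finset.mem_sdiff, Finset.mem_union]
      constructor
      · rintro ⟨h | h, hY⟩
        · exact absurd (hA h) hY
        · exact h
      · intro h
        have := hB h
        rw [Finset.mem_compl] at this
        exact ⟨Or.inr h, this⟩

/-- number of tetrads of `S` meeting `Y` in exactly `j` points. -/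
def tetCount (S : Finset (Finset GolayPt)) (Y : Finset GolayPt) (j : ℕ) : ℕ :=
  (S.filter (fun t => (t ∩ Y).card = j)).card

/-- number of tetrads of `S` meeting `Y`. -/
def meetNum (S : Finset (Finset GolayPt)) (Y : Finset GolayPt) : ℕ :=
  (S.filter fun t => (t ∩ Y).Nonempty).card

theorem sum_inter_card {S : Finset (Finset GolayPt)} (hS : S ∈ Cfsg.sextets) (Y : Finset GolayPt) :
    ∑ t ∈ S, (t ∩ Y).card = Y.card := by
  have hY : Y = S.biUnion (fun t => t ∩ Y) := by
    ext x
    rw [Finset.mem_biUnion]
    constructor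
    · intro hx
      obtain ⟨t, ht, hxt⟩ := sextet_cover hS x
      exact ⟨t, ht, Finset.mem_inter.mpr ⟨hxt, hx⟩⟩
    · rintro ⟨t, -, hx⟩
      exact (Finset.mem_inter.mp hx).2
  have hd : ∀ t ∈ S, ∀ u ∈ S, t ≠ u → Disjoint (t ∩ Y) (u ∩ Y) := by
    intro t ht u hu hne
    exact (sextet_disjoint hS ht hu hne).mono Finset.inter_subset_left Finset.inter_subset_left
  conv_rhs => rw [hY]
  rw [Finset.card_biUnion hd]

theorem tetCount_relations {S : Finset (Finset GolayPt)} (hS : S ∈ Cfsg.sextets)
    (Y : Finset GolayPt) (hY : Y.card = 3) :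
    tetCount S Y 1 + 2 * tetCount S Y 2 + 3 * tetCount S Y 3 = 3 ∧
      meetNum S Y = tetCount S Y 1 + tetCount S Y 2 + tetCount S Y 3 := by
  have hle : ∀ t ∈ S, (t ∩ Y).card ≤ 3 := fun t _ => by
    rw [← hY]; exact Finset.card_le_card Finset.inter_subset_right
  constructor
  · have h1 : ∑ t ∈ S, (t ∩ Y).card = ∑ t ∈ S, ((if (t ∩ Y).card = 1 then 1 else 0) +
        2 * (if (t ∩ Y).card = 2 then 1 else 0) + 3 * (if (t ∩ Y).card = 3 then 1 else 0)) := by
      apply Finset.sum_congr rfl
      intro t ht
      have := hle t ht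
      split_ifs <;> omega
    rw [sum_inter_card hS Y, hY] at h1
    rw [Finset.sum_add_distrib, Finset.sum_add_distrib, ← Finset.mul_sum, ← Finset.mul_sum,
      Finset.sum_boole, Finset.sum_boole, Finset.sum_boole] at h1
    simp only [Nat.cast_id] at h1
    unfold tetCount
    omega
  · have h1 : meetNum S Y = ∑ t ∈ S, (if (t ∩ Y).Nonempty then 1 else 0) := by
      unfold meetNum
      rw [Finset.sum_boole]
      simp
    have h2 : ∑ t ∈ S, (if (t ∩ Y).Nonempty then 1 else 0) = ∑ t ∈ S, ((if (t ∩ Y).card = 1 then 1 else 0) +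
        (if (t ∩ Y).card = 2 then 1 else 0) + (if (t ∩ Y).card = 3 then 1 else 0)) := by
      apply Finset.sum_congr rfl
      intro t ht
      have := hle t ht
      have hne : (t ∩ Y).Nonempty ↔ 0 < (t ∩ Y).card := Finset.card_pos.symm
      by_cases h0 : (t ∩ Y).Nonempty
      · rw [if_pos h0]
        have := hne.mp h0
        split_ifs <;> omega
      · rw [if_neg h0]
        have : (t ∩ Y).card = 0 := by
          rw [Finset.card_eq_zero]
          exact Finset.not_nonempty_iff_eq_empty.mp h0
        split_ifs <;> omega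
    rw [h1, h2, Finset.sum_add_distrib, Finset.sum_add_distrib, Finset.sum_boole, Finset.sum_boole,
      Finset.sum_boole]
    simp only [Nat.cast_id]
    rfl

/-- the finite set of sextets. -/
noncomputable def sextetFinset : Finset (Finset (Finset GolayPt)) :=
  (Set.toFinite Cfsg.sextets).toFinset

theorem mem_sextetFinset (S : Finset (Finset GolayPt)) : S ∈ sextetFinset ↔ S ∈ Cfsg.sextets :=
  Set.Finite.mem_toFinset _

theorem sum_tetCount (Y : Finset GolayPt) (j : ℕ) :
    ∑ S ∈ sextetFinset, tetCount S Y j =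
      ((Finset.powersetCard 4 (Finset.univ : Finset GolayPt)).filter
        (fun T => (T ∩ Y).card = j)).card := by
  classical
  have hunion : sextetFinset.biUnion (fun S => S.filter (fun t => (t ∩ Y).card = j)) =
      (Finset.powersetCard 4 (Finset.univ : Finset GolayPt)).filter (fun T => (T ∩ Y).card = j) := by
    ext t
    rw [Finset.mem_biUnion, Finset.mem_filter, Finset.mem_powersetCard]
    constructor
    · rintro ⟨S, hS, htS⟩
      rw [Finset.mem_filter] at htS
      exact ⟨⟨Finset.subset_univ _, ((mem_sextetFinset S).mp hS).2.1 t htS.1⟩, htS.2⟩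
    · rintro ⟨⟨-, ht⟩, hj⟩
      obtain ⟨S, ⟨hS, htS⟩, -⟩ := sextet_existsUnique t ht
      exact ⟨S, (mem_sextetFinset S).mpr hS, Finset.mem_filter.mpr ⟨htS, hj⟩⟩
  have hdisj : ∀ S ∈ sextetFinset, ∀ S' ∈ sextetFinset, S ≠ S' →
      Disjoint (S.filter (fun t => (t ∩ Y).card = j)) (S'.filter (fun t => (t ∩ Y).card = j)) := by
    intro S hS S' hS' hne
    rw [Finset.disjoint_left]
    intro t htS htS'
    apply hne
    exact sextet_eq_of_mem ((mem_sextetFinset S).mp hS) ((mem_sextetFinset S').mp hS')
      (Finset.mem_filter.mp htS).1 (Finset.mem_filter.mp htS').1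
  rw [← hunion, Finset.card_biUnion hdisj]
  rfl

theorem ncard_meetNum_eq (Y : Finset GolayPt) (k : ℕ) :
    {S : Finset (Finset GolayPt) | S ∈ Cfsg.sextets ∧ meetNum S Y = k}.ncard =
      (sextetFinset.filter (fun S => meetNum S Y = k)).card := by
  rw [← Set.ncard_coe_finset]
  congr 1
  ext S
  rw [Finset.mem_coe, Finset.mem_filter, mem_sextetFinset]
  rfl

theorem card_sextetFinset : sextetFinset.card = 1771 := by
  rw [← sextets_ncard]
  exact (Set.ncard_eq_toFinset_card Cfsg.sextets (Set.toFinite _)).symm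

/-- The counts 21, 630, 1120. -/
theorem meetNum_counts (Y : Finset GolayPt) (hY : Y.card = 3) :
    (sextetFinset.filter (fun S => meetNum S Y = 1)).card = 21 ∧
    (sextetFinset.filter (fun S => meetNum S Y = 2)).card = 630 ∧
    (sextetFinset.filter (fun S => meetNum S Y = 3)).card = 1120 := by
  classical
  have hrel : ∀ S ∈ sextetFinset, tetCount S Y 1 + 2 * tetCount S Y 2 + 3 * tetCount S Y 3 = 3 ∧
      meetNum S Y = tetCount S Y 1 + tetCount S Y 2 + tetCount S Y 3 :=
    fun S hS => tetCount_relations ((mem_sextetFinset S).mp hS) Y hY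
  have h3 : ∑ S ∈ sextetFinset, tetCount S Y 3 = ∑ S ∈ sextetFinset, (if meetNum S Y = 1 then 1 else 0) := by
    apply Finset.sum_congr rfl
    intro S hS
    obtain ⟨e1, e2⟩ := hrel S hS
    split_ifs <;> omega
  have h2 : ∑ S ∈ sextetFinset, tetCount S Y 2 = ∑ S ∈ sextetFinset, (if meetNum S Y = 2 then 1 else 0) := by
    apply Finset.sum_congr rfl
    intro S hS
    obtain ⟨e1, e2⟩ := hrel S hS
    split_ifs <;> omega
  have hall : ∑ S ∈ sextetFinset, 1 = ∑ S ∈ sextetFinset, ((if meetNum S Y = 1 then 1 else 0) +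
      (if meetNum S Y = 2 then 1 else 0) + (if meetNum S Y = 3 then 1 else 0)) := by
    apply Finset.sum_congr rfl
    intro S hS
    obtain ⟨e1, e2⟩ := hrel S hS
    split_ifs <;> omega
  rw [sum_tetCount, card_filter_inter Y 4 3 (by omega), hY, golayPt_card, Finset.sum_boole] at h3
  rw [sum_tetCount, card_filter_inter Y 4 2 (by omega), hY, golayPt_card, Finset.sum_boole] at h2
  rw [Finset.sum_add_distrib, Finset.sum_add_distrib, Finset.sum_boole, Finset.sum_boole,
    Finset.sum_boole, Finset.sum_const, card_sextetFinset] at hall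
  simp only [Nat.cast_id, smul_eq_mul, mul_one] at h2 h3 hall
  have c1 : Nat.choose 3 3 * Nat.choose (24 - 3) (4 - 3) = 21 := by decide
  have c2 : Nat.choose 3 2 * Nat.choose (24 - 3) (4 - 2) = 630 := by decide
  rw [c1] at h3
  rw [c2] at h2
  refine ⟨h3.symm, h2.symm, ?_⟩
  omega

end Cfsg.Agent.Lib.Helper95
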