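import Cfsg.Agent.Lib.Helper95.SextetTriple

set_option autoImplicit false

/-! Sextets with the same number of tetrads meeting a 3-set `Y` are conjugate under the
stabiliser of `Y` in the group of the code. -/

namespace Cfsg.Agent.Lib.Helper95

open Cfsg MulAction
open scoped Pointwise
open Cfsg.Agent.Lib.Helper10

theorem smul_eq_of_forall_mem {g : Equiv.Perm GolayPt} {A A' : Finset GolayPt}
    (h : ∀ x ∈ A, g x ∈ A') (hc : A'.card ≤ A.card) : g • A = A' := by
  apply Finset.eq_of_subset_of_card_le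
  · intro y hy
    obtain ⟨x, hx, rfl⟩ := Finset.mem_smul_finset.mp hy
    exact h x hx
  · rw [Finset.card_smul_finset]; exact hc

theorem nodup5 {a b c d e : GolayPt} (hab : a ≠ b) (hac : a ≠ c) (had : a ≠ d) (hae : a ≠ e)
    (hbc : b ≠ c) (hbd : b ≠ d) (hbe : b ≠ e) (hcd : c ≠ d) (hce : c ≠ e) (hde : d ≠ e) :
    [a, b, c, d, e].Nodup := by
  simp only [List.nodup_cons, List.mem_cons, List.not_mem_nil, or_false, not_or, List.nodup_nil,
    and_true, not_false_eq_true]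
  exact ⟨⟨hab, hac, had, hae⟩, ⟨hbc, hbd, hbe⟩, ⟨hcd, hce⟩, hde⟩

theorem exists_notMem24 {s : Finset GolayPt} (hs : s.card < 24) : ∃ c, c ∉ s :=
  Cfsg.Agent.Lib.Helper92.exists_notMem hs

theorem exists_of_tetCount_pos {S : Finset (Finset GolayPt)} {Y : Finset GolayPt} {j : ℕ}
    (h : 0 < tetCount S Y j) : ∃ t ∈ S, (t ∩ Y).card = j := by
  unfold tetCount at h
  obtain ⟨t, ht⟩ := Finset.card_pos.mp h
  rw [Finset.mem_filter] at ht
  exact ⟨t, ht.1, ht.2⟩

theorem ne_of_tetCount_zero {S : Finset (Finset GolayPt)} {Y : Finset GolayPt} {j : ℕ}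
    (h : tetCount S Y j = 0) {t : Finset GolayPt} (ht : t ∈ S) : (t ∩ Y).card ≠ j := by
  intro hj
  unfold tetCount at h
  rw [Finset.card_eq_zero] at h
  have : t ∈ S.filter (fun t => (t ∩ Y).card = j) := Finset.mem_filter.mpr ⟨ht, hj⟩
  rw [h] at this
  exact absurd this (Finset.notMem_empty t)

theorem trans_case1 {Y : Finset GolayPt} (hY : Y.card = 3) {S S' : Finset (Finset GolayPt)}
    (hS : S ∈ Cfsg.sextets) (hS' : S' ∈ Cfsg.sextets) {t t' : Finset GolayPt} (ht : t ∈ S)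
    (ht' : t' ∈ S') (h3 : (t ∩ Y).card = 3) (h3' : (t' ∩ Y).card = 3) :
    ∃ g ∈ M24, g • Y = Y ∧ g • S = S' := by
  have hYt : Y ⊆ t := by
    have : t ∩ Y = Y := Finset.eq_of_subset_of_card_le Finset.inter_subset_right (by rw [h3, hY])
    rw [← this]; exact Finset.inter_subset_left
  have hYt' : Y ⊆ t' := by
    have : t' ∩ Y = Y := Finset.eq_of_subset_of_card_le Finset.inter_subset_right (by rw [h3', hY])
    rw [← this]; exact Finset.inter_subset_left
  have ht4 := hS.2.1 t ht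
  have ht4' := hS'.2.1 t' ht'
  have hc : (t \ Y).card = 1 := by rw [Finset.card_sdiff_of_subset hYt, ht4, hY]
  have hc' : (t' \ Y).card = 1 := by rw [Finset.card_sdiff_of_subset hYt', ht4', hY]
  obtain ⟨p, hp⟩ := Finset.card_eq_one.mp hc
  obtain ⟨p', hp'⟩ := Finset.card_eq_one.mp hc'
  have hpt : p ∈ t ∧ p ∉ Y := by
    have : p ∈ t \ Y := by rw [hp]; exact Finset.mem_singleton_self p
    exact Finset.mem_sdiff.mp this
  have hpt' : p' ∈ t' ∧ p' ∉ Y := by
    have : p' ∈ t' \ Y := by rw [hp']; exact Finset.mem_singleton_self p'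
    exact Finset.mem_sdiff.mp this
  obtain ⟨z, hz⟩ := exists_notMem24 (s := t) (by omega)
  obtain ⟨z', hz'⟩ := exists_notMem24 (s := t') (by omega)
  obtain ⟨y1, y2, y3, h12, h13, h23, hYeq⟩ := Finset.card_eq_three.mp hY
  have m1 : y1 ∈ Y := by rw [hYeq]; simp
  have m2 : y2 ∈ Y := by rw [hYeq]; simp
  have m3 : y3 ∈ Y := by rw [hYeq]; simp
  have hne : ∀ y ∈ Y, y ≠ p ∧ y ≠ z ∧ y ≠ p' ∧ y ≠ z' := by
    intro y hy
    refine ⟨?_, ?_, ?_, ?_⟩
    · rintro rfl; exact hpt.2 hy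
    · rintro rfl; exact hz (hYt hy)
    · rintro rfl; exact hpt'.2 hy
    · rintro rfl; exact hz' (hYt' hy)
  have hpz : p ≠ z := by rintro rfl; exact hz hpt.1
  have hpz' : p' ≠ z' := by rintro rfl; exact hz' hpt'.1
  obtain ⟨g, hg, g1, g2, g3, g4, -⟩ := five_trans_list y1 y2 y3 p z y1 y2 y3 p' z'
    (nodup5 h12 h13 (hne y1 m1).1 (hne y1 m1).2.1 h23 (hne y2 m2).1 (hne y2 m2).2.1
      (hne y3 m3).1 (hne y3 m3).2.1 hpz)
    (nodup5 h12 h13 (hne y1 m1).2.2.1 (hne y1 m1).2.2.2 h23 (hne y2 m2).2.2.1 (hne y2 m2).2.2.2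
      (hne y3 m3).2.2.1 (hne y3 m3).2.2.2 hpz')
  have hfixY : ∀ x ∈ Y, g x = x := by
    intro x hx
    rw [hYeq] at hx
    simp only [Finset.mem_insert, Finset.mem_singleton] at hx
    rcases hx with rfl | rfl | rfl
    · exact g1
    · exact g2
    · exact g3
  have hgY : g • Y = Y := smul_eq_of_forall_mem (fun x hx => by rw [hfixY x hx]; exact hx) le_rfl
  have hgt : g • t = t' := by
    apply smul_eq_of_forall_mem _ (by omega)
    intro x hx
    by_cases hxY : x ∈ Y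
    · rw [hfixY x hxY]; exact hYt' hxY
    · have : x ∈ t \ Y := Finset.mem_sdiff.mpr ⟨hx, hxY⟩
      rw [hp, Finset.mem_singleton] at this
      rw [this, g4]
      exact hpt'.1
  exact ⟨g, hg, hgY, smul_sextet_eq hg hS hS' ht (by rw [hgt]; exact ht')⟩

/-- structure of a tetrad meeting `Y` in two points. -/
theorem case2_data {Y : Finset GolayPt} (hY : Y.card = 3) {t : Finset GolayPt} (ht4 : t.card = 4)
    (h2 : (t ∩ Y).card = 2) :
    ∃ u v w a b : GolayPt, [u, v, w, a, b].Nodup ∧ (∀ x ∈ Y, x = u ∨ x = v ∨ x = w) ∧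
      (∀ x ∈ t, x = u ∨ x = v ∨ x = a ∨ x = b) ∧ u ∈ Y ∧ v ∈ Y ∧ w ∈ Y ∧ u ∈ t ∧ v ∈ t ∧
      a ∈ t ∧ b ∈ t := by
  obtain ⟨u, v, huv, huvE⟩ := Finset.card_eq_two.mp h2
  have hcw : (Y \ t).card = 1 := by
    have := Finset.card_sdiff_add_card_inter Y t
    rw [Finset.inter_comm] at this
    omega
  have hcab : (t \ Y).card = 2 := by
    have := Finset.card_sdiff_add_card_inter t Y
    omega
  obtain ⟨w, hwE⟩ := Finset.card_eq_one.mp hcw
  obtain ⟨a, b, hab, habE⟩ := Finset.card_eq_two.mp hcab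
  have hu : u ∈ t ∩ Y := by rw [huvE]; simp
  have hv : v ∈ t ∩ Y := by rw [huvE]; simp
  have hw : w ∈ Y \ t := by rw [hwE]; simp
  have ha : a ∈ t \ Y := by rw [habE]; simp
  have hb : b ∈ t \ Y := by rw [habE]; simp
  rw [Finset.mem_inter] at hu hv
  rw [Finset.mem_sdiff] at hw ha hb
  refine ⟨u, v, w, a, b, ?_, ?_, ?_, hu.2, hv.2, hw.1, hu.1, hv.1, ha.1, hb.1⟩
  · apply nodup5 huv
    · rintro rfl; exact hw.2 hu.1
    · rintro rfl; exact ha.2 hu.2
    · rintro rfl; exact hb.2 hu.2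
    · rintro rfl; exact hw.2 hv.1
    · rintro rfl; exact ha.2 hv.2
    · rintro rfl; exact hb.2 hv.2
    · rintro rfl; exact hw.2 ha.1
    · rintro rfl; exact hw.2 hb.1
    · exact hab
  · intro x hx
    by_cases hxt : x ∈ t
    · have : x ∈ t ∩ Y := Finset.mem_inter.mpr ⟨hxt, hx⟩
      rw [huvE] at this
      simp only [Finset.mem_insert, Finset.mem_singleton] at this
      rcases this with h | h
      · exact Or.inl h
      · exact Or.inr (Or.inl h)
    · have : x ∈ Y \ t := Finset.mem_sdiff.mpr ⟨hx, hxt⟩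
      rw [hwE, Finset.mem_singleton] at this
      exact Or.inr (Or.inr this)
  · intro x hx
    by_cases hxY : x ∈ Y
    · have : x ∈ t ∩ Y := Finset.mem_inter.mpr ⟨hx, hxY⟩
      rw [huvE] at this
      simp only [Finset.mem_insert, Finset.mem_singleton] at this
      rcases this with h | h
      · exact Or.inl h
      · exact Or.inr (Or.inl h)
    · have : x ∈ t \ Y := Finset.mem_sdiff.mpr ⟨hx, hxY⟩
      rw [habE] at this
      simp only [Finset.mem_insert, Finset.mem_singleton] at this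
      rcases this with h | h
      · exact Or.inr (Or.inr (Or.inl h))
      · exact Or.inr (Or.inr (Or.inr h))

theorem trans_case2 {Y : Finset GolayPt} (hY : Y.card = 3) {S S' : Finset (Finset GolayPt)}
    (hS : S ∈ Cfsg.sextets) (hS' : S' ∈ Cfsg.sextets) {t t' : Finset GolayPt} (ht : t ∈ S)
    (ht' : t' ∈ S') (h2 : (t ∩ Y).card = 2) (h2' : (t' ∩ Y).card = 2) :
    ∃ g ∈ M24, g • Y = Y ∧ g • S = S' := by
  have ht4 := hS.2.1 t ht
  have ht4' := hS'.2.1 t' ht'
  obtain ⟨u, v, w, a, b, hnd, hYc, htc, huY, hvY, hwY, hut, hvt, hat, hbt⟩ := case2_data hY ht4 h2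
  obtain ⟨u', v', w', a', b', hnd', hYc', htc', huY', hvY', hwY', hut', hvt', hat', hbt'⟩ :=
    case2_data hY ht4' h2'
  obtain ⟨g, hg, g1, g2, g3, g4, g5⟩ := five_trans_list u v w a b u' v' w' a' b' hnd hnd'
  have hgY : g • Y = Y := by
    apply smul_eq_of_forall_mem _ le_rfl
    intro x hx
    rcases hYc x hx with rfl | rfl | rfl
    · rw [g1]; exact huY'
    · rw [g2]; exact hvY'
    · rw [g3]; exact hwY'
  have hgt : g • t = t' := by
    apply smul_eq_of_forall_mem _ (by omega)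
    intro x hx
    rcases htc x hx with rfl | rfl | rfl | rfl
    · rw [g1]; exact hut'
    · rw [g2]; exact hvt'
    · rw [g4]; exact hat'
    · rw [g5]; exact hbt'
  exact ⟨g, hg, hgY, smul_sextet_eq hg hS hS' ht (by rw [hgt]; exact ht')⟩

/-- structure in the case where every tetrad meets `Y` in at most one point. -/
theorem case3_data {y1 y2 y3 : GolayPt} (h12 : y1 ≠ y2) (h13 : y1 ≠ y3) (h23 : y2 ≠ y3)
    {S : Finset (Finset GolayPt)} (hS : S ∈ Cfsg.sextets)
    (hle : ∀ t ∈ S, (t ∩ ({y1, y2, y3} : Finset GolayPt)).card ≤ 1) :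
    ∃ (t1 o : Finset GolayPt) (a b c : GolayPt), t1 ∈ S ∧ o ∈ Cfsg.octads ∧
      [y1, a, b, c, y2].Nodup ∧ y1 ∈ o ∧ a ∈ o ∧ b ∈ o ∧ c ∈ o ∧ y2 ∈ o ∧ y3 ∉ o ∧
      y1 ∈ t1 ∧ a ∈ t1 ∧ b ∈ t1 ∧ c ∈ t1 ∧ (∀ x ∈ t1, x = y1 ∨ x = a ∨ x = b ∨ x = c) := by
  obtain ⟨t1, ht1, hy1⟩ := sextet_cover hS y1
  obtain ⟨t2, ht2, hy2⟩ := sextet_cover hS y2
  obtain ⟨t3, ht3, hy3⟩ := sextet_cover hS y3
  have two : ∀ t ∈ S, ∀ p q : GolayPt, p ∈ ({y1, y2, y3} : Finset GolayPt) →
      q ∈ ({y1, y2, y3} : Finset GolayPt) → p ≠ q → p ∈ t → q ∉ t := by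
    intro t ht p q hp hq hpq hpt hqt
    have hsub : ({p, q} : Finset GolayPt) ⊆ t ∩ ({y1, y2, y3} : Finset GolayPt) := by
      intro x hx
      simp only [Finset.mem_insert, Finset.mem_singleton] at hx
      rcases hx with rfl | rfl
      · exact Finset.mem_inter.mpr ⟨hpt, hp⟩
      · exact Finset.mem_inter.mpr ⟨hqt, hq⟩
    have := Finset.card_le_card hsub
    rw [Finset.card_pair hpq] at this
    have := hle t ht
    omega
  have m1 : y1 ∈ ({y1, y2, y3} : Finset GolayPt) := by simp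
  have m2 : y2 ∈ ({y1, y2, y3} : Finset GolayPt) := by simp
  have m3 : y3 ∈ ({y1, y2, y3} : Finset GolayPt) := by simp
  have hy2t1 : y2 ∉ t1 := two t1 ht1 y1 y2 m1 m2 h12 hy1
  have hy3t1 : y3 ∉ t1 := two t1 ht1 y1 y3 m1 m3 h13 hy1
  have hy3t2 : y3 ∉ t2 := two t2 ht2 y2 y3 m2 m3 h23 hy2
  have hne12 : t1 ≠ t2 := by rintro rfl; exact hy2t1 hy2
  have ho : t1 ∪ t2 ∈ Cfsg.octads := hS.2.2 t1 ht1 t2 ht2 hne12
  have hc : (t1.erase y1).card = 3 := by
    rw [Finset.card_erase_of_mem hy1, hS.2.1 t1 ht1]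
  obtain ⟨a, b, c, hab, hac, hbc, hE⟩ := Finset.card_eq_three.mp hc
  have ha : a ∈ t1.erase y1 := by rw [hE]; simp
  have hb : b ∈ t1.erase y1 := by rw [hE]; simp
  have hc' : c ∈ t1.erase y1 := by rw [hE]; simp
  rw [Finset.mem_erase] at ha hb hc'
  refine ⟨t1, t1 ∪ t2, a, b, c, ht1, ho, ?_, ?_, ?_, ?_, ?_, ?_, ?_, hy1, ha.2, hb.2, hc'.2, ?_⟩
  · apply nodup5 (Ne.symm ha.1) (Ne.symm hb.1) (Ne.symm hc'.1) h12 hab hac
    · rintro rfl; exact hy2t1 ha.2
    · exact hbc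
    · rintro rfl; exact hy2t1 hb.2
    · rintro rfl; exact hy2t1 hc'.2
  · exact Finset.mem_union_left _ hy1
  · exact Finset.mem_union_left _ ha.2
  · exact Finset.mem_union_left _ hb.2
  · exact Finset.mem_union_left _ hc'.2
  · exact Finset.mem_union_right _ hy2
  · rw [Finset.mem_union]
    rintro (h | h)
    · exact hy3t1 h
    · exact hy3t2 h
  · intro x hx
    by_cases hxy : x = y1
    · exact Or.inl hxy
    · have : x ∈ t1.erase y1 := Finset.mem_erase.mpr ⟨hxy, hx⟩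
      rw [hE] at this
      simp only [Finset.mem_insert, Finset.mem_singleton] at this
      exact Or.inr this

theorem trans_case3 {Y : Finset GolayPt} (hY : Y.card = 3) {S S' : Finset (Finset GolayPt)}
    (hS : S ∈ Cfsg.sextets) (hS' : S' ∈ Cfsg.sextets)
    (hle : ∀ t ∈ S, (t ∩ Y).card ≤ 1) (hle' : ∀ t ∈ S', (t ∩ Y).card ≤ 1) :
    ∃ g ∈ M24, g • Y = Y ∧ g • S = S' := by
  obtain ⟨y1, y2, y3, h12, h13, h23, hYeq⟩ := Finset.card_eq_three.mp hY
  subst hYeq
  obtain ⟨t1, o, a, b, c, ht1, ho, hnd, o1, oa, ob, oc, o2, o3, m1, ma, mb, mc, hcl⟩ :=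
    case3_data h12 h13 h23 hS hle
  obtain ⟨t1', o', a', b', c', ht1', ho', hnd', o1', oa', ob', oc', o2', o3', m1', ma', mb', mc',
    hcl'⟩ := case3_data h12 h13 h23 hS' hle'
  obtain ⟨g, hg, g1, ga, gb, gc, g2, g3⟩ := six_trans_list y1 a b c y2 y3 y1 a' b' c' y2 y3 hnd hnd'
    o ho o1 oa ob oc o2 o3 o' ho' o1' oa' ob' oc' o2' o3'
  have hgY : g • ({y1, y2, y3} : Finset GolayPt) = {y1, y2, y3} := by
    apply smul_eq_of_forall_mem _ le_rfl
    intro x hx
    simp only [Finset.mem_insert, Finset.mem_singleton] at hx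
    rcases hx with rfl | rfl | rfl
    · rw [g1]; simp
    · rw [g2]; simp
    · rw [g3]; simp
  have hgt : g • t1 = t1' := by
    apply smul_eq_of_forall_mem _ (by rw [hS.2.1 t1 ht1, hS'.2.1 t1' ht1'])
    intro x hx
    rcases hcl x hx with rfl | rfl | rfl | rfl
    · rw [g1]; exact m1'
    · rw [ga]; exact ma'
    · rw [gb]; exact mb'
    · rw [gc]; exact mc'
  exact ⟨g, hg, hgY, smul_sextet_eq hg hS hS' ht1 (by rw [hgt]; exact ht1')⟩

/-- Sextets with equally many tetrads meeting `Y` are conjugate under the stabiliser of `Y`. -/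
theorem meetNum_trans (Y : Finset GolayPt) (hY : Y.card = 3) (S S' : Finset (Finset GolayPt))
    (hS : S ∈ Cfsg.sextets) (hS' : S' ∈ Cfsg.sextets) (h : meetNum S Y = meetNum S' Y) :
    ∃ g ∈ M24, g • Y = Y ∧ g • S = S' := by
  obtain ⟨e1, e2⟩ := tetCount_relations hS Y hY
  obtain ⟨e1', e2'⟩ := tetCount_relations hS' Y hY
  by_cases c3 : 0 < tetCount S Y 3
  · have c3' : 0 < tetCount S' Y 3 := by omega
    obtain ⟨t, ht, h3⟩ := exists_of_tetCount_pos c3
    obtain ⟨t', ht', h3'⟩ := exists_of_tetCount_pos c3'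
    exact trans_case1 hY hS hS' ht ht' h3 h3'
  · by_cases c2 : 0 < tetCount S Y 2
    · have c2' : 0 < tetCount S' Y 2 := by omega
      obtain ⟨t, ht, h2⟩ := exists_of_tetCount_pos c2
      obtain ⟨t', ht', h2'⟩ := exists_of_tetCount_pos c2'
      exact trans_case2 hY hS hS' ht ht' h2 h2'
    · have z3 : tetCount S Y 3 = 0 := by omega
      have z2 : tetCount S Y 2 = 0 := by omega
      have z3' : tetCount S' Y 3 = 0 := by omega
      have z2' : tetCount S' Y 2 = 0 := by omega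
      have hle : ∀ t ∈ S, (t ∩ Y).card ≤ 1 := by
        intro t ht
        have := ne_of_tetCount_zero z3 ht
        have := ne_of_tetCount_zero z2 ht
        have : (t ∩ Y).card ≤ 3 := by
          rw [← hY]; exact Finset.card_le_card Finset.inter_subset_right
        omega
      have hle' : ∀ t ∈ S', (t ∩ Y).card ≤ 1 := by
        intro t ht
        have := ne_of_tetCount_zero z3' ht
        have := ne_of_tetCount_zero z2' ht
        have : (t ∩ Y).card ≤ 3 := by
          rw [← hY]; exact Finset.card_le_card Finset.inter_subset_right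
        omega
      exact trans_case3 hY hS hS' hle hle'

end Cfsg.Agent.Lib.Helper95
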