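import Cfsg.Agent.Lib.Helper95.St22Canon
import Cfsg.Agent.Lib.Helper95.AutTransport
import Mathlib

set_option autoImplicit false

/-! # The automorphism group of the canonical S(3,6,22) has order at most 887040 -/

namespace Cfsg.Agent.Lib.Helper95.St22

open Cfsg Finset
open Cfsg.Agent.Lib.Helper09 Cfsg.Agent.Lib.Helper35 Cfsg.Agent.Lib.Helper95
open Cfsg.Agent.Lib.Helper95.Pg24 Cfsg.Agent.Lib.Helper95.St24
open scoped Pointwise

/-- orbit-stabiliser, as an upper bound. -/
theorem card_le_orbit_stab {G X : Type*} [Group G] [Finite G] [MulAction G X] (x : X)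
    (S : Finset X) (hS : ∀ g : G, g • x ∈ S) {n : ℕ}
    (hn : Nat.card (MulAction.stabilizer G x) ≤ n) : Nat.card G ≤ S.card * n := by
  have h1 := Subgroup.card_mul_index (MulAction.stabilizer G x)
  rw [MulAction.index_stabilizer] at h1
  have h2 : (MulAction.orbit G x).ncard ≤ S.card := by
    have hsub : MulAction.orbit G x ⊆ (S : Set X) := by
      rintro _ ⟨g, rfl⟩
      exact hS g
    calc (MulAction.orbit G x).ncard ≤ (S : Set X).ncard :=
          Set.ncard_le_ncard hsub (Finset.finite_toSet S)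
      _ = S.card := Set.ncard_coe_finset S
  rw [← h1]
  calc Nat.card (MulAction.stabilizer G x) * (MulAction.orbit G x).ncard ≤ n * S.card :=
        Nat.mul_le_mul hn h2
    _ = S.card * n := Nat.mul_comm _ _

/-- the automorphism group of the canonical system. -/
abbrev A22 : Subgroup (Equiv.Perm Y) := setSystemAut C22

/-- the left point. -/
def x0 : Y := Sum.inl 0

theorem image_mem_C22 {σ : Equiv.Perm Y} (hσ : σ ∈ A22) {b : Finset Y} (hb : b ∈ C22) :
    b.image σ ∈ C22 := by
  have h := mem_aut_iff.mp hσ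
  rw [← h]
  exact image_mem_imgSys hb

theorem exists_sc1 {σ : Equiv.Perm Y} (h0 : σ x0 = x0) : ∃ e : Equiv.Perm (Fin 21), σ = sc1 e := by
  have hm : Set.MapsTo σ (Set.range (Sum.inl : Fin 1 → Y)) (Set.range Sum.inl) := by
    rintro _ ⟨a, rfl⟩
    have : a = 0 := Subsingleton.elim _ _
    subst this
    exact ⟨0, h0.symm⟩
  obtain ⟨⟨σ1, σ2⟩, h⟩ := Equiv.Perm.mem_sumCongrHom_range_of_perm_mapsTo_inl hm
  refine ⟨σ2, ?_⟩
  rw [← h]
  have : σ1 = Equiv.refl _ := Subsingleton.elim _ _
  subst this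
  rfl

theorem line_block_mem {l : Finset (Fin 21)} (hl : l ∈ L0) : U1.disjSum l ∈ C22 := by
  left
  rw [Finset.toLeft_disjSum, Finset.toRight_disjSum]
  exact ⟨rfl, hl⟩

theorem oval_block_mem {H : Finset (Fin 21)} (hH : m21 H ∈ cls 0) :
    (∅ : Finset (Fin 1)).disjSum H ∈ C22 := by
  right
  rw [Finset.toLeft_disjSum, Finset.toRight_disjSum]
  exact ⟨rfl, hH⟩

theorem lines_of_aut {e : Equiv.Perm (Fin 21)} (he : sc1 e ∈ A22) {l : Finset (Fin 21)}
    (hl : l ∈ L0) : l.image e ∈ L0 := by
  have := image_mem_C22 he (line_block_mem hl)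
  rw [image_sc1] at this
  rcases this with ⟨-, h2⟩ | ⟨h1, -⟩
  · rwa [Finset.toRight_disjSum] at h2
  · rw [Finset.toLeft_disjSum] at h1
    exact absurd h1 U1_ne_empty

/-- an automorphism fixing the left point and a hyperoval pointwise is trivial. -/
theorem eq_one_of_fix {σ : Equiv.Perm Y} (hσ : σ ∈ A22) (h0 : σ x0 = x0) {H : Finset (Fin 21)}
    (hH : IsOval L0 H) (hfix : ∀ h ∈ H, σ (Sum.inr h) = Sum.inr h) : σ = 1 := by
  obtain ⟨e, rfl⟩ := exists_sc1 h0
  have he : ∀ h ∈ H, e h = h := fun h hh => Sum.inr.inj (hfix h hh)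
  have key : ∀ x, e x = x := fun x =>
    plane_iso_unique card_fin21 L0_steiner card_fin21 L0_steiner hH hH (fun x => x)
      (fun h hh => hh) (fun h _ k _ hk => hk) e (fun x => x) he (fun h _ => rfl)
      (fun l hl => lines_of_aut hσ hl) (fun l hl => by simpa using hl) x
  apply Equiv.ext
  intro y
  rcases y with a | b
  · have : a = 0 := Subsingleton.elim _ _
    subst this
    exact h0
  · show Sum.inr (e b) = Sum.inr b
    rw [key]

/-- the base hyperoval. -/
def H0 : Finset (Fin 21) := f21 1656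

theorem m21_H0 : m21 H0 ∈ cls 0 := by
  rw [H0, m21_f21 (by norm_num)]
  decide

theorem H0_oval : IsOval L0 H0 := isOval_f21 (mem_hypAll.mpr ⟨0, by norm_num, by decide⟩)

/-- the base block. -/
def b0 : Finset Y := (∅ : Finset (Fin 1)).disjSum H0

theorem b0_mem : b0 ∈ C22 := oval_block_mem m21_H0

theorem card_b0 : b0.card = 6 := by
  rw [b0, Finset.card_disjSum, Finset.card_empty, H0_oval.card]

theorem x0_not_mem_b0 : x0 ∉ b0 := by
  rw [b0, x0, Finset.inl_mem_disjSum]
  exact Finset.notMem_empty _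

/-- the class-0 hyperoval blocks, as a finite set. -/
def O0 : Finset (Finset Y) :=
  (cls 0).toFinset.image (fun m => (∅ : Finset (Fin 1)).disjSum (f21 m))

theorem card_O0_le : O0.card ≤ 56 := by
  calc O0.card ≤ (cls 0).toFinset.card := Finset.card_image_le
    _ ≤ (cls 0).length := List.toFinset_card_le _
    _ = 56 := by decide

theorem image_b0_mem_O0 {σ : Equiv.Perm Y} (hσ : σ ∈ A22) (h0 : σ x0 = x0) :
    b0.image σ ∈ O0 := by
  have hC := image_mem_C22 hσ b0_mem
  have hx : x0 ∉ b0.image σ := by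
    intro h
    obtain ⟨y, hy, hxy⟩ := Finset.mem_image.mp h
    have : y = x0 := σ.injective (hxy.trans h0.symm)
    exact x0_not_mem_b0 (this ▸ hy)
  rcases hC with ⟨h1, -⟩ | ⟨h1, h2⟩
  · exfalso
    apply hx
    have : (0 : Fin 1) ∈ (b0.image σ).toLeft := by rw [h1]; exact Finset.mem_univ _
    exact Finset.mem_toLeft.mp this
  · rw [O0, Finset.mem_image]
    refine ⟨m21 (b0.image σ).toRight, List.mem_toFinset.mpr h2, ?_⟩
    rw [f21_m21, ← h1, Finset.toLeft_disjSum_toRight]

theorem mem_iff_of_image_eq {τ : Equiv.Perm Y} {b : Finset Y} (h : b.image τ = b) (y : Y) :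
    τ y ∈ b ↔ y ∈ b := by
  constructor
  · intro hy
    rw [← h] at hy
    obtain ⟨z, hz, hzy⟩ := Finset.mem_image.mp hy
    have : z = y := τ.injective hzy
    exact this ▸ hz
  · intro hy
    rw [← h]
    exact Finset.mem_image_of_mem _ hy

theorem card_stab2_le (A1 : Subgroup A22) (hA1 : ∀ g ∈ A1, (g : Equiv.Perm Y) x0 = x0) :
    Nat.card (MulAction.stabilizer A1 b0) ≤ 720 := by
  classical
  -- restriction to the six points of the base block
  have hmaps : ∀ g : MulAction.stabilizer A1 b0, ∀ y : Y,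
      ((g : A1) : Equiv.Perm Y) y ∈ b0 ↔ y ∈ b0 := by
    intro g y
    have hg : b0.image ((g : A1) : Equiv.Perm Y) = b0 := g.2
    exact mem_iff_of_image_eq hg y
  let Φ : MulAction.stabilizer A1 b0 → Equiv.Perm {y : Y // y ∈ b0} :=
    fun g => (((g : A1) : Equiv.Perm Y)).subtypePerm (hmaps g)
  have hΦ : Function.Injective Φ := by
    intro g g' h
    have hpt : ∀ y ∈ b0, ((g : A1) : Equiv.Perm Y) y = ((g' : A1) : Equiv.Perm Y) y := by
      intro y hy
      have := congrArg (fun f => (f ⟨y, hy⟩ : Y)) h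
      simpa [Φ, Equiv.Perm.subtypePerm_apply] using this
    set σ : Equiv.Perm Y := ((g : A1) : Equiv.Perm Y) with hσdef
    set σ' : Equiv.Perm Y := ((g' : A1) : Equiv.Perm Y) with hσ'def
    have hσ : σ ∈ A22 := (g : A1).1.2
    have hσ' : σ' ∈ A22 := (g' : A1).1.2
    have h1 : σ⁻¹ * σ' = 1 := by
      apply eq_one_of_fix (A22.mul_mem (A22.inv_mem hσ) hσ') _ H0_oval
      · intro h hh
        have hy : (Sum.inr h : Y) ∈ b0 := Finset.inr_mem_disjSum.mpr hh
        show σ⁻¹ (σ' (Sum.inr h)) = Sum.inr h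
        rw [← hpt _ hy]
        exact σ.symm_apply_apply _
      · show σ⁻¹ (σ' x0) = x0
        have e1 : σ x0 = x0 := hA1 _ (g : A1).2
        have e2 : σ' x0 = x0 := hA1 _ (g' : A1).2
        rw [e2]
        exact Equiv.Perm.inv_eq_iff_eq.mpr e1.symm
    have h2 : σ = σ' := by
      have := congrArg (fun t => σ * t) h1
      simpa using this.symm
    apply Subtype.ext
    apply Subtype.ext
    apply Subtype.ext
    exact h2
  calc Nat.card (MulAction.stabilizer A1 b0) ≤ Nat.card (Equiv.Perm {y : Y // y ∈ b0}) :=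
        Nat.card_le_card_of_injective Φ hΦ
    _ = 720 := by
        rw [Nat.card_perm, Nat.card_eq_fintype_card, Fintype.card_coe, card_b0]
        rfl

/-- the automorphism group of the canonical system has at most 887040 elements. -/
theorem card_A22_le : Nat.card A22 ≤ 887040 := by
  have hA1 : ∀ g ∈ MulAction.stabilizer A22 x0, (g : Equiv.Perm Y) x0 = x0 := fun g hg => hg
  have h2 := card_stab2_le (MulAction.stabilizer A22 x0) hA1
  have h1 : Nat.card (MulAction.stabilizer A22 x0) ≤ O0.card * 720 := by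
    apply card_le_orbit_stab b0 O0 _ h2
    intro g
    exact image_b0_mem_O0 (g : A22).2 g.2
  have h0 : Nat.card A22 ≤ (Finset.univ : Finset Y).card * (O0.card * 720) :=
    card_le_orbit_stab x0 Finset.univ (fun _ => Finset.mem_univ _) h1
  have hY : (Finset.univ : Finset Y).card = 22 := by
    rw [Finset.card_univ]
    exact card_Y
  rw [hY] at h0
  have := card_O0_le
  calc Nat.card A22 ≤ 22 * (O0.card * 720) := h0
    _ ≤ 22 * (56 * 720) := by gcongr
    _ = 887040 := by norm_num

end Cfsg.Agent.Lib.Helper95.St22
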