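import Cfsg.Agent.Lib.Helper95.St24Canon
import Cfsg.Agent.Lib.Helper95.Baer24
import Cfsg.Agent.S0355
import Mathlib

set_option autoImplicit false

/-! # Steiner systems S(4,7,23) on `Fin 2 ⊕ Fin 21`: canonical form and uniqueness

Every Steiner system S(4,7,23) can be moved, by a permutation of the 21 right points, to the
system consisting of the 21 blocks `two left points + line`, the 112 blocks `left point k +
hyperoval of class k`, and the 120 Baer subplanes of class 2. -/

namespace Cfsg.Agent.Lib.Helper95.St23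

open Cfsg Finset
open Cfsg.Agent.Lib.Helper09 Cfsg.Agent.Lib.Helper35 Cfsg.Agent.Lib.Helper95
open Cfsg.Agent.Lib.Helper95.Pg24 Cfsg.Agent.Lib.Helper95.St24

/-- the standard point set. -/
abbrev W : Type := Fin 2 ⊕ Fin 21

theorem card_W : Fintype.card W = 23 := by
  simp [W]

/-- the two left points, as a set. -/
def U2 : Finset (Fin 2) := Finset.univ

/-- one left point, as a set. -/
def S2 (k : Fin 2) : Finset (Fin 2) := {k}

theorem card_U2 : U2.card = 2 := by decide

theorem card_S2 : ∀ k : Fin 2, (S2 k).card = 1 := by decide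

theorem left_cases2 : ∀ s : Finset (Fin 2), s = ∅ ∨ s = S2 0 ∨ s = S2 1 ∨ s = U2 := by decide

theorem S2_sub_cases : ∀ (k : Fin 2) (s : Finset (Fin 2)), S2 k ⊆ s → s = S2 k ∨ s = U2 := by
  decide

theorem S2_ne_U2 : ∀ k : Fin 2, S2 k ≠ U2 := by decide

theorem S2_ne_empty : ∀ k : Fin 2, S2 k ≠ ∅ := by decide

theorem U2_ne_empty : U2 ≠ ∅ := by decide

theorem S2_inj : ∀ k k' : Fin 2, S2 k = S2 k' → k = k' := by decide

theorem card_S2_inter_U2 : ∀ k : Fin 2, (S2 k ∩ U2).card = 1 := by decide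

theorem card_S2_inter : ∀ k k' : Fin 2, k ≠ k' → (S2 k ∩ S2 k').card = 0 := by decide

/-! ### The permutations fixing the left points -/

/-- a permutation of the right points, acting on all points. -/
def sc2 (e : Equiv.Perm (Fin 21)) : W ≃ W := Equiv.sumCongr (Equiv.refl (Fin 2)) e

theorem sc2_symm (e : Equiv.Perm (Fin 21)) : (sc2 e).symm = sc2 e.symm := rfl

theorem sc2_trans (e f : Equiv.Perm (Fin 21)) : (sc2 e).trans (sc2 f) = sc2 (e.trans f) := by
  apply Equiv.ext
  rintro (a | b) <;> rfl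

theorem image_sc2 (e : Equiv.Perm (Fin 21)) (A : Finset (Fin 2)) (H : Finset (Fin 21)) :
    (A.disjSum H).image (sc2 e) = A.disjSum (H.image e) := by
  ext x
  rcases x with a | b
  · simp only [Finset.mem_image, Finset.inl_mem_disjSum]
    constructor
    · rintro ⟨y, hy, hxy⟩
      rcases y with a' | b'
      · have : a' = a := Sum.inl.inj hxy
        rw [← this]
        exact Finset.inl_mem_disjSum.mp hy
      · exact absurd hxy (by simp [sc2])
    · intro ha
      exact ⟨Sum.inl a, Finset.inl_mem_disjSum.mpr ha, rfl⟩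
  · simp only [Finset.mem_image, Finset.inr_mem_disjSum]
    constructor
    · rintro ⟨y, hy, hxy⟩
      rcases y with a' | b'
      · exact absurd hxy (by simp [sc2])
      · have : e b' = b := Sum.inr.inj hxy
        exact ⟨b', Finset.inr_mem_disjSum.mp hy, this⟩
    · rintro ⟨b', hb', rfl⟩
      exact ⟨Sum.inr b', Finset.inr_mem_disjSum.mpr hb', rfl⟩

theorem disj_mem_imgSys2 {e : Equiv.Perm (Fin 21)} {B : Set (Finset W)} {A : Finset (Fin 2)}
    {H : Finset (Fin 21)} : A.disjSum H ∈ imgSys (sc2 e) B ↔ A.disjSum (H.image e.symm) ∈ B := by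
  rw [mem_imgSys, sc2_symm, image_sc2]

/-! ### Blocks -/

section blocks

variable {D : Set (Finset W)}

theorem card_lr2 (hD : IsSteinerSystem 4 7 D) {b : Finset W} (hb : b ∈ D) :
    b.toLeft.card + b.toRight.card = 7 := by
  rw [Finset.card_toLeft_add_card_toRight]
  exact hD.1 b hb

theorem block_eq_of_parts2 (hD : IsSteinerSystem 4 7 D) {b c : Finset W} (hb : b ∈ D)
    (hc : c ∈ D) {A : Finset (Fin 2)} {S : Finset (Fin 21)} (h4 : 4 ≤ A.card + S.card)
    (hAb : A ⊆ b.toLeft) (hAc : A ⊆ c.toLeft) (hSb : S ⊆ b.toRight) (hSc : S ⊆ c.toRight) :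
    b = c := by
  by_contra hne
  have h1 := card_inter_lt hD hb hc hne
  have h2 : A.disjSum S ⊆ b ∩ c := by
    rw [Finset.subset_inter_iff, Finset.disjSum_subset, Finset.disjSum_subset]
    exact ⟨⟨hAb, hSb⟩, ⟨hAc, hSc⟩⟩
  have h3 := Finset.card_le_card h2
  rw [Finset.card_disjSum] at h3
  omega

theorem card_inter_disjSum2 (A A' : Finset (Fin 2)) (H H' : Finset (Fin 21)) :
    (A.disjSum H ∩ A'.disjSum H').card = (A ∩ A').card + (H ∩ H').card := by
  rw [← Finset.card_toLeft_add_card_toRight, Finset.toLeft_inter, Finset.toRight_inter,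
    Finset.toLeft_disjSum, Finset.toLeft_disjSum, Finset.toRight_disjSum, Finset.toRight_disjSum]

theorem inter23 (hD : IsSteinerSystem 4 7 D) {b c : Finset W} (hb : b ∈ D) (hc : c ∈ D)
    (hne : b ≠ c) : (b ∩ c).card = 1 ∨ (b ∩ c).card = 3 :=
  Cfsg.Agent.S0355.result card_W hD hb hc hne

theorem disjSum_ne_of_left {A A' : Finset (Fin 2)} (h : A ≠ A') (H H' : Finset (Fin 21)) :
    A.disjSum H ≠ A'.disjSum H' := by
  intro he
  exact h (Finset.disjSum_inj.mp he).1

/-- the system contains the blocks `two left points + line`. -/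
def HasLines2 (D : Set (Finset W)) : Prop := ∀ l ∈ L0, U2.disjSum l ∈ D

/-- the system contains the blocks `left point k + hyperoval of class k`. -/
def HasOvals2 (D : Set (Finset W)) : Prop :=
  ∀ k : Fin 2, ∀ H : Finset (Fin 21), m21 H ∈ cls k.val → (S2 k).disjSum H ∈ D

/-- the blocks with one left point `k` are hyperovals of class `k`. -/
def OvalsInClass2 (D : Set (Finset W)) : Prop :=
  ∀ k : Fin 2, ∀ H : Finset (Fin 21), (S2 k).disjSum H ∈ D → m21 H ∈ cls k.val

/-- the canonical system. -/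
def C23 : Set (Finset W) :=
  {b | (b.toLeft = U2 ∧ b.toRight ∈ L0) ∨ (∃ k : Fin 2, b.toLeft = S2 k ∧ m21 b.toRight ∈ cls k.val) ∨
    (b.toLeft = ∅ ∧ m21 b.toRight ∈ baer2)}

theorem line_of_block2 (hD : IsSteinerSystem 4 7 D) (hL : HasLines2 D) {b : Finset W}
    (hb : b ∈ D) (h3 : b.toLeft = U2) : b.toRight ∈ L0 := by
  have hc := card_lr2 hD hb
  rw [h3, card_U2] at hc
  have h5 : 1 < b.toRight.card := by omega
  obtain ⟨p, hp, q, hq, hpq⟩ := Finset.one_lt_card.mp h5
  obtain ⟨l, ⟨hl, hsl⟩, -⟩ := L0_steiner.2 {p, q} (Finset.card_pair hpq)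
  have hcB := hL l hl
  have heq : b = U2.disjSum l := by
    apply block_eq_of_parts2 hD hb hcB (A := U2) (S := {p, q})
    · rw [card_U2, Finset.card_pair hpq]
    · rw [h3]
    · rw [Finset.toLeft_disjSum]
    · exact pair_subset hp hq
    · rw [Finset.toRight_disjSum]
      exact hsl
  rw [heq, Finset.toRight_disjSum]
  exact hl

theorem card_of_block2 (hD : IsSteinerSystem 4 7 D) {k : Fin 2} {H : Finset (Fin 21)}
    (hb : (S2 k).disjSum H ∈ D) : H.card = 6 := by
  have := hD.1 _ hb
  rw [Finset.card_disjSum, card_S2] at this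
  omega

theorem oval_of_block2 (hD : IsSteinerSystem 4 7 D) (hL : HasLines2 D) {k : Fin 2}
    {H : Finset (Fin 21)} (hb : (S2 k).disjSum H ∈ D) : IsOval L0 H := by
  refine ⟨?_, card_of_block2 hD hb⟩
  intro l hl
  have hc := hL l hl
  have h1 := inter23 hD hb hc (disjSum_ne_of_left (S2_ne_U2 k) _ _)
  rw [card_inter_disjSum2, card_S2_inter_U2, Finset.inter_comm] at h1
  omega

theorem same_class2 (hD : IsSteinerSystem 4 7 D) {k : Fin 2} {H H' : Finset (Fin 21)}
    (hb : (S2 k).disjSum H ∈ D) (hb' : (S2 k).disjSum H' ∈ D)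
    {a a' : ℕ} (ha : a < 3) (ha' : a' < 3) (hHa : m21 H ∈ cls a) (hHa' : m21 H' ∈ cls a') :
    a = a' := by
  by_contra hne
  have h1 := cls_diff ha ha' hne hHa hHa'
  rw [← card_inter_eq_popc21] at h1
  by_cases hHH : H = H'
  · rw [← hHH, Finset.inter_self, card_of_block2 hD hb] at h1
    omega
  · have hbb : (S2 k).disjSum H ≠ (S2 k).disjSum H' := by
      intro h
      exact hHH (Finset.disjSum_inj.mp h).2
    have h2 := inter23 hD hb hb' hbb
    rw [card_inter_disjSum2, Finset.inter_self, card_S2] at h2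
    omega

theorem diff_class2 (hD : IsSteinerSystem 4 7 D) {k k' : Fin 2} (hkk' : k ≠ k')
    {H H' : Finset (Fin 21)} (hb : (S2 k).disjSum H ∈ D) (hb' : (S2 k').disjSum H' ∈ D) {a : ℕ}
    (ha : a < 3) (hHa : m21 H ∈ cls a) (hHa' : m21 H' ∈ cls a) : False := by
  have hbb : (S2 k).disjSum H ≠ (S2 k').disjSum H' :=
    disjSum_ne_of_left (fun h => hkk' (S2_inj k k' h)) _ _
  have h2 := inter23 hD hb hb' hbb
  rw [card_inter_disjSum2, card_S2_inter k k' hkk'] at h2
  by_cases hm : m21 H = m21 H'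
  · have hHH : H = H' := by
      rw [← f21_m21 H, hm, f21_m21]
    rw [← hHH, Finset.inter_self, card_of_block2 hD hb] at h2
    omega
  · have h1 := cls_same ha hHa hHa' hm
    rw [← card_inter_eq_popc21] at h1
    omega

theorem left_cases_block2 (b : Finset W) {k : Fin 2} (hk : S2 k ⊆ b.toLeft) :
    b = (S2 k).disjSum b.toRight ∨ b = U2.disjSum b.toRight := by
  rcases S2_sub_cases k _ hk with h | h
  · left
    conv_lhs => rw [← Finset.toLeft_disjSum_toRight (u := b), h]
  · right
    conv_lhs => rw [← Finset.toLeft_disjSum_toRight (u := b), h]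

theorem not_line_015 (hD : IsSteinerSystem 4 7 D) (hL : HasLines2 D) {b : Finset W} (hb : b ∈ D)
    (h3 : b.toLeft = U2) (hT : ({0, 1, 5} : Finset (Fin 21)) ⊆ b.toRight) : False := by
  have hl := line_of_block2 hD hL hb h3
  rw [mem_L0] at hl
  apply noncollinear_015 _ hl
  have e0 := testBit_m21 b.toRight 0
  have e1 := testBit_m21 b.toRight 1
  have e5 := testBit_m21 b.toRight 5
  have m0 : (0 : Fin 21) ∈ b.toRight := hT (by simp)
  have m1 : (1 : Fin 21) ∈ b.toRight := hT (by simp)
  have m5 : (5 : Fin 21) ∈ b.toRight := hT (by simp)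
  rw [decide_eq_true m0] at e0
  rw [decide_eq_true m1] at e1
  rw [decide_eq_true m5] at e5
  exact ⟨e0, e1, e5⟩

theorem exists_oval_block2 (hD : IsSteinerSystem 4 7 D) (hL : HasLines2 D) (k : Fin 2) :
    ∃ H : Finset (Fin 21), (S2 k).disjSum H ∈ D := by
  have hT : ((S2 k).disjSum ({0, 1, 5} : Finset (Fin 21))).card = 4 := by
    rw [Finset.card_disjSum, card_S2]
    rfl
  obtain ⟨b, ⟨hb, hTb⟩, -⟩ := hD.2 _ hT
  rw [Finset.disjSum_subset] at hTb
  rcases left_cases_block2 b hTb.1 with h | h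
  · exact ⟨b.toRight, h ▸ hb⟩
  · exfalso
    have h3 : b.toLeft = U2 := by
      rw [h, Finset.toLeft_disjSum]
    exact not_line_015 hD hL hb h3 hTb.2

theorem hasOvals_of_inClass2 (hD : IsSteinerSystem 4 7 D) (hL : HasLines2 D)
    (hC : OvalsInClass2 D) : HasOvals2 D := by
  intro k H hH
  have hk3 : k.val < 3 := by have := k.isLt; omega
  have hall : m21 H ∈ hypAll := mem_hypAll.mpr ⟨k.val, hk3, hH⟩
  have hov : IsOval L0 H := by
    have := isOval_f21 hall
    rwa [f21_m21] at this
  have h6 : 2 < H.card := by rw [hov.card]; norm_num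
  obtain ⟨p, hp, q, hq, r, hr, hpq, hpr, hqr⟩ := Finset.two_lt_card.mp h6
  have hT : ((S2 k).disjSum ({p, q, r} : Finset (Fin 21))).card = 4 := by
    rw [Finset.card_disjSum, card_S2, card_triple hpq hpr hqr]
  obtain ⟨b, ⟨hb, hTb⟩, -⟩ := hD.2 _ hT
  rw [Finset.disjSum_subset] at hTb
  have h3 : 3 ≤ (b.toRight ∩ H).card := by
    have hsub : ({p, q, r} : Finset (Fin 21)) ⊆ b.toRight ∩ H :=
      Finset.subset_inter hTb.2 (triple_subset hp hq hr)
    have := Finset.card_le_card hsub
    rwa [card_triple hpq hpr hqr] at this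
  rcases left_cases_block2 b hTb.1 with h | h
  · have hb' : (S2 k).disjSum b.toRight ∈ D := h ▸ hb
    have hcl := hC k _ hb'
    by_cases hm : m21 b.toRight = m21 H
    · have : b.toRight = H := by rw [← f21_m21 b.toRight, hm, f21_m21]
      rw [← this]
      exact hb'
    · exfalso
      have h1 := cls_same hk3 hcl hH hm
      rw [← card_inter_eq_popc21] at h1
      omega
  · exfalso
    have h3' : b.toLeft = U2 := by
      rw [h, Finset.toLeft_disjSum]
    have hl := line_of_block2 hD hL hb h3'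
    have := hov.arc _ hl
    omega

/-- the blocks without left point are Baer subplanes of class 2. -/
theorem baer_of_block (hD : IsSteinerSystem 4 7 D) (hL : HasLines2 D) (hO : HasOvals2 D)
    {R : Finset (Fin 21)} (hb : (∅ : Finset (Fin 2)).disjSum R ∈ D) : m21 R ∈ baer2 := by
  have h7 : R.card = 7 := by
    have := hD.1 _ hb
    rwa [Finset.card_disjSum, Finset.card_empty, Nat.zero_add] at this
  apply baer_sound (m21_lt R)
  · rw [← card_eq_popc21]
    exact h7
  · intro m hm
    unfold oddM at hm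
    rw [List.mem_append, List.mem_append] at hm
    have key : ∀ (A : Finset (Fin 2)) (H : Finset (Fin 21)), A ≠ ∅ → A.disjSum H ∈ D →
        popc 21 (m21 R &&& m21 H) % 2 = 1 := by
      intro A H hA hc
      have h1 := inter23 hD hb hc (disjSum_ne_of_left (Ne.symm hA) _ _)
      rw [card_inter_disjSum2, Finset.empty_inter, Finset.card_empty, Nat.zero_add,
        card_inter_eq_popc21] at h1
      rcases h1 with h1 | h1 <;> rw [h1]
    rcases hm with (hm | hm) | hm
    · have := key U2 (f21 m) U2_ne_empty (hL _ (f21_mem_L0 hm))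
      rwa [m21_f21 (lines0_lt m hm)] at this
    · have hlt : m < 2 ^ 21 := hypAll_lt m (mem_hypAll.mpr ⟨0, by norm_num, hm⟩)
      have hm' : m21 (f21 m) ∈ cls (0 : Fin 2).val := by rw [m21_f21 hlt]; exact hm
      have := key (S2 0) (f21 m) (S2_ne_empty 0) (hO 0 _ hm')
      rwa [m21_f21 hlt] at this
    · have hlt : m < 2 ^ 21 := hypAll_lt m (mem_hypAll.mpr ⟨1, by norm_num, hm⟩)
      have hm' : m21 (f21 m) ∈ cls (1 : Fin 2).val := by rw [m21_f21 hlt]; exact hm
      have := key (S2 1) (f21 m) (S2_ne_empty 1) (hO 1 _ hm')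
      rwa [m21_f21 hlt] at this

/-- every Baer subplane of class 2 is a block. -/
theorem block_of_baer (hD : IsSteinerSystem 4 7 D) (hL : HasLines2 D) (hC : OvalsInClass2 D)
    (hO : HasOvals2 D) {R : Finset (Fin 21)} (hR : m21 R ∈ baer2) :
    (∅ : Finset (Fin 2)).disjSum R ∈ D := by
  have h7 : R.card = 7 := by
    rw [card_eq_popc21]
    exact (baer2_basic _ hR).2
  obtain ⟨t, htR, ht4⟩ := Finset.exists_subset_card_eq (show 4 ≤ R.card by omega)
  have hT : ((∅ : Finset (Fin 2)).disjSum t).card = 4 := by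
    rw [Finset.card_disjSum, Finset.card_empty, Nat.zero_add, ht4]
  obtain ⟨c, ⟨hc, hTc⟩, -⟩ := hD.2 _ hT
  rw [Finset.disjSum_subset] at hTc
  have h4 : 4 ≤ (R ∩ c.toRight).card := by
    have := Finset.card_le_card (Finset.subset_inter htR hTc.2)
    rwa [ht4] at this
  rw [card_inter_eq_popc21] at h4
  have hce : c = c.toLeft.disjSum c.toRight := Finset.toLeft_disjSum_toRight.symm
  rcases left_cases2 c.toLeft with h | h | h | h
  · rw [h] at hce
    have hR' := baer_of_block hD hL hO (hce ▸ hc)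
    by_cases hm : m21 R = m21 c.toRight
    · have : R = c.toRight := by rw [← f21_m21 R, hm, f21_m21]
      rw [this, ← hce]
      exact hc
    · exfalso
      have := baer2_inter hR hR' hm
      omega
  · exfalso
    rw [h] at hce
    have := baer2_ovals hR (Or.inl (hC 0 _ (hce ▸ hc)))
    omega
  · exfalso
    rw [h] at hce
    have := baer2_ovals hR (Or.inr (hC 1 _ (hce ▸ hc)))
    omega
  · exfalso
    have hl := line_of_block2 hD hL hc h
    have := baer2_lines _ hR _ hl
    omega

/-- a system with the lines, whose blocks with one left point are in the right classes, is the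
canonical system. -/
theorem eq_C23 (hD : IsSteinerSystem 4 7 D) (hL : HasLines2 D) (hC : OvalsInClass2 D) :
    D = C23 := by
  have hO := hasOvals_of_inClass2 hD hL hC
  ext b
  have hbe : b = b.toLeft.disjSum b.toRight := Finset.toLeft_disjSum_toRight.symm
  constructor
  · intro hb
    rcases left_cases2 b.toLeft with h | h | h | h
    · right; right
      rw [h] at hbe
      exact ⟨h, baer_of_block hD hL hO (hbe ▸ hb)⟩
    · right; left
      rw [h] at hbe
      exact ⟨0, h, hC 0 _ (hbe ▸ hb)⟩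
    · right; left
      rw [h] at hbe
      exact ⟨1, h, hC 1 _ (hbe ▸ hb)⟩
    · left
      exact ⟨h, line_of_block2 hD hL hb h⟩
  · rintro (⟨h1, h2⟩ | ⟨k, h1, h2⟩ | ⟨h1, h2⟩)
    · have := hL _ h2
      rwa [← h1, Finset.toLeft_disjSum_toRight] at this
    · have := hO k _ h2
      rwa [← h1, Finset.toLeft_disjSum_toRight] at this
    · have := block_of_baer hD hL hC hO h2
      rwa [← h1, Finset.toLeft_disjSum_toRight] at this

end blocks

/-! ### Existence of the canonical form -/

section exist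

variable {D : Set (Finset W)}

/-- the lines of a Steiner system: right parts of the blocks containing the two left points. -/
def linesOf2 (D : Set (Finset W)) : Set (Finset (Fin 21)) := {l | U2.disjSum l ∈ D}

theorem linesOf2_steiner (hD : IsSteinerSystem 4 7 D) : IsSteinerSystem 2 5 (linesOf2 D) := by
  refine ⟨?_, ?_⟩
  · intro l hl
    have := hD.1 _ hl
    rw [Finset.card_disjSum, card_U2] at this
    omega
  · intro s hs
    have hT : (U2.disjSum s).card = 4 := by
      rw [Finset.card_disjSum, card_U2, hs]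
    obtain ⟨b, ⟨hb, hTb⟩, huniq⟩ := hD.2 _ hT
    rw [Finset.disjSum_subset] at hTb
    have hu : b.toLeft = U2 := Finset.univ_subset_iff.mp hTb.1
    have hbe : U2.disjSum b.toRight = b := by
      rw [← hu, Finset.toLeft_disjSum_toRight]
    refine ⟨b.toRight, ⟨?_, hTb.2⟩, ?_⟩
    · show U2.disjSum b.toRight ∈ D
      rw [hbe]
      exact hb
    · rintro l ⟨hl, hsl⟩
      have := huniq _ ⟨hl, Finset.disjSum_mono (Finset.Subset.refl _) hsl⟩
      rw [← this, Finset.toRight_disjSum]

theorem exists_hasLines2 (hD : IsSteinerSystem 4 7 D) :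
    ∃ e : Equiv.Perm (Fin 21), HasLines2 (imgSys (sc2 e) D) := by
  obtain ⟨e, he⟩ := Cfsg.Agent.S5626.result card_fin21 card_fin21 (linesOf2_steiner hD) L0_steiner
  refine ⟨e, ?_⟩
  intro l hl
  rw [← he] at hl
  obtain ⟨l', hl', rfl⟩ := hl
  have := image_mem_imgSys (e := sc2 e) hl'
  rwa [image_sc2] at this

theorem exists_col01 : ∀ a b : Fin 3, a ≠ b →
    ∃ j : Fin 6, sig j.val a.val = 0 ∧ sig j.val b.val = 1 := by decide

theorem exists_inClass2 (hD : IsSteinerSystem 4 7 D) (hL : HasLines2 D) :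
    ∃ j : Fin 6, HasLines2 (imgSys (sc2 (colPerm j)) D) ∧
      OvalsInClass2 (imgSys (sc2 (colPerm j)) D) := by
  choose Hk hHk using exists_oval_block2 hD hL
  have hcls : ∀ k, ∃ a : Fin 3, m21 (Hk k) ∈ cls a.val := by
    intro k
    have := oval_mem_hypAll (oval_of_block2 hD hL (hHk k))
    obtain ⟨a, ha, hm⟩ := mem_hypAll.mp this
    exact ⟨⟨a, ha⟩, hm⟩
  choose π hπ using hcls
  have hne : π 0 ≠ π 1 := by
    intro h
    have h1 := hπ 0
    have h2 := hπ 1
    rw [← h] at h2
    exact diff_class2 hD (by decide : (0 : Fin 2) ≠ 1) (hHk 0) (hHk 1) (π 0).isLt h1 h2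
  obtain ⟨j, hj0, hj1⟩ := exists_col01 (π 0) (π 1) hne
  have hk : ∀ k : Fin 2, sig j.val (π k).val = k.val := by
    intro k
    fin_cases k
    · exact hj0
    · exact hj1
  refine ⟨j, ?_, ?_⟩
  · intro l hl
    rw [disj_mem_imgSys2]
    exact hL _ (colsymm_lines j hl)
  · intro k H hH
    rw [disj_mem_imgSys2] at hH
    have hov := oval_of_block2 hD hL hH
    obtain ⟨a, ha, hm⟩ := mem_hypAll.mp (oval_mem_hypAll hov)
    have haπ : a = (π k).val := same_class2 hD hH (hHk k) ha (π k).isLt hm (hπ k)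
    have := col_cls j ha hm
    rw [image_image_symm, haπ] at this
    rw [hk k] at this
    exact this

/-- every Steiner system S(4,7,23) on `W` can be moved to the canonical one. -/
theorem exists_canon2 (hD : IsSteinerSystem 4 7 D) :
    ∃ e : Equiv.Perm (Fin 21), imgSys (sc2 e) D = C23 := by
  obtain ⟨e0, h0⟩ := exists_hasLines2 hD
  have hD1 := imgSys_steiner hD (sc2 e0)
  obtain ⟨j, hj1, hj2⟩ := exists_inClass2 hD1 h0
  have hD2 := imgSys_steiner hD1 (sc2 (colPerm j))
  refine ⟨e0.trans (colPerm j), ?_⟩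
  rw [← sc2_trans, ← imgSys_trans]
  exact eq_C23 hD2 hj1 hj2

/-- uniqueness of the Steiner system S(4,7,23), over arbitrary point types. -/
theorem steiner23_unique {α β : Type*} [Fintype α] [DecidableEq α] [Fintype β] [DecidableEq β]
    (hα : Fintype.card α = 23) (hβ : Fintype.card β = 23) {B : Set (Finset α)}
    {B' : Set (Finset β)} (hB : IsSteinerSystem 4 7 B) (hB' : IsSteinerSystem 4 7 B') :
    ∃ e : α ≃ β, imgSys e B = B' := by
  have eα : α ≃ W := Fintype.equivOfCardEq (by rw [hα, card_W])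
  have eβ : β ≃ W := Fintype.equivOfCardEq (by rw [hβ, card_W])
  have h1 := imgSys_steiner hB eα
  have h2 := imgSys_steiner hB' eβ
  obtain ⟨e1, c1⟩ := exists_canon2 h1
  obtain ⟨e2, c2⟩ := exists_canon2 h2
  have heq : imgSys (sc2 e1) (imgSys eα B) = imgSys (sc2 e2) (imgSys eβ B') := by
    rw [c1, c2]
  rw [imgSys_trans, imgSys_trans] at heq
  refine ⟨(eα.trans (sc2 e1)).trans (eβ.trans (sc2 e2)).symm, ?_⟩
  rw [← imgSys_trans, heq]
  ext c
  rw [mem_imgSys, mem_imgSys, Equiv.symm_symm, image_symm_image]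

end exist

end Cfsg.Agent.Lib.Helper95.St23
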