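import Cfsg.Agent.Lib.Helper95.St22Aut
import Cfsg.Agent.Lib.Helper95.St23Canon
import Mathlib

set_option autoImplicit false

/-! # The automorphism group of the canonical S(4,7,23) has order at most 10200960 -/

namespace Cfsg.Agent.Lib.Helper95.St23

open Cfsg Finset
open Cfsg.Agent.Lib.Helper09 Cfsg.Agent.Lib.Helper35 Cfsg.Agent.Lib.Helper95
open Cfsg.Agent.Lib.Helper95.Pg24 Cfsg.Agent.Lib.Helper95.St24 Cfsg.Agent.Lib.Helper95.St22
open scoped Pointwise

/-! ### Collineations preserving the class 0 -/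

theorem card_stab_x0_le : Nat.card (MulAction.stabilizer A22 x0) ≤ 40320 := by
  have hA1 : ∀ g ∈ MulAction.stabilizer A22 x0, (g : Equiv.Perm Y) x0 = x0 := fun g hg => hg
  have h2 := card_stab2_le (MulAction.stabilizer A22 x0) hA1
  have h1 : Nat.card (MulAction.stabilizer A22 x0) ≤ O0.card * 720 := by
    apply card_le_orbit_stab b0 O0 _ h2
    intro g
    exact image_b0_mem_O0 (g : A22).2 g.2
  have := card_O0_le
  calc Nat.card (MulAction.stabilizer A22 x0) ≤ O0.card * 720 := h1
    _ ≤ 56 * 720 := by gcongr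
    _ = 40320 := by norm_num

/-- `sc1` as a homomorphism. -/
def sc1Hom : Equiv.Perm (Fin 21) →* Equiv.Perm Y where
  toFun := sc1
  map_one' := by
    apply Equiv.ext
    rintro (a | b) <;> rfl
  map_mul' e f := by
    apply Equiv.ext
    rintro (a | b) <;> rfl

/-- `sc2` as a homomorphism. -/
def sc2Hom : Equiv.Perm (Fin 21) →* Equiv.Perm W where
  toFun := sc2
  map_one' := by
    apply Equiv.ext
    rintro (a | b) <;> rfl
  map_mul' e f := by
    apply Equiv.ext
    rintro (a | b) <;> rfl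

theorem sc1_injective : Function.Injective sc1 := by
  intro e f h
  apply Equiv.ext
  intro b
  have := congrArg (fun σ : Y ≃ Y => σ (Sum.inr b)) h
  exact Sum.inr.inj this

/-- the collineations preserving the class 0. -/
def Q0 : Subgroup (Equiv.Perm (Fin 21)) := A22.comap sc1Hom

theorem mem_Q0 {e : Equiv.Perm (Fin 21)} : e ∈ Q0 ↔ sc1 e ∈ A22 := Iff.rfl

theorem card_Q0_le : Nat.card Q0 ≤ 40320 := by
  let f : Q0 → MulAction.stabilizer A22 x0 := fun e => ⟨⟨sc1 e.1, e.2⟩, rfl⟩
  have hf : Function.Injective f := by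
    intro e e' h
    apply Subtype.ext
    apply sc1_injective
    have := congrArg (fun g : MulAction.stabilizer A22 x0 => ((g : A22) : Equiv.Perm Y)) h
    exact this
  exact (Nat.card_le_card_of_injective f hf).trans card_stab_x0_le

/-- the image of a block of the canonical S(3,6,22) under a map preserving lines and class 0. -/
theorem image_sc1_mem {f : Equiv.Perm (Fin 21)} (h1 : ∀ l ∈ L0, l.image f ∈ L0)
    (h2 : ∀ H : Finset (Fin 21), m21 H ∈ cls 0 → m21 (H.image f) ∈ cls 0) {b : Finset Y}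
    (hb : b ∈ C22) : b.image (sc1 f) ∈ C22 := by
  have hbe : b = b.toLeft.disjSum b.toRight := Finset.toLeft_disjSum_toRight.symm
  rw [hbe, image_sc1]
  rcases hb with ⟨hl, hr⟩ | ⟨hl, hr⟩
  · left
    rw [Finset.toLeft_disjSum, Finset.toRight_disjSum]
    exact ⟨hl, h1 _ hr⟩
  · right
    rw [Finset.toLeft_disjSum, Finset.toRight_disjSum]
    exact ⟨hl, h2 _ hr⟩

theorem sc1_mem_A22 {e : Equiv.Perm (Fin 21)} (h1 : ∀ l ∈ L0, l.image e ∈ L0)
    (h2 : ∀ H : Finset (Fin 21), m21 H ∈ cls 0 → m21 (H.image e) ∈ cls 0)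
    (h1' : ∀ l ∈ L0, l.image e.symm ∈ L0)
    (h2' : ∀ H : Finset (Fin 21), m21 H ∈ cls 0 → m21 (H.image e.symm) ∈ cls 0) :
    sc1 e ∈ A22 := by
  rw [mem_aut_iff]
  ext c
  rw [mem_imgSys, sc1_symm]
  constructor
  · intro h
    have := image_sc1_mem h1 h2 h
    rw [← sc1_symm] at this
    rwa [image_image_symm] at this
  · intro h
    exact image_sc1_mem h1' h2' h

/-! ### The automorphism group of the canonical S(4,7,23) -/

/-- the automorphism group of the canonical system. -/
abbrev A23 : Subgroup (Equiv.Perm W) := setSystemAut C23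

theorem image_mem_C23 {σ : Equiv.Perm W} (hσ : σ ∈ A23) {b : Finset W} (hb : b ∈ C23) :
    b.image σ ∈ C23 := by
  have h := mem_aut_iff.mp hσ
  rw [← h]
  exact image_mem_imgSys hb

/-- the collineations preserving the classes 0 and 1. -/
def K01 : Subgroup (Equiv.Perm (Fin 21)) := A23.comap sc2Hom

theorem mem_K01 {e : Equiv.Perm (Fin 21)} : e ∈ K01 ↔ sc2 e ∈ A23 := Iff.rfl

theorem line_block_mem2 {l : Finset (Fin 21)} (hl : l ∈ L0) : U2.disjSum l ∈ C23 := by
  left
  rw [Finset.toLeft_disjSum, Finset.toRight_disjSum]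
  exact ⟨rfl, hl⟩

theorem oval_block_mem2 {k : Fin 2} {H : Finset (Fin 21)} (hH : m21 H ∈ cls k.val) :
    (S2 k).disjSum H ∈ C23 := by
  right; left
  rw [Finset.toLeft_disjSum, Finset.toRight_disjSum]
  exact ⟨k, rfl, hH⟩

theorem lines_of_K01 {e : Equiv.Perm (Fin 21)} (he : e ∈ K01) {l : Finset (Fin 21)}
    (hl : l ∈ L0) : l.image e ∈ L0 := by
  have := image_mem_C23 (mem_K01.mp he) (line_block_mem2 hl)
  rw [image_sc2] at this
  rcases this with ⟨-, h2⟩ | ⟨k, h1, -⟩ | ⟨h1, -⟩
  · rwa [Finset.toRight_disjSum] at h2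
  · rw [Finset.toLeft_disjSum] at h1
    exact absurd h1.symm (S2_ne_U2 k)
  · rw [Finset.toLeft_disjSum] at h1
    exact absurd h1 U2_ne_empty

theorem ovals_of_K01 {e : Equiv.Perm (Fin 21)} (he : e ∈ K01) (k : Fin 2)
    {H : Finset (Fin 21)} (hH : m21 H ∈ cls k.val) : m21 (H.image e) ∈ cls k.val := by
  have := image_mem_C23 (mem_K01.mp he) (oval_block_mem2 hH)
  rw [image_sc2] at this
  rcases this with ⟨h1, -⟩ | ⟨k', h1, h2⟩ | ⟨h1, -⟩
  · rw [Finset.toLeft_disjSum] at h1
    exact absurd h1 (S2_ne_U2 k)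
  · rw [Finset.toLeft_disjSum] at h1
    rw [Finset.toRight_disjSum] at h2
    rw [S2_inj k k' h1]
    exact h2
  · rw [Finset.toLeft_disjSum] at h1
    exact absurd h1 (S2_ne_empty k)

theorem K01_le_Q0 : K01 ≤ Q0 := by
  intro e he
  have he' : e.symm ∈ K01 := K01.inv_mem he
  exact sc1_mem_A22 (fun l hl => lines_of_K01 he hl) (fun H hH => ovals_of_K01 he 0 hH)
    (fun l hl => lines_of_K01 he' hl) (fun H hH => ovals_of_K01 he' 0 hH)

theorem colPerm1_symm : (colPerm 1).symm = colPerm 1 := by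
  apply Equiv.ext
  decide

theorem colPerm1_mem_Q0 : colPerm 1 ∈ Q0 := by
  have h2 : ∀ H : Finset (Fin 21), m21 H ∈ cls 0 → m21 (H.image (colPerm 1)) ∈ cls 0 := by
    intro H hH
    exact col_cls 1 (by norm_num : 0 < 3) hH
  apply sc1_mem_A22 (fun l hl => col_lines 1 hl) h2
  · rw [colPerm1_symm]
    exact fun l hl => col_lines 1 hl
  · rw [colPerm1_symm]
    exact h2

theorem cls1_head : (2740 : ℕ) ∈ cls 1 := by decide

theorem colPerm1_not_mem_K01 : colPerm 1 ∉ K01 := by
  intro h
  have hlt : (2740 : ℕ) < 2 ^ 21 := by norm_num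
  have hH : m21 (f21 2740) ∈ cls (1 : Fin 2).val := by
    rw [m21_f21 hlt]
    exact cls1_head
  have h1 := ovals_of_K01 h 1 hH
  have h2 : m21 ((f21 2740).image (colPerm 1)) ∈ cls 2 :=
    col_cls 1 (by norm_num : 1 < 3) hH
  have h3 := cls_diff (by norm_num : 1 < 3) (by norm_num : 2 < 3) (by norm_num) h1 h2
  rw [Nat.and_self, hypAll_card _ (mem_hypAll.mpr ⟨2, by norm_num, h2⟩)] at h3
  omega

theorem card_K01_le : Nat.card K01 ≤ 20160 := by
  have hdvd : Nat.card K01 ∣ Nat.card Q0 := Subgroup.card_dvd_of_le K01_le_Q0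
  have hne : Nat.card K01 ≠ Nat.card Q0 := by
    intro h
    have := Subgroup.eq_of_le_of_card_ge K01_le_Q0 (le_of_eq h.symm)
    exact colPerm1_not_mem_K01 (this ▸ colPerm1_mem_Q0)
  have hpos : 0 < Nat.card Q0 := Nat.card_pos
  obtain ⟨k, hk⟩ := hdvd
  have hk2 : 2 ≤ k := by
    rcases k with _ | _ | k
    · rw [Nat.mul_zero] at hk; omega
    · rw [Nat.mul_one] at hk; exact absurd hk.symm hne
    · omega
  have := card_Q0_le
  have h2 : Nat.card K01 * 2 ≤ Nat.card K01 * k := Nat.mul_le_mul_left _ hk2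
  omega

/-- the left points. -/
def w0 : W := Sum.inl 0

/-- the second left point. -/
def w1 : W := Sum.inl 1

theorem exists_sc2 {σ : Equiv.Perm W} (h0 : σ w0 = w0) (h1 : σ w1 = w1) :
    ∃ e : Equiv.Perm (Fin 21), σ = sc2 e := by
  have hm : Set.MapsTo σ (Set.range (Sum.inl : Fin 2 → W)) (Set.range Sum.inl) := by
    rintro _ ⟨a, rfl⟩
    fin_cases a
    · exact ⟨0, h0.symm⟩
    · exact ⟨1, h1.symm⟩
  obtain ⟨⟨σ1, σ2⟩, h⟩ := Equiv.Perm.mem_sumCongrHom_range_of_perm_mapsTo_inl hm
  refine ⟨σ2, ?_⟩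
  rw [← h]
  have e0 : σ1 0 = 0 := by
    have := h0
    rw [← h] at this
    exact Sum.inl.inj this
  have e1 : σ1 1 = 1 := by
    have := h1
    rw [← h] at this
    exact Sum.inl.inj this
  have : σ1 = Equiv.refl _ := by
    apply Equiv.ext
    intro a
    fin_cases a
    · exact e0
    · exact e1
  subst this
  rfl

theorem card_stab2_le2 :
    Nat.card (MulAction.stabilizer (MulAction.stabilizer A23 w0) w1) ≤ 20160 := by
  let f : K01 → MulAction.stabilizer (MulAction.stabilizer A23 w0) w1 :=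
    fun e => ⟨⟨⟨sc2 e.1, e.2⟩, rfl⟩, rfl⟩
  have hf : Function.Surjective f := by
    intro g
    have h0 : ((g : MulAction.stabilizer A23 w0) : A23).1 w0 = w0 := (g : MulAction.stabilizer A23 w0).2
    have h1 : ((g : MulAction.stabilizer A23 w0) : A23).1 w1 = w1 := g.2
    obtain ⟨e, he⟩ := exists_sc2 h0 h1
    have hmem : e ∈ K01 := by
      rw [mem_K01, ← he]
      exact ((g : MulAction.stabilizer A23 w0) : A23).2
    refine ⟨⟨e, hmem⟩, ?_⟩
    apply Subtype.ext
    apply Subtype.ext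
    apply Subtype.ext
    exact he.symm
  exact (Nat.card_le_card_of_surjective f hf).trans card_K01_le

/-- the automorphism group of the canonical system has at most 10200960 elements. -/
theorem card_A23_le : Nat.card A23 ≤ 10200960 := by
  have h2 := card_stab2_le2
  have h1 : Nat.card (MulAction.stabilizer A23 w0) ≤
      ((Finset.univ : Finset W).erase w0).card * 20160 := by
    apply card_le_orbit_stab w1 _ _ h2
    intro g
    rw [Finset.mem_erase]
    refine ⟨?_, Finset.mem_univ _⟩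
    intro h
    have hg : ((g : A23) : Equiv.Perm W) w0 = w0 := g.2
    have : ((g : A23) : Equiv.Perm W) w1 = ((g : A23) : Equiv.Perm W) w0 := h.trans hg.symm
    have := ((g : A23) : Equiv.Perm W).injective this
    exact absurd this (by decide)
  have hW : ((Finset.univ : Finset W).erase w0).card = 22 := by
    rw [Finset.card_erase_of_mem (Finset.mem_univ _), Finset.card_univ, card_W]
  rw [hW] at h1
  have h0 : Nat.card A23 ≤ (Finset.univ : Finset W).card * (22 * 20160) :=
    card_le_orbit_stab w0 Finset.univ (fun _ => Finset.mem_univ _) h1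
  have hW' : (Finset.univ : Finset W).card = 23 := by
    rw [Finset.card_univ]
    exact card_W
  rw [hW'] at h0
  calc Nat.card A23 ≤ 23 * (22 * 20160) := h0
    _ = 10200960 := by norm_num

end Cfsg.Agent.Lib.Helper95.St23
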