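import Cfsg.Agent.Lib.Helper95.AutTransport
import Cfsg.Agent.Lib.Helper35.GolayMask
import Cfsg.Agent.S0363
import Cfsg.Agent.S0366
import Mathlib

set_option autoImplicit false

/-! # The Steiner system S(4,7,23) derived from the octads at a point, and the action of the
point stabiliser of the group of the code on it -/

namespace Cfsg.Agent.Lib.Helper95.St23G

open Cfsg Finset MulAction
open Cfsg.Agent.Lib.Helper09 Cfsg.Agent.Lib.Helper95.St24
open scoped Pointwise

/-- the removed point. -/
def p0 : GolayPt := none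

/-- the remaining 23 points. -/
def P (x : GolayPt) : Prop := x ≠ p0

instance : DecidablePred P := fun x => inferInstanceAs (Decidable (x ≠ p0))

theorem not_P_iff {x : GolayPt} : ¬ P x ↔ x = p0 := by
  unfold P
  exact not_not

theorem not_P_p0 : ¬ P p0 := fun h => h rfl

/-- the type of the remaining 23 points. -/
abbrev Z : Type := {x : GolayPt // P x}

theorem card_Z : Fintype.card Z = 23 := by
  rw [Fintype.card_subtype]
  decide

/-- a set of the 23 points, completed by the removed point. -/
def lift (c : Finset Z) : Finset GolayPt := insert p0 (c.map (Function.Embedding.subtype P))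

theorem mem_lift {c : Finset Z} {x : GolayPt} :
    x ∈ lift c ↔ ¬ P x ∨ ∃ h : P x, (⟨x, h⟩ : Z) ∈ c := by
  unfold lift
  rw [Finset.mem_insert, Finset.mem_map]
  constructor
  · rintro (h | ⟨a, ha, hax⟩)
    · left; rw [h]; exact not_P_p0
    · right
      have : a.1 = x := hax
      subst this
      exact ⟨a.2, ha⟩
  · rintro (h | ⟨h, hc⟩)
    · exact Or.inl (not_P_iff.mp h)
    · exact Or.inr ⟨⟨x, h⟩, hc, rfl⟩

theorem p0_mem_lift (c : Finset Z) : p0 ∈ lift c := mem_lift.mpr (Or.inl not_P_p0)

theorem card_lift (c : Finset Z) : (lift c).card = c.card + 1 := by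
  unfold lift
  have h1 : p0 ∉ c.map (Function.Embedding.subtype P) := by
    intro h
    obtain ⟨a, -, ha⟩ := Finset.mem_map.mp h
    exact a.2 ha
  rw [Finset.card_insert_of_notMem h1, Finset.card_map]

theorem lift_subtype {o : Finset GolayPt} (hp : p0 ∈ o) : lift (o.subtype P) = o := by
  ext x
  rw [mem_lift]
  constructor
  · rintro (h | ⟨h, hc⟩)
    · rw [not_P_iff.mp h]; exact hp
    · exact Finset.mem_subtype.mp hc
  · intro hx
    by_cases h : P x
    · exact Or.inr ⟨h, Finset.mem_subtype.mpr hx⟩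
    · exact Or.inl h

theorem subtype_lift (c : Finset Z) : (lift c).subtype P = c := by
  ext ⟨x, h⟩
  rw [Finset.mem_subtype, mem_lift]
  constructor
  · rintro (h' | ⟨_, hc⟩)
    · exact absurd h h'
    · exact hc
  · intro hc
    exact Or.inr ⟨h, hc⟩

theorem lift_mono {s c : Finset Z} (h : s ⊆ c) : lift s ⊆ lift c := by
  intro x hx
  rw [mem_lift] at hx ⊢
  rcases hx with hx | ⟨hP, hx⟩
  · exact Or.inl hx
  · exact Or.inr ⟨hP, h hx⟩

/-- the derived system. -/
def D23 : Set (Finset Z) := {c | lift c ∈ octads}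

theorem D23_steiner : IsSteinerSystem 4 7 D23 := by
  have hS := Cfsg.Agent.S0363.result
  refine ⟨?_, ?_⟩
  · intro c hc
    have := hS.1 _ hc
    rw [card_lift] at this
    omega
  · intro s hs
    have h5 : (lift s).card = 5 := by rw [card_lift, hs]
    obtain ⟨o, ⟨ho, hso⟩, huniq⟩ := hS.2 _ h5
    have hp : p0 ∈ o := hso (p0_mem_lift s)
    refine ⟨o.subtype P, ⟨?_, ?_⟩, ?_⟩
    · show lift (o.subtype P) ∈ octads
      rw [lift_subtype hp]
      exact ho
    · rw [← subtype_lift s]
      exact Finset.subtype_mono hso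
    · rintro c ⟨hc, hsc⟩
      have := huniq _ ⟨hc, lift_mono hsc⟩
      rw [← this, subtype_lift]

/-! ### Restriction of permutations -/

/-- the permutation preserves the removed point. -/
def Pres (g : Equiv.Perm GolayPt) : Prop := ∀ x, P (g x) ↔ P x

theorem Pres.symm {g : Equiv.Perm GolayPt} (hg : Pres g) : Pres g.symm := by
  intro x
  have := hg (g.symm x)
  rw [Equiv.apply_symm_apply] at this
  exact this.symm

theorem pres_of_fix {g : Equiv.Perm GolayPt} (hp : g p0 = p0) : Pres g := by
  intro x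
  unfold P
  have h1 : g x = p0 ↔ x = p0 := by
    constructor
    · intro h; exact g.injective (h.trans hp.symm)
    · intro h; rw [h, hp]
  rw [Ne, Ne, h1]

/-- restriction to the 23 points. -/
def resZ (g : Equiv.Perm GolayPt) (hg : Pres g) : Equiv.Perm Z := g.subtypePerm hg

theorem resZ_apply (g : Equiv.Perm GolayPt) (hg : Pres g) (z : Z) : (resZ g hg z).1 = g z.1 := rfl

theorem resZ_symm (g : Equiv.Perm GolayPt) (hg : Pres g) :
    (resZ g hg).symm = resZ g.symm hg.symm := by
  apply Equiv.ext
  intro z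
  apply (resZ g hg).injective
  rw [Equiv.apply_symm_apply]
  apply Subtype.ext
  rw [resZ_apply, resZ_apply, Equiv.apply_symm_apply]

theorem lift_resZ (g : Equiv.Perm GolayPt) (hg : Pres g) (c : Finset Z) :
    lift (c.image (resZ g hg)) = (lift c).image g := by
  ext x
  rw [mem_lift, Finset.mem_image]
  constructor
  · rintro (h | ⟨h, hc⟩)
    · refine ⟨g.symm x, mem_lift.mpr (Or.inl ?_), Equiv.apply_symm_apply _ _⟩
      intro h'
      exact h ((hg.symm x).mp h')
    · obtain ⟨z, hz, hzx⟩ := Finset.mem_image.mp hc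
      refine ⟨z.1, mem_lift.mpr (Or.inr ⟨z.2, hz⟩), ?_⟩
      have := congrArg Subtype.val hzx
      rwa [resZ_apply] at this
  · rintro ⟨y, hy, rfl⟩
    rcases mem_lift.mp hy with h | ⟨h, hc⟩
    · left
      intro h'
      exact h ((hg y).mp h')
    · right
      refine ⟨(hg y).mpr h, ?_⟩
      rw [Finset.mem_image]
      exact ⟨⟨y, h⟩, hc, Subtype.ext (resZ_apply g hg _)⟩

theorem image_mem_octads {g : Equiv.Perm GolayPt} (hg : g ∈ M24) {o : Finset GolayPt}
    (ho : o ∈ octads) : o.image g ∈ octads :=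
  Cfsg.Agent.Lib.Helper35.smul_mem_octads hg ho

theorem resZ_mem {g : Equiv.Perm GolayPt} (hgM : g ∈ M24) (hg : Pres g) :
    resZ g hg ∈ setSystemAut D23 := by
  rw [mem_aut_iff]
  ext c
  rw [mem_imgSys, resZ_symm]
  show lift (c.image (resZ g.symm hg.symm)) ∈ octads ↔ lift c ∈ octads
  rw [lift_resZ]
  constructor
  · intro h
    have := image_mem_octads hgM h
    rwa [image_image_symm] at this
  · intro h
    exact image_mem_octads (M24.inv_mem hgM) h

/-! ### The point stabiliser -/

/-- the point stabiliser. -/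
abbrev G1 : Subgroup M24 := stabilizer M24 p0

theorem fix_p0 (g : G1) : (g.1.1 : Equiv.Perm GolayPt) p0 = p0 :=
  MulAction.mem_stabilizer_iff.mp g.2

/-- the action of the point stabiliser on the derived system. -/
def rho1 : G1 →* setSystemAut D23 where
  toFun g := ⟨resZ g.1.1 (pres_of_fix (fix_p0 g)), resZ_mem g.1.2 _⟩
  map_one' := by
    apply Subtype.ext
    apply Equiv.ext
    intro z
    rfl
  map_mul' g h := by
    apply Subtype.ext
    apply Equiv.ext
    intro z
    rfl

theorem rho1_apply (g : G1) (z : Z) : ((rho1 g).1 z).1 = g.1.1 z.1 := rfl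

theorem rho1_injective : Function.Injective rho1 := by
  intro g h hgh
  apply Subtype.ext
  apply Subtype.ext
  apply Equiv.ext
  intro x
  by_cases hx : P x
  · have := rho1_apply g ⟨x, hx⟩
    rw [hgh, rho1_apply] at this
    exact this.symm
  · rw [not_P_iff.mp hx, fix_p0, fix_p0]

/-- extension of a quadruple of the 23 points by the removed point. -/
def ext5fun (x : Fin 4 → Z) (i : Fin 5) : GolayPt :=
  if h : i.val < 4 then (x ⟨i.val, h⟩).1 else p0

theorem ext5fun_injective (x : Fin 4 ↪ Z) : Function.Injective (ext5fun x) := by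
  intro i j hij
  unfold ext5fun at hij
  by_cases hi : i.val < 4 <;> by_cases hj : j.val < 4
  · rw [dif_pos hi, dif_pos hj] at hij
    have := x.injective (Subtype.ext hij)
    exact Fin.ext (Fin.mk.inj_iff.mp this)
  · rw [dif_pos hi, dif_neg hj] at hij
    exact absurd hij (x ⟨i.val, hi⟩).2
  · rw [dif_neg hi, dif_pos hj] at hij
    exact absurd hij.symm (x ⟨j.val, hj⟩).2
  · apply Fin.ext
    have := i.isLt
    have := j.isLt
    omega

/-- the extension, as an embedding. -/
def ext5 (x : Fin 4 ↪ Z) : Fin 5 ↪ GolayPt := ⟨ext5fun x, ext5fun_injective x⟩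

theorem ext5_lt (x : Fin 4 ↪ Z) (i : Fin 4) : ext5 x ⟨i.val, by omega⟩ = (x i).1 := by
  show ext5fun x _ = _
  unfold ext5fun
  rw [dif_pos i.isLt]

theorem ext5_four (x : Fin 4 ↪ Z) : ext5 x ⟨4, by omega⟩ = p0 := rfl

/-- the image of the point stabiliser is 4-transitive on the 23 points. -/
theorem exists_rho1_smul (x y : Fin 4 ↪ Z) : ∃ g : G1, ∀ i, (rho1 g).1 (x i) = y i := by
  haveI := Cfsg.Agent.S0366.result
  obtain ⟨g, hg⟩ := MulAction.exists_smul_eq M24 (ext5 x) (ext5 y)
  have hval : ∀ i : Fin 5, (g.1 : Equiv.Perm GolayPt) (ext5 x i) = ext5 y i := fun i =>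
    DFunLike.congr_fun hg i
  have hp : (g.1 : Equiv.Perm GolayPt) p0 = p0 := hval ⟨4, by omega⟩
  have hg1 : g ∈ G1 := MulAction.mem_stabilizer_iff.mpr hp
  refine ⟨⟨g, hg1⟩, fun i => ?_⟩
  apply Subtype.ext
  rw [rho1_apply]
  have := hval ⟨i.val, by omega⟩
  rw [ext5_lt, ext5_lt] at this
  exact this

theorem pretrans_D23 : IsMultiplyPretransitive (setSystemAut D23) Z 4 := by
  refine ⟨fun x y => ?_⟩
  obtain ⟨g, hg⟩ := exists_rho1_smul x y
  refine ⟨rho1 g, ?_⟩
  apply DFunLike.ext
  intro i
  exact hg i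

end Cfsg.Agent.Lib.Helper95.St23G
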