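import Cfsg.Agent.Lib.Helper95.St23Aut
import Cfsg.Agent.Lib.Helper95.St23Golay
import Cfsg.Agent.S0376
import Cfsg.Agent.S0377
import Cfsg.Prelude.Def_Sporadic
import Mathlib

set_option autoImplicit false

/-! # The automorphism group of a Steiner system S(4,7,23) -/

namespace Cfsg.Agent.Lib.Helper95.St23G

open Cfsg Finset MulAction
open Cfsg.Agent.Lib.Helper95.St24 Cfsg.Agent.Lib.Helper95.St23

theorem card_aut_D23_le : Nat.card (setSystemAut D23) ≤ 10200960 := by
  have ψ : Z ≃ W := Fintype.equivOfCardEq (by rw [card_Z, card_W])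
  have h1 := imgSys_steiner D23_steiner ψ
  obtain ⟨e, he⟩ := exists_canon2 h1
  rw [imgSys_trans] at he
  rw [Nat.card_congr (autIso _ he).toEquiv]
  exact card_A23_le

theorem card_G1 : Nat.card G1 = 10200960 := Cfsg.Agent.S0376.result p0

theorem rho1_bijective : Function.Bijective rho1 := by
  apply Function.Injective.bijective_of_nat_card_le rho1_injective
  rw [card_G1]
  exact card_aut_D23_le

/-- the point stabiliser is the full automorphism group of the derived system. -/
noncomputable def rho1Equiv : G1 ≃* setSystemAut D23 := MulEquiv.ofBijective rho1 rho1_bijective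

/-- the automorphism group of a Steiner system S(4,7,23). -/
theorem aut23_general {α : Type*} [Fintype α] [DecidableEq α] (hα : Fintype.card α = 23)
    {B : Set (Finset α)} (hB : IsSteinerSystem 4 7 B) :
    IsM23 (setSystemAut B) ∧ IsMultiplyPretransitive (setSystemAut B) α 4 := by
  obtain ⟨e, he⟩ := steiner23_unique hα card_Z hB D23_steiner
  refine ⟨⟨?_, ?_⟩, pretransitive_of_iso e he 4 pretrans_D23⟩
  · haveI := Cfsg.Agent.S0377.result p0
    exact MulEquiv.isSimpleGroup ((autIso e he).trans rho1Equiv.symm)
  · rw [Nat.card_congr ((autIso e he).trans rho1Equiv.symm).toEquiv]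
    exact card_G1

end Cfsg.Agent.Lib.Helper95.St23G
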