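import Cfsg.Agent.Lib.Helper95.St24Closure
import Cfsg.Agent.Lib.Helper95.Pg24
import Cfsg.Agent.S5626
import Mathlib

set_option autoImplicit false

/-! # Steiner systems S(5,8,24) on `Fin 3 ⊕ Fin 21`: the canonical form

Every Steiner system can be moved, by a permutation of the 21 right points, to one containing
the 21 blocks `three left points + a line of the model plane` and the 168 blocks
`two left points + a hyperoval of the class named by the missing left point`. Two such systems
coincide. -/

namespace Cfsg.Agent.Lib.Helper95.St24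

open Cfsg Finset
open Cfsg.Agent.Lib.Helper09 Cfsg.Agent.Lib.Helper35 Cfsg.Agent.Lib.Helper95
open Cfsg.Agent.Lib.Helper95.Pg24

/-! ### Subsets of `Fin 3` -/

/-- the complement of a point of `Fin 3`. -/
def E3 (k : Fin 3) : Finset (Fin 3) := Finset.univ.erase k

theorem card_E3 : ∀ k : Fin 3, (E3 k).card = 2 := by decide

theorem exists_E3 : ∀ s : Finset (Fin 3), s.card = 2 → ∃ k, s = E3 k := by decide

theorem card_E3_inter : ∀ k k' : Fin 3, k ≠ k' → (E3 k ∩ E3 k').card = 1 := by decide

theorem E3_ne_univ : ∀ k : Fin 3, E3 k ≠ Finset.univ := by decide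

theorem E3_inj : ∀ k k' : Fin 3, E3 k = E3 k' → k = k' := by decide

theorem E3_sub_cases : ∀ (k : Fin 3) (s : Finset (Fin 3)), E3 k ⊆ s → s = E3 k ∨ s = Finset.univ := by
  decide

theorem eq_univ_of_card_three : ∀ s : Finset (Fin 3), s.card = 3 → s = Finset.univ := by decide

theorem card_univ3 : (Finset.univ : Finset (Fin 3)).card = 3 := by decide

/-! ### The permutations fixing the left points -/

/-- a permutation of the right points, acting on all points. -/
def sc (e : Equiv.Perm (Fin 21)) : X ≃ X := Equiv.sumCongr (Equiv.refl (Fin 3)) e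

theorem sc_symm (e : Equiv.Perm (Fin 21)) : (sc e).symm = sc e.symm := rfl

theorem sc_trans (e f : Equiv.Perm (Fin 21)) : (sc e).trans (sc f) = sc (e.trans f) := by
  apply Equiv.ext
  rintro (a | b) <;> rfl

theorem image_sc (e : Equiv.Perm (Fin 21)) (A : Finset (Fin 3)) (H : Finset (Fin 21)) :
    (A.disjSum H).image (sc e) = A.disjSum (H.image e) := by
  ext x
  rcases x with a | b
  · simp only [Finset.mem_image, Finset.inl_mem_disjSum]
    constructor
    · rintro ⟨y, hy, hxy⟩
      rcases y with a' | b'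
      · have : a' = a := Sum.inl.inj hxy
        rw [← this]
        exact Finset.inl_mem_disjSum.mp hy
      · exact absurd hxy (by simp [sc])
    · intro ha
      exact ⟨Sum.inl a, Finset.inl_mem_disjSum.mpr ha, rfl⟩
  · simp only [Finset.mem_image, Finset.inr_mem_disjSum]
    constructor
    · rintro ⟨y, hy, hxy⟩
      rcases y with a' | b'
      · exact absurd hxy (by simp [sc])
      · have : e b' = b := Sum.inr.inj hxy
        exact ⟨b', Finset.inr_mem_disjSum.mp hy, this⟩
    · rintro ⟨b', hb', rfl⟩
      exact ⟨Sum.inr b', Finset.inr_mem_disjSum.mpr hb', rfl⟩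

theorem disj_mem_imgSys {e : Equiv.Perm (Fin 21)} {B : Set (Finset X)} {A : Finset (Fin 3)}
    {H : Finset (Fin 21)} : A.disjSum H ∈ imgSys (sc e) B ↔ A.disjSum (H.image e.symm) ∈ B := by
  rw [mem_imgSys, sc_symm, image_sc]

theorem imgSys_symm_imgSys {α β : Type*} [DecidableEq α] [DecidableEq β] (e : α ≃ β)
    (B : Set (Finset α)) : imgSys e.symm (imgSys e B) = B := by
  ext c
  rw [mem_imgSys, mem_imgSys, Equiv.symm_symm, image_symm_image]

/-! ### Blocks -/

section blocks

variable {B : Set (Finset X)}

theorem card_lr (hB : IsSteinerSystem 5 8 B) {b : Finset X} (hb : b ∈ B) :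
    b.toLeft.card + b.toRight.card = 8 := by
  rw [Finset.card_toLeft_add_card_toRight]
  exact hB.1 b hb

theorem block_eq_of_parts (hB : IsSteinerSystem 5 8 B) {b c : Finset X} (hb : b ∈ B) (hc : c ∈ B)
    {A : Finset (Fin 3)} {S : Finset (Fin 21)} (h5 : 5 ≤ A.card + S.card)
    (hAb : A ⊆ b.toLeft) (hAc : A ⊆ c.toLeft) (hSb : S ⊆ b.toRight) (hSc : S ⊆ c.toRight) :
    b = c := by
  by_contra hne
  have h1 := card_inter_lt hB hb hc hne
  have h2 : A.disjSum S ⊆ b ∩ c := by
    rw [Finset.subset_inter_iff, Finset.disjSum_subset, Finset.disjSum_subset]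
    exact ⟨⟨hAb, hSb⟩, ⟨hAc, hSc⟩⟩
  have h3 := Finset.card_le_card h2
  rw [Finset.card_disjSum] at h3
  omega

theorem card_inter_disjSum (A A' : Finset (Fin 3)) (H H' : Finset (Fin 21)) :
    (A.disjSum H ∩ A'.disjSum H').card = (A ∩ A').card + (H ∩ H').card := by
  rw [inter_split, Finset.toLeft_disjSum, Finset.toLeft_disjSum, Finset.toRight_disjSum,
    Finset.toRight_disjSum]

/-- the system contains the blocks `three left points + line`. -/
def HasLines (B : Set (Finset X)) : Prop :=
  ∀ l ∈ L0, (Finset.univ : Finset (Fin 3)).disjSum l ∈ B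

/-- the system contains the blocks `two left points + hyperoval of the right class`. -/
def HasOvals (B : Set (Finset X)) : Prop :=
  ∀ k : Fin 3, ∀ H : Finset (Fin 21), m21 H ∈ cls k.val → (E3 k).disjSum H ∈ B

/-- the blocks `two left points + hyperoval` have the hyperoval in the right class. -/
def OvalsInClass (B : Set (Finset X)) : Prop :=
  ∀ k : Fin 3, ∀ H : Finset (Fin 21), (E3 k).disjSum H ∈ B → m21 H ∈ cls k.val

/-- the canonical form. -/
def IsCanon (B : Set (Finset X)) : Prop := HasLines B ∧ HasOvals B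

theorem pair_subset {s : Finset (Fin 21)} {p q : Fin 21} (hp : p ∈ s) (hq : q ∈ s) :
    ({p, q} : Finset (Fin 21)) ⊆ s := by
  intro x hx
  simp only [Finset.mem_insert, Finset.mem_singleton] at hx
  rcases hx with rfl | rfl <;> assumption

theorem triple_subset {s : Finset (Fin 21)} {p q r : Fin 21} (hp : p ∈ s) (hq : q ∈ s)
    (hr : r ∈ s) : ({p, q, r} : Finset (Fin 21)) ⊆ s := by
  intro x hx
  simp only [Finset.mem_insert, Finset.mem_singleton] at hx
  rcases hx with rfl | rfl | rfl <;> assumption

theorem card_triple {p q r : Fin 21} (hpq : p ≠ q) (hpr : p ≠ r) (hqr : q ≠ r) :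
    ({p, q, r} : Finset (Fin 21)).card = 3 := by
  rw [Finset.card_insert_of_notMem (by simp [hpq, hpr]), Finset.card_pair hqr]

theorem line_of_block (hB : IsSteinerSystem 5 8 B) (hL : HasLines B) {b : Finset X} (hb : b ∈ B)
    (h3 : b.toLeft = Finset.univ) : b.toRight ∈ L0 := by
  have hc := card_lr hB hb
  rw [h3, card_univ3] at hc
  have h5 : 1 < b.toRight.card := by omega
  obtain ⟨p, hp, q, hq, hpq⟩ := Finset.one_lt_card.mp h5
  obtain ⟨l, ⟨hl, hsl⟩, -⟩ := L0_steiner.2 {p, q} (Finset.card_pair hpq)
  have hcB := hL l hl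
  have heq : b = (Finset.univ : Finset (Fin 3)).disjSum l := by
    apply block_eq_of_parts hB hb hcB (A := Finset.univ) (S := {p, q})
    · rw [card_univ3, Finset.card_pair hpq]
    · rw [h3]
    · rw [Finset.toLeft_disjSum]
    · exact pair_subset hp hq
    · rw [Finset.toRight_disjSum]
      exact hsl
  rw [heq, Finset.toRight_disjSum]
  exact hl

theorem oval_of_block (hB : IsSteinerSystem 5 8 B) (hL : HasLines B) {k : Fin 3}
    {H : Finset (Fin 21)} (hb : (E3 k).disjSum H ∈ B) : IsOval L0 H := by
  refine ⟨?_, ?_⟩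
  · intro l hl
    have hc := hL l hl
    have hne : (E3 k).disjSum H ≠ (Finset.univ : Finset (Fin 3)).disjSum l := by
      intro h
      have := congrArg Finset.toLeft h
      rw [Finset.toLeft_disjSum, Finset.toLeft_disjSum] at this
      exact E3_ne_univ k this
    have h1 := inter_card_ne hB hb hc hne
    rw [card_inter_disjSum, Finset.inter_univ, card_E3, Finset.inter_comm] at h1
    omega
  · have := hB.1 _ hb
    rw [Finset.card_disjSum, card_E3] at this
    omega

theorem card_of_block (hB : IsSteinerSystem 5 8 B) {k : Fin 3}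
    {H : Finset (Fin 21)} (hb : (E3 k).disjSum H ∈ B) : H.card = 6 := by
  have := hB.1 _ hb
  rw [Finset.card_disjSum, card_E3] at this
  omega

theorem same_class (hB : IsSteinerSystem 5 8 B) {k : Fin 3} {H H' : Finset (Fin 21)}
    (hb : (E3 k).disjSum H ∈ B) (hb' : (E3 k).disjSum H' ∈ B) {a a' : ℕ} (ha : a < 3)
    (ha' : a' < 3) (hHa : m21 H ∈ cls a) (hHa' : m21 H' ∈ cls a') : a = a' := by
  by_contra hne
  have h1 := cls_diff ha ha' hne hHa hHa'
  rw [← card_inter_eq_popc21] at h1
  by_cases hHH : H = H'
  · rw [← hHH, Finset.inter_self, card_of_block hB hb] at h1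
    omega
  · have hbb : (E3 k).disjSum H ≠ (E3 k).disjSum H' := by
      intro h
      exact hHH (Finset.disjSum_inj.mp h).2
    have h2 := inter_card_ne hB hb hb' hbb
    rw [card_inter_disjSum, Finset.inter_self, card_E3] at h2
    omega

theorem diff_class (hB : IsSteinerSystem 5 8 B) {k k' : Fin 3} (hkk' : k ≠ k')
    {H H' : Finset (Fin 21)}
    (hb : (E3 k).disjSum H ∈ B) (hb' : (E3 k').disjSum H' ∈ B) {a : ℕ} (ha : a < 3)
    (hHa : m21 H ∈ cls a) (hHa' : m21 H' ∈ cls a) : False := by
  have hbb : (E3 k).disjSum H ≠ (E3 k').disjSum H' := by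
    intro h
    exact hkk' (E3_inj k k' (Finset.disjSum_inj.mp h).1)
  have h2 := inter_card_ne hB hb hb' hbb
  rw [card_inter_disjSum, card_E3_inter k k' hkk'] at h2
  by_cases hm : m21 H = m21 H'
  · have hHH : H = H' := by
      rw [← f21_m21 H, hm, f21_m21]
    rw [← hHH, Finset.inter_self, card_of_block hB hb] at h2
    omega
  · have h1 := cls_same ha hHa hHa' hm
    rw [← card_inter_eq_popc21] at h1
    omega

theorem left_cases (hB : IsSteinerSystem 5 8 B) {b : Finset X} (hb : b ∈ B) {k : Fin 3}
    (hk : E3 k ⊆ b.toLeft) :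
    b = (E3 k).disjSum b.toRight ∨ b = (Finset.univ : Finset (Fin 3)).disjSum b.toRight := by
  rcases E3_sub_cases k _ hk with h | h
  · left
    conv_lhs => rw [← Finset.toLeft_disjSum_toRight (u := b), h]
  · right
    conv_lhs => rw [← Finset.toLeft_disjSum_toRight (u := b), h]

theorem exists_oval_block (hB : IsSteinerSystem 5 8 B) (hL : HasLines B) (k : Fin 3) :
    ∃ H : Finset (Fin 21), (E3 k).disjSum H ∈ B := by
  have hT : ((E3 k).disjSum ({0, 1, 5} : Finset (Fin 21))).card = 5 := by
    rw [Finset.card_disjSum, card_E3]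
    rfl
  obtain ⟨b, ⟨hb, hTb⟩, -⟩ := hB.2 _ hT
  rw [Finset.disjSum_subset] at hTb
  rcases left_cases hB hb hTb.1 with h | h
  · exact ⟨b.toRight, h ▸ hb⟩
  · exfalso
    have h3 : b.toLeft = Finset.univ := by
      rw [h, Finset.toLeft_disjSum]
    have hl := line_of_block hB hL hb h3
    rw [mem_L0] at hl
    apply noncollinear_015 _ hl
    have e0 := testBit_m21 b.toRight 0
    have e1 := testBit_m21 b.toRight 1
    have e5 := testBit_m21 b.toRight 5
    have m0 : (0 : Fin 21) ∈ b.toRight := hTb.2 (by simp)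
    have m1 : (1 : Fin 21) ∈ b.toRight := hTb.2 (by simp)
    have m5 : (5 : Fin 21) ∈ b.toRight := hTb.2 (by simp)
    rw [decide_eq_true m0] at e0
    rw [decide_eq_true m1] at e1
    rw [decide_eq_true m5] at e5
    exact ⟨e0, e1, e5⟩

/-- a system with the lines and with ovals in the right classes has all the ovals. -/
theorem hasOvals_of_inClass (hB : IsSteinerSystem 5 8 B) (hL : HasLines B)
    (hC : OvalsInClass B) : HasOvals B := by
  intro k H hH
  have hall : m21 H ∈ hypAll := mem_hypAll.mpr ⟨k.val, k.isLt, hH⟩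
  have hov : IsOval L0 H := by
    have := isOval_f21 hall
    rwa [f21_m21] at this
  have h6 : 2 < H.card := by rw [hov.card]; norm_num
  obtain ⟨p, hp, q, hq, r, hr, hpq, hpr, hqr⟩ := Finset.two_lt_card.mp h6
  have hT : ((E3 k).disjSum ({p, q, r} : Finset (Fin 21))).card = 5 := by
    rw [Finset.card_disjSum, card_E3, card_triple hpq hpr hqr]
  obtain ⟨b, ⟨hb, hTb⟩, -⟩ := hB.2 _ hT
  rw [Finset.disjSum_subset] at hTb
  have h3 : 3 ≤ (b.toRight ∩ H).card := by
    have hsub : ({p, q, r} : Finset (Fin 21)) ⊆ b.toRight ∩ H :=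
      Finset.subset_inter hTb.2 (triple_subset hp hq hr)
    have := Finset.card_le_card hsub
    rwa [card_triple hpq hpr hqr] at this
  rcases left_cases hB hb hTb.1 with h | h
  · have hb' : (E3 k).disjSum b.toRight ∈ B := h ▸ hb
    have hcl := hC k _ hb'
    by_cases hm : m21 b.toRight = m21 H
    · have : b.toRight = H := by rw [← f21_m21 b.toRight, hm, f21_m21]
      rw [← this]
      exact hb'
    · exfalso
      have h1 := cls_same k.isLt hcl hH hm
      rw [← card_inter_eq_popc21] at h1
      omega
  · exfalso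
    have h3' : b.toLeft = Finset.univ := by
      rw [h, Finset.toLeft_disjSum]
    have hl := line_of_block hB hL hb h3'
    have := hov.arc _ hl
    omega

/-- blocks with at least two left points of a canonical system lie in any canonical system. -/
theorem canon_sub {B' : Set (Finset X)} (hB : IsSteinerSystem 5 8 B) (hC : IsCanon B)
    (hC' : IsCanon B') {b : Finset X} (hb : b ∈ B) (h2 : 2 ≤ b.toLeft.card) : b ∈ B' := by
  have hle := card_toLeft_le_three b
  have hlr := card_lr hB hb
  have hcase : b.toLeft.card = 3 ∨ b.toLeft.card = 2 := by omega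
  rcases hcase with h3 | h2'
  · have hu := eq_univ_of_card_three _ h3
    have hl := line_of_block hB hC.1 hb hu
    have := hC'.1 _ hl
    rw [← hu, Finset.toLeft_disjSum_toRight] at this
    exact this
  · obtain ⟨k, hk⟩ := exists_E3 _ h2'
    have h6 : 2 < b.toRight.card := by omega
    obtain ⟨p, hp, q, hq, r, hr, hpq, hpr, hqr⟩ := Finset.two_lt_card.mp h6
    have h5 : 5 ≤ (E3 k).card + ({p, q, r} : Finset (Fin 21)).card := by
      rw [card_E3, card_triple hpq hpr hqr]
    rcases triangle hpq hpr hqr with ⟨lm, hlm, h1, h2, h3⟩ | htri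
    · exfalso
      have hc := hC.1 _ (f21_mem_L0 hlm)
      have heq : b = (Finset.univ : Finset (Fin 3)).disjSum (f21 lm) := by
        apply block_eq_of_parts hB hb hc h5
        · rw [hk]
        · rw [Finset.toLeft_disjSum]
          exact Finset.subset_univ _
        · exact triple_subset hp hq hr
        · rw [Finset.toRight_disjSum]
          exact triple_subset h1 h2 h3
      rw [heq, Finset.toLeft_disjSum, card_univ3] at h2'
      omega
    · obtain ⟨m, hm, h1, h2, h3⟩ := htri k.val k.isLt
      have hmlt : m < 2 ^ 21 := hypAll_lt m (mem_hypAll.mpr ⟨k.val, k.isLt, hm⟩)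
      have hm' : m21 (f21 m) ∈ cls k.val := by
        rw [m21_f21 hmlt]
        exact hm
      have hc := hC.2 k _ hm'
      have heq : b = (E3 k).disjSum (f21 m) := by
        apply block_eq_of_parts hB hb hc h5
        · rw [hk]
        · rw [Finset.toLeft_disjSum]
        · exact triple_subset hp hq hr
        · rw [Finset.toRight_disjSum]
          exact triple_subset h1 h2 h3
      rw [heq]
      exact hC'.2 k _ hm'

/-- two canonical Steiner systems coincide. -/
theorem canon_unique {B' : Set (Finset X)} (hB : IsSteinerSystem 5 8 B)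
    (hB' : IsSteinerSystem 5 8 B') (hC : IsCanon B) (hC' : IsCanon B') : B = B' :=
  closure_eq hB hB' (fun _ hb h2 => canon_sub hB hC hC' hb h2)
    (fun _ hb h2 => canon_sub hB' hC' hC hb h2)

end blocks

end Cfsg.Agent.Lib.Helper95.St24
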