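import Cfsg.Agent.Lib.Helper95.SteinerLeech
import Cfsg.Agent.S0353
import Cfsg.Agent.S1555
import Mathlib

set_option autoImplicit false

/-! # Steiner systems S(5,8,24): transport along bijections, and the closure lemma

A Steiner system on `Fin 3 ⊕ Fin 21` is determined by its blocks meeting the three left points
in at least two points. -/

namespace Cfsg.Agent.Lib.Helper95.St24

open Cfsg Finset
open Cfsg.Agent.Lib.Helper09 Cfsg.Agent.Lib.Helper95

/-! ### Transport -/

section transport

variable {α β γ : Type*} [DecidableEq α] [DecidableEq β] [DecidableEq γ]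

/-- the image of a set system under a bijection. -/
def imgSys (e : α ≃ β) (B : Set (Finset α)) : Set (Finset β) := (fun b => b.image e) '' B

theorem image_symm_image (e : α ≃ β) (b : Finset α) : (b.image e).image e.symm = b := by
  rw [Finset.image_image]
  simp

theorem image_image_symm (e : α ≃ β) (c : Finset β) : (c.image e.symm).image e = c := by
  rw [Finset.image_image]
  simp

theorem mem_imgSys {e : α ≃ β} {B : Set (Finset α)} {c : Finset β} :
    c ∈ imgSys e B ↔ c.image e.symm ∈ B := by
  unfold imgSys
  constructor
  · rintro ⟨b, hb, rfl⟩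
    rw [image_symm_image]
    exact hb
  · intro h
    exact ⟨c.image e.symm, h, image_image_symm e c⟩

theorem image_mem_imgSys {e : α ≃ β} {B : Set (Finset α)} {b : Finset α} (hb : b ∈ B) :
    b.image e ∈ imgSys e B := ⟨b, hb, rfl⟩

theorem imgSys_trans (e : α ≃ β) (f : β ≃ γ) (B : Set (Finset α)) :
    imgSys f (imgSys e B) = imgSys (e.trans f) B := by
  ext c
  rw [mem_imgSys, mem_imgSys, mem_imgSys]
  have : (c.image f.symm).image e.symm = c.image (e.trans f).symm := by
    rw [Finset.image_image]
    rfl
  rw [this]

theorem imgSys_steiner {t k : ℕ} {B : Set (Finset α)} (hB : IsSteinerSystem t k B) (e : α ≃ β) :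
    IsSteinerSystem t k (imgSys e B) := by
  refine ⟨?_, ?_⟩
  · rintro c ⟨b, hb, rfl⟩
    rw [Finset.card_image_of_injective _ e.injective]
    exact hB.1 b hb
  · intro s hs
    have hs' : (s.image e.symm).card = t := by
      rw [Finset.card_image_of_injective _ e.symm.injective]; exact hs
    obtain ⟨b, ⟨hb, hsb⟩, huniq⟩ := hB.2 _ hs'
    refine ⟨b.image e, ⟨image_mem_imgSys hb, ?_⟩, ?_⟩
    · intro x hx
      have : e.symm x ∈ b := hsb (Finset.mem_image_of_mem _ hx)
      have h2 := Finset.mem_image_of_mem e this
      simpa using h2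
    · rintro c ⟨hc, hsc⟩
      have h1 : c.image e.symm ∈ B := mem_imgSys.mp hc
      have h2 : s.image e.symm ⊆ c.image e.symm := Finset.image_subset_image hsc
      have := huniq _ ⟨h1, h2⟩
      rw [← this, image_image_symm]

end transport

/-! ### The point set `Fin 3 ⊕ Fin 21` -/

/-- the standard point set. -/
abbrev X : Type := Fin 3 ⊕ Fin 21

theorem card_X : Fintype.card X = 24 := by
  simp [X]

section basics

variable {B : Set (Finset X)} (hB : IsSteinerSystem 5 8 B)

include hB in
theorem inter_card {b c : Finset X} (hb : b ∈ B) (hc : c ∈ B) :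
    (b ∩ c).card = 0 ∨ (b ∩ c).card = 2 ∨ (b ∩ c).card = 4 ∨ (b ∩ c).card = 8 := by
  have h1 := meetCount_pos_of_mem B b c hc
  rw [Cfsg.Agent.S1555.table card_X hB b hb (b ∩ c) Finset.inter_subset_left] at h1
  have h8 : (b ∩ c).card ≤ 8 := by
    rw [← hB.1 b hb]
    exact Finset.card_le_card Finset.inter_subset_left
  generalize (b ∩ c).card = n at h1 h8
  interval_cases n <;> first | omega | (exfalso; revert h1; decide)

include hB in
theorem inter_card_ne {b c : Finset X} (hb : b ∈ B) (hc : c ∈ B) (hne : b ≠ c) :
    (b ∩ c).card = 0 ∨ (b ∩ c).card = 2 ∨ (b ∩ c).card = 4 := by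
  rcases inter_card hB hb hc with h | h | h | h
  · exact Or.inl h
  · exact Or.inr (Or.inl h)
  · exact Or.inr (Or.inr h)
  · exfalso
    have := card_inter_lt hB hb hc hne
    omega

theorem card_split (u : Finset X) : u.card = u.toLeft.card + u.toRight.card :=
  (Finset.card_toLeft_add_card_toRight).symm

theorem inter_split (b c : Finset X) :
    (b ∩ c).card = (b.toLeft ∩ c.toLeft).card + (b.toRight ∩ c.toRight).card := by
  rw [card_split, Finset.toLeft_inter, Finset.toRight_inter]

theorem toLeft_symmDiff (b c : Finset X) : (symmDiff b c).toLeft = symmDiff b.toLeft c.toLeft := by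
  ext x
  simp [Finset.mem_symmDiff]

theorem card_toLeft_le_three (u : Finset X) : u.toLeft.card ≤ 3 := by
  have := Finset.card_le_univ u.toLeft
  simpa using this

theorem symmDiff_inter_right (b c : Finset X) : symmDiff b c ∩ c = c \ b := by
  ext x
  simp only [Finset.mem_inter, Finset.mem_symmDiff, Finset.mem_sdiff]
  tauto

theorem card_sdiff_eq (b c : Finset X) : (c \ b).card = c.card - (b ∩ c).card := by
  have := Finset.card_sdiff_add_card_inter c b
  rw [Finset.inter_comm] at this
  omega

end basics

/-! ### The closure lemma -/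

/-- A Steiner system is contained in any other one containing its blocks with at least two left
points. -/
theorem closure_sub {B1 B2 : Set (Finset X)} (h1 : IsSteinerSystem 5 8 B1)
    (h2 : IsSteinerSystem 5 8 B2) (h : ∀ b ∈ B1, 2 ≤ b.toLeft.card → b ∈ B2) : B1 ⊆ B2 := by
  intro b hb
  by_cases h2l : 2 ≤ b.toLeft.card
  · exact h b hb h2l
  have hb8 : b.card = 8 := h1.1 b hb
  -- an auxiliary block `b2` of `B1`, lying in `B2`, meeting `b` in four points, such that the
  -- symmetric difference has at least two left points
  have key : ∃ b2 ∈ B1, 2 ≤ b2.toLeft.card ∧ (b ∩ b2).card = 4 ∧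
      2 ≤ (symmDiff b b2).toLeft.card := by
    have hl : b.toLeft.card = 0 ∨ b.toLeft.card = 1 := by omega
    rcases hl with hl | hl
    · -- no left point
      have hl0 : b.toLeft = ∅ := Finset.card_eq_zero.mp hl
      have hr : 2 < b.toRight.card := by
        have := card_split b
        omega
      obtain ⟨p, hp, q, hq, r, hr', hpq, hpr, hqr⟩ := Finset.two_lt_card.mp hr
      let T : Finset X := ({0, 1} : Finset (Fin 3)).disjSum {p, q, r}
      have hT : T.card = 5 := by
        rw [Finset.card_disjSum, Finset.card_pair (by decide), Finset.card_insert_of_notMem,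
          Finset.card_pair hqr]
        simp [hpq, hpr]
      obtain ⟨b2, ⟨hb2, hTb2⟩, -⟩ := h1.2 T hT
      have hTl : ({0, 1} : Finset (Fin 3)) ⊆ b2.toLeft := (Finset.disjSum_subset.mp hTb2).1
      have hTr : ({p, q, r} : Finset (Fin 21)) ⊆ b2.toRight := (Finset.disjSum_subset.mp hTb2).2
      have hl2 : 2 ≤ b2.toLeft.card := by
        have := Finset.card_le_card hTl
        rwa [Finset.card_pair (by decide)] at this
      have hne : b ≠ b2 := by
        intro he
        rw [he] at hl0
        rw [hl0] at hl2
        simp at hl2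
      have h3 : 3 ≤ (b ∩ b2).card := by
        rw [inter_split]
        have hsub : ({p, q, r} : Finset (Fin 21)) ⊆ b.toRight ∩ b2.toRight := by
          intro x hx
          rw [Finset.mem_inter]
          refine ⟨?_, hTr hx⟩
          simp only [Finset.mem_insert, Finset.mem_singleton] at hx
          rcases hx with rfl | rfl | rfl <;> assumption
        have := Finset.card_le_card hsub
        rw [Finset.card_insert_of_notMem (by simp [hpq, hpr]), Finset.card_pair hqr] at this
        omega
      have h4 : (b ∩ b2).card = 4 := by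
        rcases inter_card_ne h1 hb hb2 hne with h | h | h <;> omega
      refine ⟨b2, hb2, hl2, h4, ?_⟩
      rw [toLeft_symmDiff, hl0]
      have : symmDiff (∅ : Finset (Fin 3)) b2.toLeft = b2.toLeft := by
        ext x
        simp [Finset.mem_symmDiff]
      rw [this]
      exact hl2
    · -- one left point
      obtain ⟨k, hk⟩ := Finset.card_eq_one.mp hl
      have hr : 1 < b.toRight.card := by
        have := card_split b
        omega
      obtain ⟨p, hp, q, hq, hpq⟩ := Finset.one_lt_card.mp hr
      let T : Finset X := (Finset.univ : Finset (Fin 3)).disjSum {p, q}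
      have hT : T.card = 5 := by
        rw [Finset.card_disjSum, Finset.card_pair hpq]
        simp
      obtain ⟨b2, ⟨hb2, hTb2⟩, -⟩ := h1.2 T hT
      have hTl : (Finset.univ : Finset (Fin 3)) ⊆ b2.toLeft := (Finset.disjSum_subset.mp hTb2).1
      have hTr : ({p, q} : Finset (Fin 21)) ⊆ b2.toRight := (Finset.disjSum_subset.mp hTb2).2
      have hl3 : b2.toLeft = Finset.univ := Finset.univ_subset_iff.mp hTl
      have hl2 : 2 ≤ b2.toLeft.card := by
        rw [hl3]; simp
      have hne : b ≠ b2 := by
        intro he
        rw [he, hl3] at hl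
        simp at hl
      have h3 : 3 ≤ (b ∩ b2).card := by
        rw [inter_split, hl3, Finset.inter_univ, hl]
        have hsub : ({p, q} : Finset (Fin 21)) ⊆ b.toRight ∩ b2.toRight := by
          intro x hx
          rw [Finset.mem_inter]
          refine ⟨?_, hTr hx⟩
          simp only [Finset.mem_insert, Finset.mem_singleton] at hx
          rcases hx with rfl | rfl <;> assumption
        have := Finset.card_le_card hsub
        rw [Finset.card_pair hpq] at this
        omega
      have h4 : (b ∩ b2).card = 4 := by
        rcases inter_card_ne h1 hb hb2 hne with h | h | h <;> omega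
      refine ⟨b2, hb2, hl2, h4, ?_⟩
      rw [toLeft_symmDiff, hl3, hk]
      have : symmDiff ({k} : Finset (Fin 3)) Finset.univ = Finset.univ \ {k} := by
        ext x
        simp [Finset.mem_symmDiff]
      rw [this, Finset.card_sdiff_of_subset (Finset.subset_univ _)]
      simp
  obtain ⟨b2, hb2, hl2, h4, hs2⟩ := key
  have hb2' : b2 ∈ B2 := h b2 hb2 hl2
  have hc : symmDiff b b2 ∈ B1 := Cfsg.Agent.S0353.result card_X h1 hb hb2 h4
  have hc' : symmDiff b b2 ∈ B2 := h _ hc hs2
  have h4' : (symmDiff b b2 ∩ b2).card = 4 := by
    rw [symmDiff_inter_right, card_sdiff_eq, h4, h1.1 b2 hb2]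
  have := Cfsg.Agent.S0353.result card_X h2 hc' hb2' h4'
  rwa [symmDiff_symmDiff_cancel_right] at this

/-- Two Steiner systems with the same blocks having at least two left points are equal. -/
theorem closure_eq {B1 B2 : Set (Finset X)} (h1 : IsSteinerSystem 5 8 B1)
    (h2 : IsSteinerSystem 5 8 B2) (h12 : ∀ b ∈ B1, 2 ≤ b.toLeft.card → b ∈ B2)
    (h21 : ∀ b ∈ B2, 2 ≤ b.toLeft.card → b ∈ B1) : B1 = B2 :=
  Set.Subset.antisymm (closure_sub h1 h2 h12) (closure_sub h2 h1 h21)

end Cfsg.Agent.Lib.Helper95.St24
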