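import Mathlib

set_option autoImplicit false

/-! # Sylow subgroups of a group of order 72 from element data -/

namespace Cfsg.Agent.Lib.Helper95

theorem fact72_3 : (72 : ℕ).factorization 3 = 2 := by decide +kernel
theorem fact72_2 : (72 : ℕ).factorization 2 = 3 := by decide +kernel

/-- In a group of order 72 where the elements of order dividing nine have order dividing three
and are at most nine, every Sylow 3-subgroup is normal, of order nine and exponent three. -/
theorem sylow3_of_72 {H : Type*} [Group H] [Finite H] (hc : Nat.card H = 72)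
    (h93 : ∀ x : H, x ^ 9 = 1 → x ^ 3 = 1) (hn : {x : H | x ^ 9 = 1}.ncard ≤ 9)
    (Q : Sylow 3 H) :
    (Q : Subgroup H).Normal ∧ Nat.card ↥Q = 9 ∧ ∀ x ∈ (Q : Subgroup H), x ^ 3 = 1 := by
  have card9 : ∀ Q : Sylow 3 H, Nat.card ↥Q = 9 := by
    intro Q
    have h := Sylow.card_eq_multiplicity Q
    rw [hc, fact72_3] at h
    exact h
  have sub : ∀ Q : Sylow 3 H, ((Q : Subgroup H) : Set H) ⊆ {x : H | x ^ 9 = 1} := by
    intro Q x hx
    have h1 : (⟨x, hx⟩ : ↥(Q : Subgroup H)) ^ Nat.card ↥(Q : Subgroup H) = 1 := pow_card_eq_one'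
    have h2 : Nat.card ↥(Q : Subgroup H) = 9 := card9 Q
    rw [h2] at h1
    exact congrArg Subtype.val h1
  have eq : ∀ Q : Sylow 3 H, ((Q : Subgroup H) : Set H) = {x : H | x ^ 9 = 1} := by
    intro Q
    apply Set.eq_of_subset_of_ncard_le (sub Q) _ (Set.toFinite _)
    have : ((Q : Subgroup H) : Set H).ncard = 9 := by
      rw [← card9 Q]
      exact (Nat.card_coe_set_eq _).symm
    rw [this]
    exact hn
  have hsub : Subsingleton (Sylow 3 H) := by
    constructor
    intro Q1 Q2
    apply Sylow.ext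
    apply SetLike.coe_injective
    rw [eq Q1, eq Q2]
  refine ⟨Sylow.normal_of_subsingleton Q, card9 Q, ?_⟩
  intro x hx
  exact h93 x (sub Q hx)

/-- In a group of order 72 containing a copy of the quaternion group of order 8, every Sylow
2-subgroup is quaternion. -/
theorem sylow2_of_72 {H : Type*} [Group H] [Finite H] (hc : Nat.card H = 72)
    (ψ : QuaternionGroup 2 →* H) (hψ : Function.Injective ψ) (P : Sylow 2 H) :
    Nonempty (↥P ≃* QuaternionGroup 2) := by
  have e0 : QuaternionGroup 2 ≃* ↥ψ.range := MonoidHom.ofInjective hψ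
  have c8 : Nat.card ↥ψ.range = 2 ^ (Nat.card H).factorization 2 := by
    rw [hc, fact72_2, ← Nat.card_congr e0.toEquiv, Nat.card_eq_fintype_card, QuaternionGroup.card]
    norm_num
  obtain ⟨g, hg⟩ := MulAction.exists_smul_eq H P (Sylow.ofCard ψ.range c8)
  have e1 : ↥P ≃* ↥(g • P : Sylow 2 H) := P.equivSMul g
  have e2 : ↥(g • P : Sylow 2 H) ≃* ↥ψ.range :=
    MulEquiv.subgroupCongr (by rw [hg]; rfl)
  exact ⟨(e1.trans e2).trans e0.symm⟩

end Cfsg.Agent.Lib.Helper95
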