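import Cfsg.Agent.Lib.Helper10.M23Gen
import Cfsg.Agent.Lib.Helper10.Tab

/-!
Explicit generating pairs of `M23` with prescribed prime orders (for S5529): a Boolean certificate.
-/

set_option autoImplicit false

namespace Cfsg.Agent.Lib.Helper95.TripleGenD

open Cfsg Cfsg.Agent.Lib.Helper10

/-- the two generators as a family indexed by `ℕ`. -/
noncomputable def vXY (wx wy : List ℕ) : ℕ → Equiv.Perm GolayPt
  | 0 => wordPerm wx
  | _ => wordPerm wy

/-- their tables. -/
def tabXY (wx wy : List ℕ) : ℕ → ℕ → ℕ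
  | 0, i => evalW wx i
  | _, i => evalW wy i

theorem isTab_wordPerm (w : List ℕ) : IsTab (wordPerm w) (evalW w) := fun p => evalW_spec w p

theorem isTab_vXY (wx wy : List ℕ) (k : ℕ) : IsTab (vXY wx wy k) (tabXY wx wy k) := by
  match k with
  | 0 => exact isTab_wordPerm wx
  | (n + 1) => exact isTab_wordPerm wy

/-- order `n` test on a table. -/
def ordOK (T : ℕ → ℕ) (n : ℕ) : Bool :=
  (List.range 24).all (fun i => T^[n] i == i) && (List.range 24).any (fun i => T i != i)

/-- the Boolean certificate. -/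
def check (p q r : ℕ) (wx wy ua uc : List ℕ) : Bool :=
  okLetters wx && okLetters wy && ordOK (evalW wx) p && ordOK (evalW wy) q &&
    ordOK (evalW wx ∘ evalW wy) r &&
    (List.range 24).all (fun i => wtab (tabXY wx wy) ua i == tbl 0 i) &&
    (List.range 24).all (fun i => wtab (tabXY wx wy) uc i == tbl 2 i)

theorem all_range {P : ℕ → Bool} (h : (List.range 24).all P = true) : ∀ i < 24, P i = true := by
  intro i hi
  rw [List.all_eq_true] at h
  exact h i (List.mem_range.mpr hi)

theorem orderOf_of_ordOK {σ : Equiv.Perm GolayPt} {T : ℕ → ℕ} (hσ : IsTab σ T) {n : ℕ}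
    (hn : n.Prime) (h : ordOK T n = true) : orderOf σ = n := by
  unfold ordOK at h
  rw [Bool.and_eq_true] at h
  obtain ⟨h1, h2⟩ := h
  have : Fact n.Prime := ⟨hn⟩
  apply orderOf_eq_prime
  · apply (hσ.pow n).eq_of IsTab.one
    intro i hi
    have := all_range h1 i hi
    simpa using this
  · rw [List.any_eq_true] at h2
    obtain ⟨i, hi, hne⟩ := h2
    have hi' : i < 24 := List.mem_range.mp hi
    intro h1'
    subst h1'
    have := hσ.tab_eq IsTab.one hi'
    simp [this] at hne

theorem wprod_mem_closure (wx wy : List ℕ) (u : List ℕ) :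
    wprod (vXY wx wy) u ∈ Subgroup.closure {wordPerm wx, wordPerm wy} := by
  induction u with
  | nil => exact Subgroup.one_mem _
  | cons k u ih =>
    show vXY wx wy k * wprod (vXY wx wy) u ∈ _
    apply Subgroup.mul_mem _ _ ih
    match k with
    | 0 => exact Subgroup.subset_closure (by simp [vXY])
    | (n + 1) => exact Subgroup.subset_closure (by simp [vXY])

theorem exists_of_check (p q r : ℕ) (hp : p.Prime) (hq : q.Prime) (hr : r.Prime)
    (wx wy ua uc : List ℕ) (h : check p q r wx wy ua uc = true) :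
    ∃ x y z : Cfsg.Spor.M23, orderOf x = p ∧ orderOf y = q ∧ orderOf z = r ∧ x * y * z = 1 ∧
        Subgroup.closure {x, y} = ⊤ := by
  unfold check at h
  simp only [Bool.and_eq_true] at h
  obtain ⟨⟨⟨⟨⟨⟨hwx, hwy⟩, hox⟩, hoy⟩, hoz⟩, hua⟩, huc⟩ := h
  have hxm : wordPerm wx ∈ Spor.M23 := K23_le_M23 (wordPerm_mem_K23 wx hwx)
  have hym : wordPerm wy ∈ Spor.M23 := K23_le_M23 (wordPerm_mem_K23 wy hwy)
  have hx : orderOf (wordPerm wx) = p := orderOf_of_ordOK (isTab_wordPerm wx) hp hox
  have hy : orderOf (wordPerm wy) = q := orderOf_of_ordOK (isTab_wordPerm wy) hq hoy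
  have hxy : orderOf (wordPerm wx * wordPerm wy) = r :=
    orderOf_of_ordOK ((isTab_wordPerm wx).mul (isTab_wordPerm wy)) hr hoz
  -- the standard generators are words in `x`, `y`
  have hgA : gA ∈ Subgroup.closure {wordPerm wx, wordPerm wy} := by
    have h1 : wprod (vXY wx wy) ua = gA := by
      apply (isTab_wprod (vXY wx wy) (tabXY wx wy) (isTab_vXY wx wy) ua).eq_of isTab_gA
      intro i hi
      have := all_range hua i hi
      simpa using this
    rw [← h1]
    exact wprod_mem_closure wx wy ua
  have hcT : cubeTwist ∈ Subgroup.closure {wordPerm wx, wordPerm wy} := by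
    have h1 : wprod (vXY wx wy) uc = cubeTwist := by
      apply (isTab_wprod (vXY wx wy) (tabXY wx wy) (isTab_vXY wx wy) uc).eq_of isTab_cubeTwist
      intro i hi
      have := all_range huc i hi
      simpa using this
    rw [← h1]
    exact wprod_mem_closure wx wy uc
  have hcl : Subgroup.closure {wordPerm wx, wordPerm wy} = Spor.M23 := by
    apply le_antisymm
    · rw [Subgroup.closure_le]
      intro g hg
      rcases hg with rfl | rfl
      · exact hxm
      · exact hym
    · rw [← K23_eq_M23]
      unfold K23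
      rw [Subgroup.closure_le]
      intro g hg
      rcases hg with rfl | rfl
      · exact hgA
      · exact hcT
  refine ⟨⟨wordPerm wx, hxm⟩, ⟨wordPerm wy, hym⟩,
    (⟨wordPerm wx, hxm⟩ * ⟨wordPerm wy, hym⟩)⁻¹, ?_, ?_, ?_, ?_, ?_⟩
  · rw [← Subgroup.orderOf_coe]; exact hx
  · rw [← Subgroup.orderOf_coe]; exact hy
  · rw [orderOf_inv, ← Subgroup.orderOf_coe]; exact hxy
  · exact mul_inv_cancel _
  · apply Subgroup.map_injective (Subgroup.subtype_injective Spor.M23)
    rw [MonoidHom.map_closure, ← MonoidHom.range_eq_map, Subgroup.range_subtype, Set.image_pair]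
    exact hcl

end Cfsg.Agent.Lib.Helper95.TripleGenD
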