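import Cfsg.Agent.Lib.Helper95.TripleGenD

/-!
The 40 explicit generating pairs of `M23` of prime orders (for S5529).  Data found by computer search
(words in helper10's generators; `ua`, `uc` are words in `x = 0`, `y = 1` for `gA`, `cubeTwist`).
-/

set_option autoImplicit false

namespace Cfsg.Agent.Lib.Helper95.TripleGenE

open Cfsg Cfsg.Agent.Lib.Helper95.TripleGenD

theorem t_2_5_11 : ∃ x y z : Cfsg.Spor.M23, orderOf x = 2 ∧ orderOf y = 5 ∧ orderOf z = 11 ∧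
    x * y * z = 1 ∧ Subgroup.closure {x, y} = ⊤ :=
  exists_of_check 2 5 11 (by norm_num) (by norm_num) (by norm_num)
    [0, 2, 0, 2, 0, 2]
    [3, 4, 0, 4, 0, 4, 3, 4, 2, 2, 2, 0, 2, 3, 2, 3, 2, 0]
    [0, 1, 1, 1, 0, 1, 0, 1, 1, 1, 0, 1, 1, 1, 1, 0, 1, 1, 1, 0, 1, 0, 1, 1, 0, 1, 0, 1, 0, 1, 0, 1, 0, 1]
    [1, 0, 1, 0, 1, 1, 1, 1, 0, 1, 1, 0, 1, 1, 0, 1, 1, 1, 0, 1, 0, 1, 0, 1, 0, 1, 1, 0, 1, 1, 0, 1, 1, 0, 1]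
    (by decide +kernel)

theorem t_2_5_23 : ∃ x y z : Cfsg.Spor.M23, orderOf x = 2 ∧ orderOf y = 5 ∧ orderOf z = 23 ∧
    x * y * z = 1 ∧ Subgroup.closure {x, y} = ⊤ :=
  exists_of_check 2 5 23 (by norm_num) (by norm_num) (by norm_num)
    [0, 0, 2, 0, 2, 0, 2, 3]
    [2, 2, 3, 4, 3, 3, 3, 3, 3, 2, 0, 0, 0, 0, 0, 2, 0, 4, 4]
    [1, 1, 0, 1, 1, 0, 1, 1, 0, 1, 1, 0, 1, 1, 0, 1, 1, 1, 1, 0, 1, 0, 1, 1, 0, 1, 0, 1, 0, 1, 1]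
    [0, 1, 1, 0, 1, 1, 0, 1, 0, 1, 0, 1, 0, 1, 1, 1, 0, 1, 1, 1, 1, 0, 1, 1, 1, 1, 0, 1, 0, 1, 0, 1, 1, 0]
    (by decide +kernel)

theorem t_2_7_7 : ∃ x y z : Cfsg.Spor.M23, orderOf x = 2 ∧ orderOf y = 7 ∧ orderOf z = 7 ∧
    x * y * z = 1 ∧ Subgroup.closure {x, y} = ⊤ :=
  exists_of_check 2 7 7 (by norm_num) (by norm_num) (by norm_num)
    [0, 2, 0, 2, 0, 2]
    [3, 3, 3, 2, 3, 3, 2, 2, 2, 0, 0, 2, 4, 0, 0, 4, 0, 0, 0]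
    [1, 0, 1, 1, 0, 1, 1, 0, 1, 0, 1, 0, 1, 1, 1, 0, 1, 1, 0, 1, 1, 0, 1, 0, 1, 1, 0, 1, 0, 1, 1]
    [1, 1, 1, 0, 1, 0, 1, 1, 0, 1, 0, 1, 1, 0, 1, 0, 1, 1, 0, 1, 1, 1, 0, 1, 0, 1, 0, 1, 1, 1, 1, 1]
    (by decide +kernel)

theorem t_2_7_11 : ∃ x y z : Cfsg.Spor.M23, orderOf x = 2 ∧ orderOf y = 7 ∧ orderOf z = 11 ∧
    x * y * z = 1 ∧ Subgroup.closure {x, y} = ⊤ :=
  exists_of_check 2 7 11 (by norm_num) (by norm_num) (by norm_num)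
    [0, 0, 2, 0, 2, 0, 2, 3]
    [3, 3, 2, 2, 0, 0, 0, 0, 2, 0, 2, 0, 2, 3, 3, 3, 3, 4, 4, 0, 0]
    [0, 1, 0, 1, 1, 0, 1, 0, 1, 0, 1, 1, 0, 1, 1, 0, 1, 1, 0, 1, 0, 1, 1, 0, 1, 0, 1, 0, 1, 0, 1, 0, 1, 1]
    [1, 0, 1, 1, 1, 0, 1, 0, 1, 0, 1, 1, 0, 1, 0, 1, 0, 1, 1, 1, 1, 1, 0, 1, 0, 1, 1, 0, 1, 0, 1, 1, 1, 1, 0, 1, 0]
    (by decide +kernel)

theorem t_2_7_23 : ∃ x y z : Cfsg.Spor.M23, orderOf x = 2 ∧ orderOf y = 7 ∧ orderOf z = 23 ∧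
    x * y * z = 1 ∧ Subgroup.closure {x, y} = ⊤ :=
  exists_of_check 2 7 23 (by norm_num) (by norm_num) (by norm_num)
    [4, 0, 2, 0, 2, 0, 2, 2]
    [2, 0, 0, 2, 0, 2, 4, 3, 3, 4, 3, 4, 3, 3, 4]
    [1, 0, 1, 0, 1, 1, 1, 0, 1, 1, 0, 1, 0, 1, 1, 1, 1, 1, 0, 1, 1, 1, 1, 1, 1, 0, 1, 0, 1, 0]
    [1, 1, 1, 0, 1, 0, 1, 1, 1, 1, 1, 0, 1, 1, 1, 1, 1, 0, 1, 0, 1, 1, 1, 1, 0, 1, 1, 0, 1, 0]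
    (by decide +kernel)

theorem t_2_11_11 : ∃ x y z : Cfsg.Spor.M23, orderOf x = 2 ∧ orderOf y = 11 ∧ orderOf z = 11 ∧
    x * y * z = 1 ∧ Subgroup.closure {x, y} = ⊤ :=
  exists_of_check 2 11 11 (by norm_num) (by norm_num) (by norm_num)
    [3, 2, 0, 2, 0, 2, 0, 0]
    [2, 3, 2, 3, 2, 0, 2, 3, 2, 3, 4, 0, 0, 0, 0, 4, 3, 4, 0, 4, 0, 4]
    [0, 1, 1, 0, 1, 1, 0, 1, 1, 1, 1, 0, 1, 0, 1, 1, 1, 0, 1, 0, 1, 1, 1, 0, 1, 0, 1, 1, 0, 1]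
    [1, 0, 1, 1, 1, 1, 1, 1, 0, 1, 1, 1, 0, 1, 1, 1, 1, 1, 1, 0, 1, 0, 1, 0, 1, 1, 1, 1, 0, 1, 0, 1, 0]
    (by decide +kernel)

theorem t_2_11_23 : ∃ x y z : Cfsg.Spor.M23, orderOf x = 2 ∧ orderOf y = 11 ∧ orderOf z = 23 ∧
    x * y * z = 1 ∧ Subgroup.closure {x, y} = ⊤ :=
  exists_of_check 2 11 23 (by norm_num) (by norm_num) (by norm_num)
    [4, 0, 2, 0, 2, 0, 2, 2]
    [0, 2, 0, 4, 4, 3, 2, 0, 2, 3, 3, 4, 4, 0, 2, 2, 3, 4, 3]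
    [1, 1, 0, 1, 1, 1, 1, 1, 0, 1, 0, 1, 1, 1, 1, 1, 0, 1, 0, 1, 1, 1, 1, 0, 1, 0, 1, 0, 1, 0]
    [0, 1, 1, 1, 0, 1, 1, 1, 0, 1, 0, 1, 1, 1, 0, 1, 1, 0, 1, 1, 1, 1, 1, 1, 1, 1, 0, 1, 0, 1, 1, 1, 1]
    (by decide +kernel)

theorem t_2_23_23 : ∃ x y z : Cfsg.Spor.M23, orderOf x = 2 ∧ orderOf y = 23 ∧ orderOf z = 23 ∧
    x * y * z = 1 ∧ Subgroup.closure {x, y} = ⊤ :=
  exists_of_check 2 23 23 (by norm_num) (by norm_num) (by norm_num)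
    [3, 2, 0, 2, 0, 2, 0, 0]
    [2, 0, 2, 0, 4, 3, 2, 0, 4, 0, 0, 2, 3, 4, 0, 2, 3, 4, 3, 4]
    [0, 1, 0, 1, 1, 0, 1, 0, 1, 0, 1, 1, 0, 1, 1, 1, 1, 1, 1, 1, 0, 1, 0, 1, 0, 1, 1, 0, 1, 1, 0, 1, 1, 1]
    [0, 1, 0, 1, 1, 1, 1, 1, 1, 1, 0, 1, 0, 1, 1, 1, 0, 1, 1, 1, 1, 1, 0, 1, 1, 0, 1]
    (by decide +kernel)

theorem t_3_3_11 : ∃ x y z : Cfsg.Spor.M23, orderOf x = 3 ∧ orderOf y = 3 ∧ orderOf z = 11 ∧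
    x * y * z = 1 ∧ Subgroup.closure {x, y} = ⊤ :=
  exists_of_check 3 3 11 (by norm_num) (by norm_num) (by norm_num)
    [4, 0, 0, 2, 0, 2, 3, 2]
    [2, 0, 0, 4, 0, 0, 0, 0, 0, 2, 0, 2, 3, 3, 3, 3, 2, 3, 3, 4]
    [1, 0, 1, 1, 0, 1, 1, 0, 1, 1, 0, 0, 1, 0, 0, 1, 0, 1, 1, 0, 1, 0, 1, 0, 1, 0, 1, 1, 0, 1, 0]
    [0, 1, 0, 1, 1, 0, 0, 1, 0, 0, 1, 0, 0, 1, 0, 0, 1, 1, 0, 1, 1, 0, 1, 0, 1, 0, 0, 1, 0, 0]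
    (by decide +kernel)

theorem t_3_3_23 : ∃ x y z : Cfsg.Spor.M23, orderOf x = 3 ∧ orderOf y = 3 ∧ orderOf z = 23 ∧
    x * y * z = 1 ∧ Subgroup.closure {x, y} = ⊤ :=
  exists_of_check 3 3 23 (by norm_num) (by norm_num) (by norm_num)
    [2, 3, 3, 4, 4, 0, 0, 0]
    [0, 4, 3, 3, 4, 3, 2, 0, 4, 4, 3, 3, 3, 2, 3, 3, 4, 0, 2, 0, 0, 2, 3]
    [0, 0, 1, 0, 0, 1, 0, 1, 1, 0, 1, 0, 0, 1, 0, 1, 0, 1, 0, 1, 0, 1, 1, 0, 1, 1, 0, 0, 1, 1, 0, 1, 1]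
    [1, 0, 1, 0, 1, 0, 0, 1, 0, 0, 1, 0, 1, 0, 1, 0, 1, 0, 1, 0, 0, 1, 0, 1, 0, 0, 1, 1, 0]
    (by decide +kernel)

theorem t_3_5_5 : ∃ x y z : Cfsg.Spor.M23, orderOf x = 3 ∧ orderOf y = 5 ∧ orderOf z = 5 ∧
    x * y * z = 1 ∧ Subgroup.closure {x, y} = ⊤ :=
  exists_of_check 3 5 5 (by norm_num) (by norm_num) (by norm_num)
    [3, 2, 3, 4, 3, 4, 4, 0]
    [4, 0, 2, 3, 2, 0, 2, 0, 3, 3, 4, 0, 0, 3, 4, 3, 4, 0, 4, 3, 2]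
    [1, 0, 1, 0, 1, 0, 0, 1, 1, 1, 0, 0, 1, 0, 1, 0, 1, 1, 0, 1, 0]
    [1, 0, 0, 1, 1, 1, 0, 1, 1, 0, 0, 1, 1, 1, 1, 0, 1, 1, 1, 0, 1, 0, 1, 1, 1, 0]
    (by decide +kernel)

theorem t_3_5_7 : ∃ x y z : Cfsg.Spor.M23, orderOf x = 3 ∧ orderOf y = 5 ∧ orderOf z = 7 ∧
    x * y * z = 1 ∧ Subgroup.closure {x, y} = ⊤ :=
  exists_of_check 3 5 7 (by norm_num) (by norm_num) (by norm_num)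
    [2, 2, 0, 2, 0, 4]
    [0, 2, 2, 3, 2, 3, 0, 0, 4, 0, 0, 4, 0, 4, 4, 3]
    [1, 1, 0, 1, 1, 0, 0, 1, 0, 0, 1, 1, 0, 1, 1, 1, 0, 0, 1, 0, 1, 0, 0, 1]
    [0, 0, 1, 1, 1, 1, 0, 1, 0, 1, 0, 1, 1, 0, 0, 1, 1, 1, 0, 1, 1, 1, 1, 0, 1, 1]
    (by decide +kernel)

theorem t_3_5_11 : ∃ x y z : Cfsg.Spor.M23, orderOf x = 3 ∧ orderOf y = 5 ∧ orderOf z = 11 ∧
    x * y * z = 1 ∧ Subgroup.closure {x, y} = ⊤ :=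
  exists_of_check 3 5 11 (by norm_num) (by norm_num) (by norm_num)
    [0, 2, 0, 2]
    [0, 0, 2, 0, 2, 2, 0, 0, 2, 3, 3, 4, 4, 3, 4, 3, 3]
    [1, 0, 1, 1, 0, 1, 1, 0, 1, 0, 1, 1, 0, 1, 0, 1, 0, 1, 1, 0]
    [1, 1, 0, 1, 1, 0, 0, 1, 0, 1, 0, 0, 1, 1, 0, 0, 1, 1, 0, 1, 1, 0, 1, 1, 1, 0]
    (by decide +kernel)

theorem t_3_5_23 : ∃ x y z : Cfsg.Spor.M23, orderOf x = 3 ∧ orderOf y = 5 ∧ orderOf z = 23 ∧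
    x * y * z = 1 ∧ Subgroup.closure {x, y} = ⊤ :=
  exists_of_check 3 5 23 (by norm_num) (by norm_num) (by norm_num)
    [3, 4, 3, 4]
    [4, 4, 3, 3, 2, 0, 4, 0, 3, 3, 2, 3, 3, 2, 3, 4, 0, 0, 2, 2]
    [1, 1, 1, 1, 0, 0, 1, 0, 0, 1, 0, 1, 1, 1, 0, 0, 1, 1, 1, 0, 1, 1, 0, 1, 1, 1, 1]
    [0, 1, 1, 0, 0, 1, 1, 0, 1, 0, 1, 1, 1, 1, 0, 0, 1, 0, 0, 1, 1, 0, 1]
    (by decide +kernel)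

theorem t_3_7_7 : ∃ x y z : Cfsg.Spor.M23, orderOf x = 3 ∧ orderOf y = 7 ∧ orderOf z = 7 ∧
    x * y * z = 1 ∧ Subgroup.closure {x, y} = ⊤ :=
  exists_of_check 3 7 7 (by norm_num) (by norm_num) (by norm_num)
    [4, 3, 3, 3, 4, 3, 2, 0, 4]
    [3, 3, 3, 4, 3]
    [1, 0, 1, 0, 0, 1, 0, 1, 0, 1, 0, 1, 1, 1, 0, 0, 1, 1, 0]
    [1, 0, 0, 1, 1, 0, 1, 1, 1, 1, 1, 0, 0, 1, 0, 1, 1, 0, 1, 1, 1, 1, 0, 1, 0]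
    (by decide +kernel)

theorem t_3_7_11 : ∃ x y z : Cfsg.Spor.M23, orderOf x = 3 ∧ orderOf y = 7 ∧ orderOf z = 11 ∧
    x * y * z = 1 ∧ Subgroup.closure {x, y} = ⊤ :=
  exists_of_check 3 7 11 (by norm_num) (by norm_num) (by norm_num)
    [3, 4, 0, 4, 4, 0, 4, 3, 2]
    [0, 0, 0, 2, 3]
    [1, 0, 1, 0, 1, 0, 1, 1, 0, 1, 0, 0, 1, 0, 1, 1, 1, 0, 1, 1, 0, 1, 0, 1, 0, 0]
    [0, 1, 1, 0, 1, 1, 0, 1, 1, 0, 1, 1, 1, 0, 1, 1, 1, 0, 1]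
    (by decide +kernel)

theorem t_3_7_23 : ∃ x y z : Cfsg.Spor.M23, orderOf x = 3 ∧ orderOf y = 7 ∧ orderOf z = 23 ∧
    x * y * z = 1 ∧ Subgroup.closure {x, y} = ⊤ :=
  exists_of_check 3 7 23 (by norm_num) (by norm_num) (by norm_num)
    [4, 0, 0, 2, 2, 0, 4, 0, 2]
    [0, 2, 0, 4, 0, 2, 0]
    [0, 1, 1, 1, 0, 1, 1, 1, 0, 1, 0, 1, 1, 0, 0, 1, 1, 0, 1, 1, 1, 0, 1, 0, 1]
    [1, 0, 1, 0, 1, 1, 1, 0, 1, 0, 0, 1, 0, 0, 1, 0, 0, 1, 1, 1, 1, 1, 1, 0]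
    (by decide +kernel)

theorem t_3_11_11 : ∃ x y z : Cfsg.Spor.M23, orderOf x = 3 ∧ orderOf y = 11 ∧ orderOf z = 11 ∧
    x * y * z = 1 ∧ Subgroup.closure {x, y} = ⊤ :=
  exists_of_check 3 11 11 (by norm_num) (by norm_num) (by norm_num)
    [4, 4, 0, 4, 0, 0, 0, 4]
    [0, 4, 4, 0, 0, 2, 0]
    [1, 0, 0, 1, 1, 1, 1, 0, 1, 1, 0, 0, 1, 0, 0, 1, 1, 0, 1, 0, 1, 1, 0, 0, 1]
    [0, 1, 1, 0, 1, 1, 1, 1, 0, 1, 0, 1, 0, 1, 1, 0, 0, 1, 1, 0, 1, 1, 1, 1, 1, 0]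
    (by decide +kernel)

theorem t_3_11_23 : ∃ x y z : Cfsg.Spor.M23, orderOf x = 3 ∧ orderOf y = 11 ∧ orderOf z = 23 ∧
    x * y * z = 1 ∧ Subgroup.closure {x, y} = ⊤ :=
  exists_of_check 3 11 23 (by norm_num) (by norm_num) (by norm_num)
    [2, 3, 3, 4, 3, 2, 0, 4, 0]
    [4, 4, 3, 4, 0]
    [0, 0, 1, 0, 1, 1, 0, 1, 1, 0, 1, 0, 0, 1, 1, 1, 0, 0, 1, 0, 0, 1, 0, 1]
    [1, 1, 1, 1, 0, 0, 1, 1, 0, 1, 1, 1, 1, 1, 0, 0, 1, 1, 1, 1, 1]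
    (by decide +kernel)

theorem t_3_23_23 : ∃ x y z : Cfsg.Spor.M23, orderOf x = 3 ∧ orderOf y = 23 ∧ orderOf z = 23 ∧
    x * y * z = 1 ∧ Subgroup.closure {x, y} = ⊤ :=
  exists_of_check 3 23 23 (by norm_num) (by norm_num) (by norm_num)
    [0, 4, 0, 2, 0, 2, 2, 3]
    [2, 3, 4, 4, 3, 2, 0]
    [0, 1, 1, 1, 0, 1, 0, 0, 1, 1, 1, 0, 1, 0, 1, 0, 0, 1, 1, 0, 0, 1, 0, 0]
    [1, 0, 1, 1, 0, 0, 1, 1, 0, 1, 1, 1, 0, 1, 1, 0, 0, 1, 1, 0, 0, 1, 0]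
    (by decide +kernel)

theorem t_5_5_5 : ∃ x y z : Cfsg.Spor.M23, orderOf x = 5 ∧ orderOf y = 5 ∧ orderOf z = 5 ∧
    x * y * z = 1 ∧ Subgroup.closure {x, y} = ⊤ :=
  exists_of_check 5 5 5 (by norm_num) (by norm_num) (by norm_num)
    [4, 3, 4, 0, 2]
    [0, 0, 2, 2, 3, 3]
    [0, 1, 1, 0, 0, 1, 1, 0, 1, 0, 1, 1, 1, 1, 0, 1, 0, 1, 1, 1, 0, 0, 0]
    [0, 0, 1, 0, 1, 0, 0, 0, 0, 1, 0, 1, 0, 1, 1, 0, 0, 0, 0, 1]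
    (by decide +kernel)

theorem t_5_5_7 : ∃ x y z : Cfsg.Spor.M23, orderOf x = 5 ∧ orderOf y = 5 ∧ orderOf z = 7 ∧
    x * y * z = 1 ∧ Subgroup.closure {x, y} = ⊤ :=
  exists_of_check 5 5 7 (by norm_num) (by norm_num) (by norm_num)
    [0, 4, 0, 0, 2, 0, 0]
    [3, 3, 2, 3]
    [1, 0, 1, 0, 0, 1, 1, 0, 1, 0, 0, 0, 0, 1, 0, 1, 1, 0, 0, 1, 1, 1, 1, 0]
    [1, 1, 0, 0, 0, 1, 0, 1, 1, 0, 0, 0, 1, 0, 1, 1, 0, 1, 0, 1, 1, 1, 0, 0]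
    (by decide +kernel)

theorem t_5_5_11 : ∃ x y z : Cfsg.Spor.M23, orderOf x = 5 ∧ orderOf y = 5 ∧ orderOf z = 11 ∧
    x * y * z = 1 ∧ Subgroup.closure {x, y} = ⊤ :=
  exists_of_check 5 5 11 (by norm_num) (by norm_num) (by norm_num)
    [4, 0, 0, 0]
    [3, 3, 3, 3, 2, 0]
    [0, 1, 1, 0, 0, 0, 0, 1, 0, 1, 1, 1, 0, 0, 1, 0, 0, 0]
    [1, 0, 0, 0, 0, 1, 1, 0, 1, 1, 0, 1, 1, 1, 0, 1, 1, 1, 1, 0, 1, 1, 0]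
    (by decide +kernel)

theorem t_5_5_23 : ∃ x y z : Cfsg.Spor.M23, orderOf x = 5 ∧ orderOf y = 5 ∧ orderOf z = 23 ∧
    x * y * z = 1 ∧ Subgroup.closure {x, y} = ⊤ :=
  exists_of_check 5 5 23 (by norm_num) (by norm_num) (by norm_num)
    [0, 2, 0, 2, 3, 4]
    [4, 0, 0, 4, 0, 2]
    [0, 1, 0, 0, 1, 0, 0, 1, 0, 1, 1, 0, 0, 1, 0, 0, 0, 1, 0, 0, 1, 0, 0, 0]
    [1, 0, 1, 0, 1, 0, 1, 1, 1, 1, 0, 0, 0, 1, 1, 1, 1, 0, 1, 0, 1, 1, 1, 0, 1, 1]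
    (by decide +kernel)

theorem t_5_7_7 : ∃ x y z : Cfsg.Spor.M23, orderOf x = 5 ∧ orderOf y = 7 ∧ orderOf z = 7 ∧
    x * y * z = 1 ∧ Subgroup.closure {x, y} = ⊤ :=
  exists_of_check 5 7 7 (by norm_num) (by norm_num) (by norm_num)
    [3, 2, 2, 3, 2, 0]
    [4, 4, 0, 0, 4, 4]
    [0, 0, 0, 0, 1, 1, 0, 0, 1, 0, 0, 1, 0, 1, 0, 0, 0, 0, 1, 1, 0, 0, 1]
    [1, 1, 0, 1, 0, 1, 0, 1, 1, 0, 1, 1, 1, 1, 1, 1, 0, 0, 1, 1, 0]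
    (by decide +kernel)

theorem t_5_7_11 : ∃ x y z : Cfsg.Spor.M23, orderOf x = 5 ∧ orderOf y = 7 ∧ orderOf z = 11 ∧
    x * y * z = 1 ∧ Subgroup.closure {x, y} = ⊤ :=
  exists_of_check 5 7 11 (by norm_num) (by norm_num) (by norm_num)
    [3, 4, 3, 3, 2, 0, 2]
    [2, 2, 0, 0, 2]
    [1, 1, 1, 1, 0, 0, 1, 0, 1, 1, 1, 0, 1, 0, 1, 1, 0, 1, 1, 0, 0, 0, 1]
    [0, 1, 0, 1, 0, 0, 0, 1, 0, 1, 1, 1, 1, 1, 1, 0, 1, 0, 1, 0, 1]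
    (by decide +kernel)

theorem t_5_7_23 : ∃ x y z : Cfsg.Spor.M23, orderOf x = 5 ∧ orderOf y = 7 ∧ orderOf z = 23 ∧
    x * y * z = 1 ∧ Subgroup.closure {x, y} = ⊤ :=
  exists_of_check 5 7 23 (by norm_num) (by norm_num) (by norm_num)
    [2, 0, 4, 0, 4, 4, 3]
    [0, 2, 2, 3, 3, 3]
    [0, 1, 1, 0, 0, 0, 0, 1, 0, 0, 0, 1, 1, 0, 1, 0, 1, 1, 0, 1, 0, 0, 1, 0]
    [1, 0, 0, 0, 0, 1, 1, 0, 0, 1, 0, 0, 0, 1, 0, 1, 0, 0, 1, 0, 1, 1, 0, 0, 0]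
    (by decide +kernel)

theorem t_5_11_11 : ∃ x y z : Cfsg.Spor.M23, orderOf x = 5 ∧ orderOf y = 11 ∧ orderOf z = 11 ∧
    x * y * z = 1 ∧ Subgroup.closure {x, y} = ⊤ :=
  exists_of_check 5 11 11 (by norm_num) (by norm_num) (by norm_num)
    [3, 4, 4]
    [2, 2, 3, 4, 0, 2]
    [1, 0, 1, 1, 1, 0, 0, 0, 1, 0, 0, 1, 1, 0, 1, 0, 1, 1, 0, 0, 1, 0]
    [0, 1, 0, 1, 1, 1, 1, 0, 1, 0, 1, 1, 0, 1, 0, 1, 0, 0, 1, 0, 1, 1, 1, 1]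
    (by decide +kernel)

theorem t_5_11_23 : ∃ x y z : Cfsg.Spor.M23, orderOf x = 5 ∧ orderOf y = 11 ∧ orderOf z = 23 ∧
    x * y * z = 1 ∧ Subgroup.closure {x, y} = ⊤ :=
  exists_of_check 5 11 23 (by norm_num) (by norm_num) (by norm_num)
    [3, 4, 0, 0, 0, 0]
    [4, 3, 2, 3, 3, 3]
    [1, 1, 0, 1, 1, 1, 0, 1, 0, 0, 1, 0, 0, 1, 1, 1, 1, 0, 0, 0, 1, 0]
    [1, 0, 0, 1, 1, 0, 0, 0, 1, 0, 0, 0, 1, 1, 1, 0, 1, 0, 1, 0, 0, 1, 1, 0]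
    (by decide +kernel)

theorem t_5_23_23 : ∃ x y z : Cfsg.Spor.M23, orderOf x = 5 ∧ orderOf y = 23 ∧ orderOf z = 23 ∧
    x * y * z = 1 ∧ Subgroup.closure {x, y} = ⊤ :=
  exists_of_check 5 23 23 (by norm_num) (by norm_num) (by norm_num)
    [0, 0, 2, 0, 0, 0, 4]
    [4, 0, 0, 2, 3]
    [0, 0, 1, 1, 1, 1, 0, 0, 1, 0, 1, 0, 1, 0, 0, 1, 0, 0, 1, 0, 0, 1, 1, 1, 1]
    [1, 1, 0, 1, 1, 1, 1, 0, 1, 0, 1, 1, 0, 0, 0, 1, 0, 1, 1, 1]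
    (by decide +kernel)

theorem t_7_7_7 : ∃ x y z : Cfsg.Spor.M23, orderOf x = 7 ∧ orderOf y = 7 ∧ orderOf z = 7 ∧
    x * y * z = 1 ∧ Subgroup.closure {x, y} = ⊤ :=
  exists_of_check 7 7 7 (by norm_num) (by norm_num) (by norm_num)
    [3, 3, 3, 4, 3]
    [4, 4, 0, 0]
    [1, 1, 1, 1, 0, 1, 1, 1, 1, 0, 0, 1, 1, 1, 0, 1, 0, 0, 0, 1, 1, 1, 0]
    [1, 0, 0, 0, 1, 0, 1, 0, 1, 0, 0, 0, 1, 1, 1, 0, 0, 1, 0, 0, 0, 0, 1, 1, 1]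
    (by decide +kernel)

theorem t_7_7_11 : ∃ x y z : Cfsg.Spor.M23, orderOf x = 7 ∧ orderOf y = 7 ∧ orderOf z = 11 ∧
    x * y * z = 1 ∧ Subgroup.closure {x, y} = ⊤ :=
  exists_of_check 7 7 11 (by norm_num) (by norm_num) (by norm_num)
    [2, 2, 0, 2, 3, 4, 0]
    [0, 2, 0, 4, 0, 2, 0]
    [0, 0, 0, 0, 0, 1, 0, 1, 0, 1, 1, 0, 1, 0, 0, 0, 0, 1, 1, 1, 1, 0, 0, 0]
    [0, 1, 0, 0, 0, 1, 1, 0, 0, 0, 0, 1, 1, 1, 0, 0, 1, 1, 1, 1, 1, 0, 1]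
    (by decide +kernel)

theorem t_7_7_23 : ∃ x y z : Cfsg.Spor.M23, orderOf x = 7 ∧ orderOf y = 7 ∧ orderOf z = 23 ∧
    x * y * z = 1 ∧ Subgroup.closure {x, y} = ⊤ :=
  exists_of_check 7 7 23 (by norm_num) (by norm_num) (by norm_num)
    [2, 0, 0, 0, 0]
    [3, 3, 4]
    [1, 0, 1, 0, 1, 0, 1, 0, 1, 0, 1, 0, 1, 0, 1, 0, 1, 0, 1, 0, 1, 0, 1, 0]
    [1, 0, 1, 1, 0, 1, 1, 0, 1, 1, 0, 1]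
    (by decide +kernel)

theorem t_7_11_11 : ∃ x y z : Cfsg.Spor.M23, orderOf x = 7 ∧ orderOf y = 11 ∧ orderOf z = 11 ∧
    x * y * z = 1 ∧ Subgroup.closure {x, y} = ⊤ :=
  exists_of_check 7 11 11 (by norm_num) (by norm_num) (by norm_num)
    [0, 0, 2, 0, 4, 0, 0]
    [0, 4, 3, 2, 2, 0]
    [1, 0, 1, 1, 1, 0, 1, 1, 0, 0, 0, 1, 1, 1, 1, 1, 0, 0, 0, 0, 1, 0, 0, 1]
    [1, 1, 1, 1, 1, 1, 0, 0, 1, 1, 0, 1, 0, 0, 1, 1, 1, 0, 1, 1, 0, 0]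
    (by decide +kernel)

theorem t_7_11_23 : ∃ x y z : Cfsg.Spor.M23, orderOf x = 7 ∧ orderOf y = 11 ∧ orderOf z = 23 ∧
    x * y * z = 1 ∧ Subgroup.closure {x, y} = ⊤ :=
  exists_of_check 7 11 23 (by norm_num) (by norm_num) (by norm_num)
    [0, 2, 0, 0]
    [3, 3, 2, 0, 2, 2, 0]
    [0, 0, 0, 0, 1, 1, 0, 1, 0, 0, 1, 1, 0, 0, 0, 0, 0, 1, 1, 0, 1, 1]
    [0, 0, 0, 1, 0, 0, 0, 1, 0, 1, 1, 1, 1, 1, 1, 1]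
    (by decide +kernel)

theorem t_7_23_23 : ∃ x y z : Cfsg.Spor.M23, orderOf x = 7 ∧ orderOf y = 23 ∧ orderOf z = 23 ∧
    x * y * z = 1 ∧ Subgroup.closure {x, y} = ⊤ :=
  exists_of_check 7 23 23 (by norm_num) (by norm_num) (by norm_num)
    [3, 2, 3, 4, 3, 4, 0]
    [0, 4, 0, 4, 3]
    [1, 1, 1, 0, 1, 1, 1, 1, 1, 0, 1, 1, 1, 0, 1, 0, 0, 0, 1, 0, 0, 1, 0]
    [1, 1, 1, 1, 0, 1, 0, 1, 0, 0, 1, 1, 1, 1, 1, 1, 0, 1, 1, 0, 1, 0, 1]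
    (by decide +kernel)

theorem t_11_11_11 : ∃ x y z : Cfsg.Spor.M23, orderOf x = 11 ∧ orderOf y = 11 ∧ orderOf z = 11 ∧
    x * y * z = 1 ∧ Subgroup.closure {x, y} = ⊤ :=
  exists_of_check 11 11 11 (by norm_num) (by norm_num) (by norm_num)
    [0, 4, 3, 2, 0, 4]
    [3, 4, 0, 4, 0, 0, 0]
    [1, 1, 0, 1, 1, 1, 0, 1, 0, 1, 1, 1, 1, 0, 1, 1, 0, 0, 0, 0, 1, 1, 1]
    [0, 0, 0, 0, 1, 0, 1, 0, 1, 0, 1, 1, 1, 1, 0, 0, 0, 1, 0, 0, 1, 1, 1]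
    (by decide +kernel)

theorem t_11_11_23 : ∃ x y z : Cfsg.Spor.M23, orderOf x = 11 ∧ orderOf y = 11 ∧ orderOf z = 23 ∧
    x * y * z = 1 ∧ Subgroup.closure {x, y} = ⊤ :=
  exists_of_check 11 11 23 (by norm_num) (by norm_num) (by norm_num)
    [2, 3, 4, 0, 2, 3]
    [4, 3, 4, 0, 2, 0]
    [1, 0, 1, 0, 1, 1, 0, 0, 0, 0, 1, 1, 0, 0, 0, 0, 0, 0, 1, 0, 0, 1, 1]
    [0, 1, 0, 1, 0, 1, 0, 1, 1, 0, 1, 1, 0, 0, 1, 1, 1, 1, 0, 0, 1, 1]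
    (by decide +kernel)

theorem t_11_23_23 : ∃ x y z : Cfsg.Spor.M23, orderOf x = 11 ∧ orderOf y = 23 ∧ orderOf z = 23 ∧
    x * y * z = 1 ∧ Subgroup.closure {x, y} = ⊤ :=
  exists_of_check 11 23 23 (by norm_num) (by norm_num) (by norm_num)
    [4, 3, 3, 3, 2, 0]
    [3, 4, 4, 0, 2, 2]
    [0, 0, 0, 1, 0, 1, 1, 0, 0, 0, 1, 1, 1, 1, 1, 1, 1, 0, 1, 1, 0, 1, 1]
    [1, 0, 1, 1, 0, 0, 0, 1, 0, 0, 0, 1, 1, 1, 1, 1, 1, 1, 0, 1]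
    (by decide +kernel)

theorem t_23_23_23 : ∃ x y z : Cfsg.Spor.M23, orderOf x = 23 ∧ orderOf y = 23 ∧ orderOf z = 23 ∧
    x * y * z = 1 ∧ Subgroup.closure {x, y} = ⊤ :=
  exists_of_check 23 23 23 (by norm_num) (by norm_num) (by norm_num)
    [3, 4, 0, 0, 2, 0]
    [0, 2, 3, 2, 0, 4, 0]
    [0, 1, 1, 0, 1, 0, 1, 0, 0, 1, 0, 1, 1, 0, 1, 1, 0, 0, 0, 1, 1, 1, 0, 1, 1]
    [1, 0, 1, 1, 1, 1, 0, 0, 1, 0, 0, 1, 1, 0, 1, 0, 0, 0, 0, 0, 0]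
    (by decide +kernel)

end Cfsg.Agent.Lib.Helper95.TripleGenE
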